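import Groth.Agent.L20.SchDesc.Main
import Groth.Agent.L20.SchDesc.Fppf
import Groth.Agent.L20.SchDesc.Sigma
import Groth.Agent.L20.QuasiAffine
import Groth.Agent.L23.Descent
import Mathlib.AlgebraicGeometry.Sites.Fpqc
import Mathlib.AlgebraicGeometry.Morphisms.Flat
import Mathlib.CategoryTheory.Sites.Over

/-!
Subfunctors of a scheme that are local for fppf coverings and closed on a covering are closed subschemes.
-/

set_option autoImplicit false
universe u

open CategoryTheory CategoryTheory.Limits AlgebraicGeometry Opposite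

set_option backward.isDefEq.respectTransparency.types false

noncomputable section

namespace Groth.L11.Magnet

variable {S : Scheme.{u}}

/-- An fppf covering family in the slice generates a covering sieve. -/
theorem ofArrows_mem_over {T : Over S} {ι : Type u} (T' : ι → Over S) (k : ∀ i, T' i ⟶ T)
    (hf : ∀ i, Flat (k i).left) (hl : ∀ i, LocallyOfFinitePresentation (k i).left)
    (hs : ∀ x : T.left, ∃ i, x ∈ Set.range (k i).left) :
    Sieve.ofArrows T' k ∈ (Scheme.fppfTopology.{u}.over S) T := by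
  rw [GrothendieckTopology.mem_over_iff, Sieve.overEquiv_ofArrows]
  exact Precoverage.generate_mem_toGrothendieck
    ((Scheme.ofArrows_mem_precoverage_iff _).2 ⟨hs, fun i => ⟨hf i, hl i⟩⟩)

/-- A subfunctor which is local and becomes closed on a covering is closed. -/
theorem exists_closed_of_cover {X U : Over S} (p : U ⟶ X) [Flat p.left] [Surjective p.left]
    [LocallyOfFinitePresentation p.left] (F : ∀ (T : Over S), (T ⟶ X) → Prop)
    (hcomp : ∀ {T T' : Over S} (k : T' ⟶ T) (x : T ⟶ X), F T x → F T' (k ≫ x))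
    (hloc : ∀ {T T' : Over S} (k : T' ⟶ T) [Flat k.left] [Surjective k.left]
      [LocallyOfFinitePresentation k.left] (x : T ⟶ X), F T' (k ≫ x) → F T x)
    (W' : Over S) (i' : W' ⟶ U) [IsClosedImmersion i'.left]
    (h : ∀ (T : Over S) (u : T ⟶ U), F T (u ≫ p) ↔ ∃ w : T ⟶ W', w ≫ i' = u) :
    ∃ (W : Over S) (i : W ⟶ X), IsClosedImmersion i.left ∧
      ∀ (T : Over S) (x : T ⟶ X), F T x ↔ ∃ w : T ⟶ W, w ≫ i = x := by
  have hex : ∀ {T : Scheme.{u}} (v : T ⟶ W'.left) (x : T ⟶ U.left),
      v ≫ i'.left ≫ p.left = x ≫ p.left → ∃ w : T ⟶ W'.left, w ≫ i'.left = x := by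
    intro T v x hvx
    let v' : Over.mk (x ≫ U.hom) ⟶ W' := Over.homMk v (by
      show v ≫ W'.hom = x ≫ U.hom
      rw [← Over.w i', ← Over.w p, reassoc_of% hvx])
    let x' : Over.mk (x ≫ U.hom) ⟶ U := Over.homMk x rfl
    have e : (v' ≫ i') ≫ p = x' ≫ p := Over.OverMorphism.ext ((Category.assoc _ _ _).trans hvx)
    obtain ⟨w, hw⟩ := (h _ x').1 (e ▸ (h _ (v' ≫ i')).2 ⟨v', rfl⟩)
    exact ⟨w.left, congrArg CommaMorphism.left hw⟩
  choose act hact using @hex
  let P : Groth.L20.SchDesc.Pre p.left i'.left :=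
    { act := act
      hom := hact
      natural := fun g v x e e' => (cancel_mono i'.left).1 (by rw [hact, Category.assoc, hact])
      self := fun v e => (cancel_mono i'.left).1 (hact _ _ _)
      comp := fun v x y e e' e'' => (cancel_mono i'.left).1 (by rw [hact, hact]) }
  obtain ⟨d⟩ := Groth.L20.SchDesc.effective_of_isIndQuasiAffineHom
    (Groth.L20.isIndQuasiAffineHom_of_isImmersion i'.left) P
  have hcl : IsClosedImmersion d.a :=
    MorphismProperty.of_isPullback_of_descendsAlong (P := @IsClosedImmersion)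
      (Q := @Surjective ⊓ @Flat ⊓ @LocallyOfFinitePresentation) d.isPullback
      ⟨⟨inferInstance, inferInstance⟩, inferInstance⟩ (inferInstanceAs (IsClosedImmersion i'.left))
  let W : Over S := Over.mk (d.a ≫ X.hom)
  let i : W ⟶ X := Over.homMk d.a rfl
  refine ⟨W, i, hcl, fun T x => ?_⟩
  let π := pullback.fst x.left p.left
  let k : Over.mk (π ≫ T.hom) ⟶ T := Over.homMk π rfl
  have : Flat k.left := inferInstanceAs (Flat π)
  have : Surjective k.left := inferInstanceAs (Surjective π)
  have : LocallyOfFinitePresentation k.left := inferInstanceAs (LocallyOfFinitePresentation π)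
  let u : Over.mk (π ≫ T.hom) ⟶ U := Over.homMk (pullback.snd _ _) (by
    show pullback.snd x.left p.left ≫ U.hom = π ≫ T.hom
    rw [← Over.w p, ← pullback.condition_assoc]
    exact congrArg (π ≫ ·) (Over.w x))
  have hu : u ≫ p = k ≫ x := Over.OverMorphism.ext pullback.condition.symm
  have : Epi π := Flat.epi_of_flat_of_surjective π
  constructor
  · intro hx
    obtain ⟨v, hv⟩ := (h _ u).1 (hu ▸ hcomp k x hx)
    have hva : (v.left ≫ d.q) ≫ d.a = π ≫ x.left := by
      rw [Category.assoc, ← d.isPullback.w, ← Category.assoc,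
        show v.left ≫ i'.left = pullback.snd _ _ from congrArg CommaMorphism.left hv]
      exact pullback.condition.symm
    obtain ⟨m, hm⟩ := Groth.L20.SchDesc.Cov.exists_desc (p := π) (v.left ≫ d.q) fun g₁ g₂ e => by
      rw [← cancel_mono d.a, Category.assoc g₁, Category.assoc g₂, hva, reassoc_of% e]
    have hma : m ≫ d.a = x.left := by rw [← cancel_epi π, ← Category.assoc, hm, hva]
    exact ⟨Over.homMk m (by show m ≫ d.a ≫ X.hom = T.hom; rw [reassoc_of% hma]; exact Over.w x),
      Over.OverMorphism.ext hma⟩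
  · rintro ⟨w, rfl⟩
    refine hloc k _ (hu ▸ (h _ u).2 ⟨Over.homMk (d.isPullback.lift (pullback.snd (w ≫ i).left p.left)
      (π ≫ w.left) ?_) ?_, ?_⟩)
    · rw [← pullback.condition]; simp [π, i]
    · show _ ≫ W'.hom = π ≫ T.hom
      rw [← Over.w i', ← Category.assoc, d.isPullback.lift_fst]
      exact Over.w u
    · exact Over.OverMorphism.ext (d.isPullback.lift_fst _ _ _)

/-- A subfunctor which is local and closed on the members of an open covering is closed. -/
theorem exists_closed_of_openCover {X : Over S} {κ : Type u} (V : κ → X.left.Opens) (hV : ∀ x, ∃ i, x ∈ V i)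
    (F : ∀ (T : Over S), (T ⟶ X) → Prop)
    (hcomp : ∀ {T T' : Over S} (k : T' ⟶ T) (x : T ⟶ X), F T x → F T' (k ≫ x))
    (hloc : ∀ {T : Over S} {ι : Type u} (T' : ι → Over S) (k : ∀ i, T' i ⟶ T),
      (∀ i, Flat (k i).left) → (∀ i, LocallyOfFinitePresentation (k i).left) →
      (∀ t : T.left, ∃ i, t ∈ Set.range (k i).left) →
      ∀ x : T ⟶ X, (∀ i, F (T' i) (k i ≫ x)) → F T x)
    (h : ∀ i, ∃ (W : Over S) (j : W ⟶ Over.mk ((V i).ι ≫ X.hom)), IsClosedImmersion j.left ∧
      ∀ (T : Over S) (v : T ⟶ Over.mk ((V i).ι ≫ X.hom)),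
        F T (v ≫ Over.homMk (V i).ι rfl) ↔ ∃ w : T ⟶ W, w ≫ j = v) :
    ∃ (W : Over S) (i : W ⟶ X), IsClosedImmersion i.left ∧
      ∀ (T : Over S) (x : T ⟶ X), F T x ↔ ∃ w : T ⟶ W, w ≫ i = x := by
  choose W j hj hjF using h
  let Vs : κ → Scheme.{u} := fun i => (V i : Scheme.{u})
  let pl : ∐ Vs ⟶ X.left := Sigma.desc fun i => (V i).ι
  let U : Over S := Over.mk (pl ≫ X.hom)
  let p : U ⟶ X := Over.homMk pl rfl
  let J : ∐ (fun i => (W i).left) ⟶ ∐ Vs := Limits.Sigma.map fun i => (j i).left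
  let W' : Over S := Over.mk (J ≫ pl ≫ X.hom)
  let i' : W' ⟶ U := Over.homMk J rfl
  have : Surjective p.left := ⟨fun x => by
    obtain ⟨i, hi⟩ := hV x
    refine ⟨Sigma.ι Vs i ⟨x, hi⟩, ?_⟩
    show (Sigma.ι Vs i ≫ pl) ⟨x, hi⟩ = x
    rw [Sigma.ι_desc]
    rfl⟩
  have : Flat p.left := IsZariskiLocalAtSource.sigmaDesc fun i => (inferInstanceAs (Flat (V i).ι))
  have : LocallyOfFinitePresentation p.left :=
    IsZariskiLocalAtSource.sigmaDesc fun i => (inferInstanceAs (LocallyOfFinitePresentation (V i).ι))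
  have : IsClosedImmersion i'.left :=
    Groth.L20.SchDesc.sigmaMap_of (P := @IsClosedImmersion) (fun i => (j i).left) hj
  refine exists_closed_of_cover p F hcomp (fun k _ _ _ x hx => ?_) W' i' fun T u => ?_
  · exact hloc (fun _ : PUnit.{u + 1} => _) (fun _ => k) (fun _ => inferInstance) (fun _ => inferInstance)
      (fun t => ⟨⟨⟩, k.left.surjective t⟩) x (fun _ => hx)
  -- the pieces of a point of the sum
  let T' : κ → Over S := fun i => Over.mk (pullback.fst u.left (Sigma.ι Vs i) ≫ T.hom)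
  let k : ∀ i, T' i ⟶ T := fun i => Over.homMk (pullback.fst u.left (Sigma.ι Vs i)) rfl
  have hk : ∀ t : T.left, ∃ i, t ∈ Set.range (k i).left := by
    intro t
    obtain ⟨i, y, hy⟩ := Groth.L20.SchDesc.exists_sigmaι_eq (u.left t)
    obtain ⟨z, hz, -⟩ := Scheme.Pullback.exists_preimage_pullback (f := u.left) (g := Sigma.ι Vs i) t y hy.symm
    exact ⟨i, z, hz⟩
  let v : ∀ i, T' i ⟶ Over.mk ((V i).ι ≫ X.hom) := fun i =>
    Over.homMk (pullback.snd u.left (Sigma.ι Vs i)) (by
      show pullback.snd u.left (Sigma.ι Vs i) ≫ (V i).ι ≫ X.hom = pullback.fst u.left _ ≫ T.hom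
      rw [← Over.w u, pullback.condition_assoc]
      show _ = _ ≫ Sigma.ι Vs i ≫ pl ≫ X.hom
      rw [Sigma.ι_desc_assoc])
  have hv : ∀ i, v i ≫ Over.homMk (V i).ι rfl = k i ≫ u ≫ p := fun i => Over.OverMorphism.ext (by
    show pullback.snd u.left (Sigma.ι Vs i) ≫ (V i).ι = pullback.fst u.left _ ≫ u.left ≫ pl
    rw [pullback.condition_assoc, Sigma.ι_desc])
  constructor
  · intro hu
    have hw : ∀ i, ∃ w : T' i ⟶ W i, w ≫ j i = v i := fun i =>
      (hjF i _ (v i)).1 (hv i ▸ hcomp (k i) _ hu)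
    choose w hw using hw
    let 𝒰 : T.left.OpenCover := (sigmaOpenCover Vs).pullback₁ u.left
    have : Mono J := inferInstanceAs (Mono i'.left)
    let g : ∀ i : κ, pullback u.left (Sigma.ι Vs i) ⟶ W'.left := fun i =>
      (w i).left ≫ Sigma.ι (fun i => (W i).left) i
    have hg : ∀ i : κ, g i ≫ J = pullback.fst u.left (Sigma.ι Vs i) ≫ u.left := by
      intro i
      simp only [g, Category.assoc, J, Sigma.ι_map]
      rw [← Category.assoc (w i).left,
        show (w i).left ≫ (j i).left = (v i).left from congrArg CommaMorphism.left (hw i)]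
      exact pullback.condition.symm
    let G := 𝒰.glueMorphisms (fun i => g i) fun a b => by
      refine (cancel_mono J).1 ?_
      rw [Category.assoc, Category.assoc]
      exact (congrArg (pullback.fst (𝒰.f a) (𝒰.f b) ≫ ·) (hg a)).trans
        ((pullback.condition_assoc u.left).trans (congrArg (pullback.snd (𝒰.f a) (𝒰.f b) ≫ ·) (hg b)).symm)
    have hG : G ≫ J = u.left := 𝒰.hom_ext _ _ fun i => by
      rw [Scheme.Cover.ι_glueMorphisms_assoc]
      exact hg i
    exact ⟨Over.homMk G (by show G ≫ J ≫ pl ≫ X.hom = T.hom; rw [reassoc_of% hG]; exact Over.w u),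
      Over.OverMorphism.ext hG⟩
  · rintro ⟨w, rfl⟩
    refine hloc T' k (fun i => inferInstanceAs (Flat (pullback.fst _ _)))
      (fun i => inferInstanceAs (LocallyOfFinitePresentation (pullback.fst _ _))) hk _ fun i => ?_
    rw [← hv i]
    have hpb := Groth.L20.SchDesc.isPullback_sigmaMap (fun i => (j i).left) i
    refine (hjF i _ (v i)).2 ⟨Over.homMk
      (hpb.lift (pullback.snd (w ≫ i').left (Sigma.ι Vs i))
        (pullback.fst (w ≫ i').left (Sigma.ι Vs i) ≫ w.left) ?_) ?_, ?_⟩
    · rw [Category.assoc]; exact pullback.condition.symm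
    · rw [← Over.w (j i), ← Category.assoc, hpb.lift_fst]
      exact Over.w (v i)
    · exact Over.OverMorphism.ext (hpb.lift_fst _ _ _)

end Groth.L11.Magnet
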