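import Groth.Prelude.Def_Magnet3
import Mathlib.CategoryTheory.Limits.Types.Pullbacks
import Mathlib.AlgebraicGeometry.Morphisms.SchemeTheoreticallyDominant
import Mathlib.AlgebraicGeometry.Morphisms.ClosedImmersion
import Mathlib.AlgebraicGeometry.Morphisms.Flat

/-!
Factorisation through closed subschemes along schematically dominant monoid maps.
-/

set_option autoImplicit false
universe u

open CategoryTheory CategoryTheory.Limits MonoidalCategory CartesianMonoidalCategory MonObj AlgebraicGeometry Opposite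

set_option backward.isDefEq.respectTransparency.types false

noncomputable section

namespace Groth.L11.Magnet

/-- Factor through a closed subscheme what factors on a schematically dominant piece. -/
theorem exists_factor_closed {P Q X Z : Scheme.{u}} (q : P ⟶ Q) [IsSchemeTheoreticallyDominant q] (φ : Q ⟶ X)
    (j : Z ⟶ X) [IsClosedImmersion j] (l : P ⟶ Z) (hl : l ≫ j = q ≫ φ) : ∃ φ' : Q ⟶ Z, φ' ≫ j = φ := by
  let i := pullback.fst φ j
  have e : pullback.lift q l hl.symm ≫ i = q := pullback.lift_fst _ _ _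
  have hk : i.ker = ⊥ := by
    refine le_bot_iff.1 ?_
    calc i.ker ≤ (pullback.lift q l hl.symm ≫ i).ker := Scheme.Hom.le_ker_comp _ _
      _ = ⊥ := by rw [e]; exact q.ker_eq_bot
  have : IsIso i := IsClosedImmersion.isIso_iff_ker_eq_bot.2 hk
  exact ⟨inv i ≫ pullback.snd φ j, by rw [Category.assoc, ← pullback.condition, IsIso.inv_hom_id_assoc]⟩

variable {k : Type u} [Field k]


theorem flat_of_field (Z : Over (Spec (CommRingCat.of k))) : Flat Z.hom := by
  refine (HasRingHomProperty.iff_exists_appLE (P := @Flat) (Q := RingHom.Flat)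
    (RingHom.Flat.stableUnderComposition.stableUnderCompositionWithLocalizationAway
      RingHom.Flat.holdsForLocalizationAway).1).mpr fun x => ?_
  obtain ⟨_, ⟨W, hW, rfl⟩, hxW, -⟩ := Z.left.isBasis_affineOpens.exists_subset_of_mem_open
    (Set.mem_univ x) isOpen_univ
  refine ⟨⟨⊤, isAffineOpen_top _⟩, ⟨W, hW⟩, hxW, le_top, ?_⟩
  let φ : k →+* Γ(Z.left, W) := ((Scheme.ΓSpecIso (CommRingCat.of k)).inv ≫ Z.hom.appLE ⊤ W le_top).hom
  have hφ : φ.Flat := by
    letI := φ.toAlgebra
    exact (inferInstance : Module.Flat k Γ(Z.left, W))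
  have h2 := RingHom.Flat.respectsIso.2 φ (Scheme.ΓSpecIso (CommRingCat.of k)).commRingCatIsoToRingEquiv hφ
  have h3 : φ.comp (Scheme.ΓSpecIso (CommRingCat.of k)).commRingCatIsoToRingEquiv.toRingHom =
      (Z.hom.appLE ⊤ W le_top).hom := by
    ext z
    exact congrArg (Z.hom.appLE ⊤ W le_top) ((Scheme.ΓSpecIso (CommRingCat.of k)).hom_inv_id_apply z)
  exact h3 ▸ h2

variable {M G Z : Over (Spec (CommRingCat.of k))} (i : G ⟶ M)

theorem isPullback_whiskerRight (Z : Over (Spec (CommRingCat.of k))) :
    IsPullback (fst G Z).left (i ▷ Z).left i.left (fst M Z).left := by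
  have e1 : (i ▷ Z).left ≫ (snd M Z).left = (snd G Z).left := by rw [← Over.comp_left, whiskerRight_snd]
  refine IsPullback.of_bot ?_ ?_ (IsPullback.of_hasPullback M.hom Z.hom)
  · rw [show i.left ≫ M.hom = G.hom from Over.w i]
    erw [e1]
    exact IsPullback.of_hasPullback G.hom Z.hom
  · rw [← Over.comp_left, ← Over.comp_left, whiskerRight_fst]

theorem isSchemeTheoreticallyDominant_whiskerRight [QuasiCompact i.left] [IsSchemeTheoreticallyDominant i.left]
    (Z : Over (Spec (CommRingCat.of k))) : IsSchemeTheoreticallyDominant (i ▷ Z).left := by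
  have : Flat Z.hom := flat_of_field Z
  have : Flat (fst M Z).left := inferInstanceAs (Flat (pullback.fst M.hom Z.hom))
  exact IsSchemeTheoreticallyDominant.of_isPullback (isPullback_whiskerRight i Z)

/-- Factor equivariant families through closed subobjects. -/
theorem exists_factor_whiskerRight [QuasiCompact i.left] [IsSchemeTheoreticallyDominant i.left]
    {W X' Z' : Over (Spec (CommRingCat.of k))} (φ : M ⊗ W ⟶ X') (j : Z' ⟶ X') [IsClosedImmersion j.left] (l : G ⊗ W ⟶ Z')
    (hl : l ≫ j = (i ▷ W) ≫ φ) : ∃ φ' : M ⊗ W ⟶ Z', φ' ≫ j = φ := by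
  have := isSchemeTheoreticallyDominant_whiskerRight i W
  obtain ⟨f, hf⟩ := exists_factor_closed (i ▷ W).left φ.left j.left l.left (congrArg CommaMorphism.left hl)
  exact ⟨Over.homMk f (by rw [← Over.w j, ← Category.assoc, hf, Over.w φ]), Over.OverMorphism.ext hf⟩

theorem mono_of_isClosedImmersion {X' Z' : Over (Spec (CommRingCat.of k))} (j : Z' ⟶ X') [IsClosedImmersion j.left] : Mono j :=
  Over.mono_of_mono_left j

end Groth.L11.Magnet

namespace Groth.L11.Magnet

open _root_.Magnet

variable {k : Type u} [Field k]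


/-- A closed subscheme stable under a schematically dense group is stable under the monoid. -/
theorem exists_monAct_extend {M G X Z : Over (Spec (CommRingCat.of k))} [MonObj M] [GrpObj G] (i : G ⟶ M) [IsMonHom i]
    [QuasiCompact i.left] [IsSchemeTheoreticallyDominant i.left]
    (a : MonAct M X) (b : MonAct G Z) (j : Z ⟶ X) [IsClosedImmersion j.left]
    (hj : MonAct.IsEquivariant b (a.restrict i) j) :
    ∃ c : MonAct M Z, MonAct.IsEquivariant c a j ∧ c.restrict i = b := by
  have := mono_of_isClosedImmersion j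
  have hl : b.act ≫ j = (i ▷ Z) ≫ (M ◁ j) ≫ a.act := by
    rw [show b.act ≫ j = _ from hj, MonAct.restrict_act, ← whisker_exchange_assoc]
  obtain ⟨act, hact⟩ := exists_factor_whiskerRight i ((M ◁ j) ≫ a.act) j b.act hl
  have hp : ∀ (T : Over (Spec (CommRingCat.of k))) (g : T ⟶ M) (x : T ⟶ Z), (lift g x ≫ act) ≫ j = lift g (x ≫ j) ≫ a.act := fun T g x => by
    rw [Category.assoc, hact, lift_whiskerLeft_assoc]
  refine ⟨MonAct.mk' act (fun T x => ?_) (fun T g h x => ?_), ?_, ?_⟩
  · rw [← cancel_mono j, hp, a.lift_one_act]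
  · rw [← cancel_mono j, hp, hp, hp, a.lift_mul_act]
  · exact hact
  · refine MonAct.ext' ?_
    rw [MonAct.restrict_act, MonAct.mk'_act, ← cancel_mono j, Category.assoc, hact, hl]

/-- Restriction to the unit cuts out families in closed stable subschemes. -/
theorem isPullback_evalAt_one {M G X Z : Over (Spec (CommRingCat.of k))} [MonObj M] [GrpObj G] (i : G ⟶ M) [IsMonHom i]
    [QuasiCompact i.left] [IsSchemeTheoreticallyDominant i.left]
    (aX : MonAct G X) (aZ : MonAct G Z) (j : Z ⟶ X) [IsClosedImmersion j.left]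
    (hj : MonAct.IsEquivariant aZ aX j) :
    IsPullback
      (MonAct.eqvHom.postcomp ((MonAct.regular M).restrict i) j hj)
      (MonAct.eqvHom.evalAt ((MonAct.regular M).restrict i) aZ η[M])
      (MonAct.eqvHom.evalAt ((MonAct.regular M).restrict i) aX η[M])
      (yoneda.map j) := by
  have := mono_of_isClosedImmersion j
  refine IsPullback.of_forall_isPullback_app fun T => ?_
  rw [Limits.Types.isPullback_iff]
  refine ⟨?_, ?_, ?_⟩
  · ext φ
    exact (Category.assoc _ _ _).symm
  · rintro φ ψ ⟨e1, -⟩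
    exact Subtype.ext ((cancel_mono j).1 (congrArg Subtype.val e1))
  · intro φ z e
    have e' : lift (toUnit (unop T) ≫ η[M]) (𝟙 (unop T)) ≫ φ.1 = z ≫ j := e
    have hl : ((G ◁ z) ≫ aZ.act) ≫ j = (i ▷ unop T) ≫ φ.1 := by
      apply hom_ext_lift₂
      intro T' g t
      rw [Category.assoc, show aZ.act ≫ j = _ from hj, lift_whiskerLeft_assoc, lift_whiskerLeft_assoc,
        lift_whiskerRight_assoc]
      have h := (MonAct.mem_eqvHom_iff φ.1).1 φ.2 T' g 1 t
      rw [MonAct.lift_restrict_act, MonAct.lift_regular_act, _root_.mul_one] at h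
      rw [h]
      congr 2
      rw [Category.assoc, ← e', comp_lift_assoc, Category.comp_id, ← Category.assoc t, comp_toUnit, ← Hom.one_def]
    obtain ⟨ψ, hψ⟩ := exists_factor_whiskerRight i φ.1 j _ hl
    have hψe : MonAct.IsEquivariant (((MonAct.regular M).restrict i).prod (MonAct.trivial G (unop T))) aZ ψ := by
      rw [MonAct.mem_eqvHom_iff]
      intro T' g b t
      rw [← cancel_mono j, Category.assoc, hψ, Category.assoc, show aZ.act ≫ j = _ from hj, lift_whiskerLeft_assoc,
        Category.assoc, hψ]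
      exact (MonAct.mem_eqvHom_iff φ.1).1 φ.2 T' g b t
    refine ⟨⟨ψ, hψe⟩, Subtype.ext hψ, ?_⟩
    show lift (toUnit (unop T) ≫ η[M]) (𝟙 (unop T)) ≫ ψ = z
    rw [← cancel_mono j, Category.assoc, hψ, e']

end Groth.L11.Magnet
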