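import Mathlib.LinearAlgebra.SymmetricAlgebra.Basic
import Mathlib.RingTheory.Smooth.Basic
import Mathlib.RingTheory.Smooth.Kaehler
import Mathlib.RingTheory.Ideal.Cotangent
import Mathlib.RingTheory.FiniteType
import Mathlib.RingTheory.Kaehler.Basic

/-!
A positively graded formally smooth algebra of finite type is a symmetric algebra over its degree-zero part.
-/

set_option autoImplicit false
universe u

open Polynomial

noncomputable section

namespace Groth.L11.Magnet

/-- Retracts of formally smooth algebras are formally smooth. -/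
theorem formallySmooth_of_retract {R C B : Type u} [CommRing R] [CommRing C] [CommRing B] [Algebra R C]
    [Algebra R B] [Algebra.FormallySmooth R C] (σ : B →ₐ[R] C) (π : C →ₐ[R] B) (h : ∀ b, π (σ b) = b) :
    Algebra.FormallySmooth R B := by
  refine Algebra.FormallySmooth.of_comp_surjective fun D _ _ I hI g => ?_
  obtain ⟨l, hl⟩ := Algebra.FormallySmooth.exists_lift I ⟨2, hI⟩ (g.comp π)
  exact ⟨l.comp σ, by rw [← AlgHom.comp_assoc, hl]; exact AlgHom.ext fun b => congrArg g (h b)⟩

open scoped TensorProduct in
/-- The conormal module of a section of a smooth retraction is finite projective. -/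
theorem finite_projective_cotangent {R C B : Type u} [CommRing R] [CommRing C] [CommRing B] [Algebra R C]
    [Algebra R B] [Algebra C B] [IsScalarTower R C B] [Algebra B C] [Algebra.FormallySmooth R C]
    [Algebra.FormallySmooth R B] [Algebra.FiniteType R C]
    (hsec : ∀ b, algebraMap C B (algebraMap B C b) = b) :
    Module.Finite B (RingHom.ker (algebraMap C B)).Cotangent ∧
      Module.Projective B (RingHom.ker (algebraMap C B)).Cotangent := by
  have hsurj : Function.Surjective (algebraMap C B) := fun b => ⟨_, hsec b⟩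
  obtain ⟨l, hl⟩ := (Algebra.FormallySmooth.iff_split_injection (R := R) (P := C) (A := B) hsurj).1 inferInstance
  let k := KaehlerDifferential.kerCotangentToTensor R C B
  have hT : ∀ (b : B) (x : B ⊗[C] Ω[C⁄R]), b • x = algebraMap B C b • x := fun b x => by
    rw [← algebraMap_smul B (algebraMap B C b) x, hsec]
  let lB : B ⊗[C] Ω[C⁄R] →ₗ[B] (RingHom.ker (algebraMap C B)).Cotangent :=
    { toFun := l, map_add' := map_add l,
      map_smul' := fun b x => by
        rw [hT, map_smul, RingHom.id_apply, algebraMap_smul] }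
  let kB : (RingHom.ker (algebraMap C B)).Cotangent →ₗ[B] B ⊗[C] Ω[C⁄R] :=
    { toFun := k, map_add' := map_add k,
      map_smul' := fun b x => by
        rw [RingHom.id_apply, hT, ← map_smul, algebraMap_smul] }
  have h : lB ∘ₗ kB = LinearMap.id := LinearMap.ext fun x => LinearMap.congr_fun hl x
  exact ⟨Module.Finite.of_surjective lB fun x => ⟨kB x, LinearMap.congr_fun h x⟩, Module.Projective.of_split kB lB h⟩

variable {R B C : Type u} [CommRing R] [CommRing B] [CommRing C] [Algebra R B] [Algebra R C] [Algebra B C]
  [IsScalarTower R B C]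

/-- The data of a positive grading with degree-zero part `B`. -/
structure PosGrading (π : C →ₐ[B] B) (δ : C →+* Polynomial C) : Prop where
  eval_zero : ∀ x, (δ x).coeff 0 = algebraMap B C (π x)
  eval_one : ∀ x, (δ x).eval 1 = x
  idem : ∀ x k, δ ((δ x).coeff k) = monomial k ((δ x).coeff k)
  base : ∀ b, δ (algebraMap B C b) = Polynomial.C (algebraMap B C b)

variable {π : C →ₐ[B] B} {δ : C →+* Polynomial C}

theorem PosGrading.exists_linearSection (h : PosGrading π δ) [Module.Projective B (RingHom.ker π.toRingHom).Cotangent]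
    [Module.Finite B (RingHom.ker π.toRingHom).Cotangent] :
    ∃ s : (RingHom.ker π.toRingHom).Cotangent →ₗ[B] C,
      (∀ p, ∃ y : (RingHom.ker π.toRingHom), (y : C) = s p ∧ (RingHom.ker π.toRingHom).toCotangent y = p) ∧
      (∀ k x, ∀ hx : x ∈ RingHom.ker π.toRingHom, ∃ p : (RingHom.ker π.toRingHom).Cotangent, ∃ r : C,
        (δ x).coeff k = s p + r ∧ (δ r).coeff k = r ∧ ∃ z ∈ RingHom.ker π.toRingHom ^ 2, (δ z).coeff k = r) := by
  classical
  let J := RingHom.ker π.toRingHom
  have hmem : ∀ {x : C}, x ∈ J ↔ π x = 0 := Iff.rfl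
  have hlin : ∀ (k : ℕ) (b : B) (x : C), (δ (b • x)).coeff k = b • (δ x).coeff k := fun k b x => by
    rw [Algebra.smul_def, map_mul, h.base, coeff_C_mul, Algebra.smul_def]
  have hJ : ∀ k x, x ∈ J → (δ x).coeff k ∈ J := by
    intro k x hx
    rw [hmem] at hx ⊢
    have h1 := congrArg (fun z => z.coeff 0) (h.idem x k)
    simp only [h.eval_zero] at h1
    rw [coeff_monomial] at h1
    by_cases hk : k = 0
    · subst hk
      rw [if_pos rfl, h.eval_zero, hx, map_zero, map_zero, map_zero] at h1
      rw [h.eval_zero, hx, map_zero, map_zero]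
    · rw [if_neg hk] at h1
      have := congrArg π h1
      rwa [AlgHom.commutes, map_zero] at this
  have hJ2 : ∀ k x, x ∈ J ^ 2 → (δ x).coeff k ∈ J ^ 2 := by
    intro k x hx
    rw [pow_two] at hx ⊢
    induction hx using Submodule.mul_induction_on' with
    | mem_mul_mem a ha b hb =>
      rw [map_mul, coeff_mul]
      exact Ideal.sum_mem _ fun i _ => Ideal.mul_mem_mul (hJ _ a ha) (hJ _ b hb)
    | add a _ b _ ha hb =>
      rw [map_add, coeff_add]
      exact Ideal.add_mem _ ha hb
  let D : ℕ → J.restrictScalars B →ₗ[B] J.restrictScalars B := fun k =>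
    { toFun := fun x => ⟨(δ x).coeff k, hJ k x x.2⟩
      map_add' := fun x y => Subtype.ext (by simp)
      map_smul' := fun b x => Subtype.ext (hlin k b x) }
  let q : J.restrictScalars B →ₗ[B] J.Cotangent :=
    { toFun := fun x => J.toCotangent ⟨x, x.2⟩
      map_add' := fun x y => map_add J.toCotangent _ _
      map_smul' := fun b x => by
        rw [RingHom.id_apply, ← algebraMap_smul C b (J.toCotangent _), ← map_smul]
        exact congrArg J.toCotangent (Subtype.ext (Algebra.smul_def b (x : C))) }
  have hq : Function.Surjective q := fun p => by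
    obtain ⟨y, rfl⟩ := J.toCotangent_surjective p
    exact ⟨⟨y, y.2⟩, rfl⟩
  obtain ⟨s₀, hs₀⟩ := Module.projective_lifting_property q LinearMap.id hq
  have hs₀' : ∀ p, q (s₀ p) = p := LinearMap.congr_fun hs₀
  let P : ℕ → J.Cotangent →ₗ[B] J.Cotangent := fun k => q ∘ₗ D k ∘ₗ s₀
  have hP : ∀ k x, P k (q x) = q (D k x) := by
    intro k x
    have hsub : ((s₀ (q x) : C) - x) ∈ J ^ 2 := (J.toCotangent_eq).1 (hs₀' (q x))
    refine (J.toCotangent_eq).2 ?_
    show (δ (s₀ (q x) : C)).coeff k - (δ (x : C)).coeff k ∈ J ^ 2
    rw [← coeff_sub, ← map_sub]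
    exact hJ2 k _ hsub
  have hsumD : ∀ (x : J.restrictScalars B) (n : ℕ), (δ (x : C)).natDegree < n →
      ∑ k ∈ Finset.range n, D k x = x := by
    intro x n hn
    apply Subtype.ext
    rw [Submodule.coe_sum]
    show ∑ k ∈ Finset.range n, (δ (x : C)).coeff k = x
    conv_rhs => rw [← h.eval_one x, eval_eq_sum_range' hn]
    simp
  have hbound : ∀ p, ∃ n, ∀ m, n ≤ m → ∑ k ∈ Finset.range m, P k p = p := fun p => by
    refine ⟨(δ (s₀ p : C)).natDegree + 1, fun m hm => ?_⟩
    show ∑ k ∈ Finset.range m, q (D k (s₀ p)) = p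
    rw [← map_sum, hsumD _ _ (by omega), hs₀']
  choose bd hbd using hbound
  obtain ⟨t, ht⟩ := Module.Finite.fg_top (R := B) (M := J.Cotangent)
  let n := t.sup bd
  have hPsum : ∀ m, n ≤ m → ∀ p, ∑ k ∈ Finset.range m, P k p = p := by
    intro m hm p
    have hp : p ∈ Submodule.span B (t : Set J.Cotangent) := ht ▸ Submodule.mem_top
    induction hp using Submodule.span_induction with
    | mem p hp => exact hbd p m ((Finset.le_sup hp).trans hm)
    | zero => simp
    | add a b _ _ ha hb => simp [Finset.sum_add_distrib, ha, hb]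
    | smul r a _ ha => simp [← Finset.smul_sum, ha]
  have hDD : ∀ k l x, D k (D l x) = if l = k then D k x else 0 := by
    intro k l x
    apply Subtype.ext
    show (δ ((δ (x : C)).coeff l)).coeff k = _
    rw [h.idem, coeff_monomial]
    split_ifs with e
    · subst e; rfl
    · rfl
  have hPP : ∀ k l p, P k (P l p) = if l = k then P k p else 0 := by
    intro k l p
    show P k (q (D l (s₀ p))) = _
    rw [hP, hDD]
    split_ifs
    · rfl
    · exact map_zero q
  have hP0 : ∀ k, n ≤ k → ∀ p, P k p = 0 := by
    intro k hk p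
    have h1 := hPsum (k + 1) (by omega) p
    rw [Finset.sum_range_succ, hPsum k hk p] at h1
    exact add_left_cancel (h1.trans (add_zero p).symm)
  let s₁ : J.Cotangent →ₗ[B] J.restrictScalars B := ∑ k ∈ Finset.range n, D k ∘ₗ s₀ ∘ₗ P k
  refine ⟨(J.restrictScalars B).subtype ∘ₗ s₁, fun p => ⟨⟨_, (s₁ p).2⟩, rfl, ?_⟩, fun k x hx => ?_⟩
  · show q (s₁ p) = p
    rw [LinearMap.sum_apply, map_sum]
    refine (Finset.sum_congr rfl fun k _ => ?_).trans (hPsum n le_rfl p)
    show P k (P k p) = P k p
    rw [hPP, if_pos rfl]
  · let x' : J.restrictScalars B := ⟨x, hx⟩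
    let p := P k (q x')
    have hfix : D k (s₁ p) = s₁ p := by
      simp only [s₁, LinearMap.sum_apply, LinearMap.comp_apply, map_sum]
      refine Finset.sum_congr rfl fun l _ => ?_
      rw [hDD, show P l p = if k = l then P l (q x') else 0 from hPP l k (q x')]
      by_cases e : l = k
      · subst e; simp
      · rw [if_neg e, if_neg fun e' => e e'.symm, map_zero, map_zero]
    have hcl : q (s₁ p) = p := by
      rw [LinearMap.sum_apply, map_sum]
      refine (Finset.sum_congr rfl fun k _ => ?_).trans (hPsum n le_rfl p)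
      show P _ (P _ p) = P _ p
      rw [hPP, if_pos rfl]
    let z : C := ((D k x' - s₁ p : J.restrictScalars B) : C)
    have hz : z ∈ J ^ 2 := by
      refine (J.toCotangent_eq (x := ⟨_, (D k x').2⟩) (y := ⟨_, (s₁ p).2⟩)).1 ?_
      show q (D k x') = q (s₁ p)
      rw [hcl]
      exact (hP k x').symm
    have hzk : (δ z).coeff k = z := by
      show ((D k (D k x' - s₁ p) : J.restrictScalars B) : C) = z
      rw [map_sub, hDD, if_pos rfl, hfix]
    refine ⟨p, z, ?_, hzk, z, hz, hzk⟩
    show (D k x' : C) = (s₁ p : C) + ((D k x' : C) - (s₁ p : C))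
    abel

theorem PosGrading.lift_surjective (h : PosGrading π δ) (s : (RingHom.ker π.toRingHom).Cotangent →ₗ[B] C)
    (hs : ∀ k x, ∀ hx : x ∈ RingHom.ker π.toRingHom, ∃ p : (RingHom.ker π.toRingHom).Cotangent, ∃ r : C,
        (δ x).coeff k = s p + r ∧ (δ r).coeff k = r ∧ ∃ z ∈ RingHom.ker π.toRingHom ^ 2, (δ z).coeff k = r) :
    Function.Surjective (SymmetricAlgebra.lift s) := by
  classical
  let J := RingHom.ker π.toRingHom
  let Q := (SymmetricAlgebra.lift s).range
  have hb : ∀ b, algebraMap B C b ∈ Q := fun b => Q.algebraMap_mem b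
  have hsQ : ∀ p, s p ∈ Q := fun p => ⟨SymmetricAlgebra.ι B _ p, SymmetricAlgebra.lift_ι_apply s p⟩
  have key : ∀ k x, (δ x).coeff k ∈ Q := by
    intro k
    induction k using Nat.strong_induction_on with
    | _ k ih =>
      intro x
      by_cases hk : k = 0
      · subst hk
        rw [h.eval_zero]
        exact hb _
      · have hy : x - algebraMap B C (π x) ∈ J := by
          show π _ = 0
          rw [map_sub, AlgHom.commutes]
          exact sub_self _
        have hxy : (δ x).coeff k = (δ (x - algebraMap B C (π x))).coeff k := by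
          rw [map_sub, coeff_sub, h.base, coeff_C, if_neg hk, sub_zero]
        rw [hxy]
        obtain ⟨p, r, e, -, z, hz, hzr⟩ := hs k _ hy
        rw [e]
        refine Q.add_mem (hsQ p) ?_
        rw [← hzr]
        clear hzr e hxy
        rw [pow_two] at hz
        induction hz using Submodule.mul_induction_on' with
        | mem_mul_mem a ha b hb =>
          rw [map_mul, coeff_mul]
          refine Q.sum_mem fun i hi => ?_
          rw [Finset.mem_antidiagonal] at hi
          by_cases h1 : i.1 = 0
          · rw [h1, h.eval_zero, show π a = 0 from ha, map_zero, zero_mul]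
            exact Q.zero_mem
          by_cases h2 : i.2 = 0
          · rw [h2, h.eval_zero, show π b = 0 from hb, map_zero, mul_zero]
            exact Q.zero_mem
          exact Q.mul_mem (ih _ (by omega) a) (ih _ (by omega) b)
        | add a _ b _ ha hb =>
          rw [map_add, coeff_add]
          exact Q.add_mem ha hb
  intro x
  show x ∈ Q
  rw [← h.eval_one x, eval_eq_sum_range]
  exact Q.sum_mem fun k _ => by simpa using key k x

theorem lift_injective_of_smooth [Algebra.FormallySmooth R C] (π : C →ₐ[B] B)
    (s : (RingHom.ker π.toRingHom).Cotangent →ₗ[B] C)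
    (hs : ∀ p, ∃ y : (RingHom.ker π.toRingHom), (y : C) = s p ∧ (RingHom.ker π.toRingHom).toCotangent y = p) :
    Function.Injective (SymmetricAlgebra.lift s) := by
  classical
  let J := RingHom.ker π.toRingHom
  let P := J.Cotangent
  let Sy := SymmetricAlgebra B P
  let e₀ : Sy →ₐ[B] B := SymmetricAlgebra.algebraMapInv
  let F : Ideal Sy := RingHom.ker e₀.toRingHom
  have hι : ∀ p : P, SymmetricAlgebra.ι B P p ∈ F := fun p => SymmetricAlgebra.algebraMapInv_ι p
  -- first order
  let cls : C → J := fun x => ⟨x - algebraMap B C (π x), by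
    show π _ = 0
    rw [map_sub, AlgHom.commutes]
    exact sub_self _⟩
  let ψ₁ : C → Sy ⧸ F ^ 2 := fun x => Ideal.Quotient.mk _ (algebraMap B Sy (π x) + SymmetricAlgebra.ι B P (J.toCotangent (cls x)))
  have hadd : ∀ x y, ψ₁ (x + y) = ψ₁ x + ψ₁ y := fun x y => by
    have e : cls (x + y) = cls x + cls y := Subtype.ext (by
      show x + y - algebraMap B C (π (x + y)) = x - algebraMap B C (π x) + (y - algebraMap B C (π y))
      rw [map_add, map_add]; ring)
    simp only [ψ₁, e, map_add]
    ring
  have hmul : ∀ x y, ψ₁ (x * y) = ψ₁ x * ψ₁ y := fun x y => by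
    have e : J.toCotangent (cls (x * y)) = π x • J.toCotangent (cls y) + π y • J.toCotangent (cls x) := by
      rw [← algebraMap_smul C (π x) (J.toCotangent _), ← algebraMap_smul C (π y) (J.toCotangent _), ← map_smul,
        ← map_smul, ← map_add, Ideal.toCotangent_eq]
      show x * y - algebraMap B C (π (x * y)) - (algebraMap B C (π x) * (y - algebraMap B C (π y)) +
        algebraMap B C (π y) * (x - algebraMap B C (π x))) ∈ J ^ 2
      rw [show x * y - algebraMap B C (π (x * y)) - (algebraMap B C (π x) * (y - algebraMap B C (π y)) +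
        algebraMap B C (π y) * (x - algebraMap B C (π x))) = (cls x : C) * (cls y : C) by
          simp only [cls, map_mul]; ring, pow_two]
      exact Ideal.mul_mem_mul (cls x).2 (cls y).2
    rw [← map_mul]
    refine (Ideal.Quotient.mk_eq_mk_iff_sub_mem _ _).2 ?_
    rw [e, map_mul, map_mul, map_add, map_smul, map_smul, Algebra.smul_def, Algebra.smul_def]
    have hm : SymmetricAlgebra.ι B P (J.toCotangent (cls x)) * SymmetricAlgebra.ι B P (J.toCotangent (cls y)) ∈ F ^ 2 := by
      rw [pow_two]
      exact Ideal.mul_mem_mul (hι _) (hι _)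
    convert neg_mem hm using 1
    ring
  have hcls : ∀ b, J.toCotangent (cls (algebraMap B C b)) = 0 := fun b => by
    rw [show cls (algebraMap B C b) = 0 from Subtype.ext (by
      show algebraMap B C b - algebraMap B C (π (algebraMap B C b)) = 0
      rw [AlgHom.commutes]; exact sub_self _), map_zero]
  have halg : ∀ b, ψ₁ (algebraMap B C b) = Ideal.Quotient.mk _ (algebraMap B Sy b) := fun b => by
    simp only [ψ₁, hcls, map_zero, add_zero, AlgHom.commutes]
    rfl
  let g₁ : C →ₐ[R] Sy ⧸ F ^ 2 :=
    { toFun := ψ₁
      map_one' := by simpa using halg 1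
      map_mul' := hmul
      map_zero' := by simpa using halg 0
      map_add' := hadd
      commutes' := fun r => by
        rw [IsScalarTower.algebraMap_apply R B C]
        refine (halg _).trans ?_
        rw [← IsScalarTower.algebraMap_apply]
        rfl }
  have hg₁ : ∀ p, g₁ (s p) = Ideal.Quotient.mk _ (SymmetricAlgebra.ι B P p) := fun p => by
    obtain ⟨y, hy, rfl⟩ := hs p
    show ψ₁ _ = _
    have hπ : π (y : C) = 0 := y.2
    rw [← hy]
    simp only [ψ₁, hπ, map_zero, zero_add]
    congr 3
    exact Subtype.ext (by show (y : C) - algebraMap B C (π y) = y; rw [hπ, map_zero, sub_zero])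
  have hθ₁ : ∀ z, g₁ (SymmetricAlgebra.lift s z) = Ideal.Quotient.mk _ z := by
    intro z
    induction z using SymmetricAlgebra.induction with
    | algebraMap b => rw [AlgHom.commutes]; exact halg b
    | ι p => rw [SymmetricAlgebra.lift_ι_apply, hg₁]
    | mul a b ha hb => simp only [map_mul, ha, hb]
    | add a b ha hb => simp only [map_add, ha, hb]
  rw [injective_iff_map_eq_zero]
  intro z hz
  have hF : ∀ n, z ∈ F ^ n := by
    intro n
    induction n with
    | zero => rw [pow_zero, Ideal.one_eq_top]; trivial
    | succ n ih =>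
      rcases Nat.eq_zero_or_pos n with rfl | hn
      · have := hθ₁ z
        rw [hz, map_zero] at this
        rw [pow_one]
        exact Ideal.pow_le_self two_ne_zero (Ideal.Quotient.eq_zero_iff_mem.1 this.symm)
      let Qn := Sy ⧸ F ^ (n + 1)
      let red : Qn →ₐ[R] Sy ⧸ F ^ 2 := Ideal.Quotient.factorₐ R (Ideal.pow_le_pow_right (by omega))
      let G := F.map (Ideal.Quotient.mk (F ^ (n + 1)))
      have hG : G ^ (n + 1) = ⊥ := by rw [← Ideal.map_pow, Ideal.map_quotient_self]
      have hker : RingHom.ker (red : Qn →+* Sy ⧸ F ^ 2) ≤ G ^ 2 := by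
        intro w hw
        obtain ⟨w, rfl⟩ := Ideal.Quotient.mk_surjective w
        rw [← Ideal.map_pow]
        exact Ideal.mem_map_of_mem _ (Ideal.Quotient.eq_zero_iff_mem.1 hw)
      have hred : Function.Surjective red := fun w => by
        obtain ⟨w, rfl⟩ := Ideal.Quotient.mk_surjective w
        exact ⟨Ideal.Quotient.mk _ w, rfl⟩
      let ψ : C →ₐ[R] Qn := Algebra.FormallySmooth.liftOfSurjective g₁ red hred ⟨n + 1, le_bot_iff.1
        ((Ideal.pow_right_mono hker _).trans (le_of_eq (by
          rw [← pow_mul]
          exact le_bot_iff.1 (hG ▸ Ideal.pow_le_pow_right (by omega)))))⟩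
      let θ : Sy → Qn := fun w => ψ (SymmetricAlgebra.lift s w)
      have hθ : ∀ w, θ w - Ideal.Quotient.mk _ w ∈ G ^ 2 := fun w => hker (by
        show red (θ w - Ideal.Quotient.mk _ w) = 0
        rw [map_sub, show red (θ w) = g₁ (SymmetricAlgebra.lift s w) from
          Algebra.FormallySmooth.liftOfSurjective_apply _ _ _ _ _, hθ₁]
        exact sub_self _)
      have key : ∀ k, ∀ w ∈ F ^ k, θ w - Ideal.Quotient.mk _ w ∈ G ^ (k + 1) := by
        intro k
        induction k with
        | zero => intro w _; exact Ideal.pow_le_pow_right (by omega) (hθ w)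
        | succ k ihk =>
          intro w hw
          rw [pow_succ] at hw
          induction hw using Submodule.mul_induction_on' with
          | mem_mul_mem a ha b hb =>
            have hbG : θ b ∈ G := by
              have : θ b = (θ b - Ideal.Quotient.mk _ b) + Ideal.Quotient.mk _ b := (sub_add_cancel _ _).symm
              rw [this]
              exact G.add_mem (Ideal.pow_le_self two_ne_zero (hθ b)) (Ideal.mem_map_of_mem _ hb)
            have haG : Ideal.Quotient.mk (F ^ (n + 1)) a ∈ G ^ k := by
              rw [← Ideal.map_pow]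
              exact Ideal.mem_map_of_mem _ ha
            have e : θ (a * b) - Ideal.Quotient.mk _ (a * b) =
                (θ a - Ideal.Quotient.mk _ a) * θ b + Ideal.Quotient.mk _ a * (θ b - Ideal.Quotient.mk _ b) := by
              simp only [θ, map_mul]
              ring
            rw [e]
            refine Ideal.add_mem _ ?_ ?_
            · rw [show G ^ (k + 1 + 1) = G ^ (k + 1) * G from Submodule.pow_succ G]
              exact Ideal.mul_mem_mul (ihk a ha) hbG
            · have e2 : G ^ (k + 1 + 1) = G ^ k * G ^ 2 := Submodule.pow_add G two_ne_zero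
              rw [e2]
              exact Ideal.mul_mem_mul haG (hθ b)
          | add a _ b _ ha hb =>
            rw [show θ (a + b) - Ideal.Quotient.mk _ (a + b) =
              (θ a - Ideal.Quotient.mk _ a) + (θ b - Ideal.Quotient.mk _ b) by simp only [θ, map_add]; ring]
            exact Ideal.add_mem _ ha hb
      have h1 := key n z ih
      rw [hG, Ideal.mem_bot, show θ z = 0 by simp only [θ, hz, map_zero], zero_sub, neg_eq_zero] at h1
      exact Ideal.Quotient.eq_zero_iff_mem.1 h1
  -- separatedness
  let t : Sy →ₐ[B] Polynomial Sy :=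
    SymmetricAlgebra.lift
      ((Polynomial.monomial 1 : Sy →ₗ[Sy] Polynomial Sy).restrictScalars B ∘ₗ SymmetricAlgebra.ι B P)
  have ht0 : ∀ w, (t w).coeff 0 = algebraMap B Sy (e₀ w) := by
    intro w
    induction w using SymmetricAlgebra.induction with
    | algebraMap b => rw [AlgHom.commutes, AlgHom.commutes, Polynomial.algebraMap_apply, coeff_C_zero]; rfl
    | ι p =>
      rw [SymmetricAlgebra.lift_ι_apply, show e₀ (SymmetricAlgebra.ι B P p) = 0 from hι p, map_zero]
      simp
    | mul a b ha hb => rw [map_mul, map_mul, map_mul, mul_coeff_zero, ha, hb]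
    | add a b ha hb => rw [map_add, map_add, map_add, coeff_add, ha, hb]
  have ht1 : ∀ w, (t w).eval 1 = w := by
    intro w
    induction w using SymmetricAlgebra.induction with
    | algebraMap b => rw [AlgHom.commutes, Polynomial.algebraMap_apply, eval_C]
    | ι p => rw [SymmetricAlgebra.lift_ι_apply]; simp
    | mul a b ha hb => rw [map_mul, eval_mul, ha, hb]
    | add a b ha hb => rw [map_add, eval_add, ha, hb]
  have hdvd : ∀ n, ∀ w ∈ F ^ n, (X : Polynomial Sy) ^ n ∣ t w := by
    intro n
    induction n with
    | zero => intro w _; simp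
    | succ n ih =>
      intro w hw
      rw [pow_succ] at hw
      induction hw using Submodule.mul_induction_on' with
      | mem_mul_mem a ha b hb =>
        rw [map_mul, pow_succ]
        refine mul_dvd_mul (ih a ha) (X_dvd_iff.2 ?_)
        rw [ht0, show e₀ b = 0 from hb, map_zero]
      | add a _ b _ ha hb => rw [map_add]; exact dvd_add ha hb
  have htz : t z = 0 := by
    ext k
    rw [coeff_zero]
    exact X_pow_dvd_iff.1 (hdvd (k + 1) z (hF (k + 1))) k (Nat.lt_succ_self k)
  rw [← ht1 z, htz, eval_zero]

/-- A positively graded formally smooth algebra of finite type is symmetric on a finite projective module. -/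
theorem PosGrading.exists_equiv_symmetricAlgebra (h : PosGrading π δ) [Algebra.FormallySmooth R C]
    [Algebra.FiniteType R C] :
    ∃ (P : Type u) (_ : AddCommGroup P) (_ : Module B P),
      Module.Finite B P ∧ Module.Projective B P ∧ Nonempty (SymmetricAlgebra B P ≃ₐ[B] C) := by
  have : Algebra.FormallySmooth R B := formallySmooth_of_retract (IsScalarTower.toAlgHom R B C)
    (π.restrictScalars R) fun b => π.commutes b
  letI := π.toRingHom.toAlgebra
  have : IsScalarTower R C B := IsScalarTower.of_algebraMap_eq fun r => ((π.restrictScalars R).commutes r).symm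
  obtain ⟨hfin, hproj⟩ := finite_projective_cotangent (R := R) (C := C) (B := B) fun b => π.commutes b
  have : Module.Finite B (RingHom.ker π.toRingHom).Cotangent := hfin
  have : Module.Projective B (RingHom.ker π.toRingHom).Cotangent := hproj
  obtain ⟨s, hs₁, hs₂⟩ := h.exists_linearSection
  exact ⟨(RingHom.ker π.toRingHom).Cotangent, inferInstance, inferInstance, hfin, hproj,
    ⟨AlgEquiv.ofBijective (SymmetricAlgebra.lift s)
      ⟨lift_injective_of_smooth (R := R) π s hs₁, h.lift_surjective s hs₂⟩⟩⟩

end Groth.L11.Magnet
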