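import Groth.Agent.L11.Magnet.Orbit
import Mathlib.AlgebraicGeometry.AffineScheme
import Mathlib.Algebra.MonoidAlgebra.MapDomain

/-!
Attractors of relatively affine schemes are closed subschemes.
-/

set_option autoImplicit false
universe u

open CategoryTheory CategoryTheory.Limits MonoidalCategory CartesianMonoidalCategory MonObj AlgebraicGeometry Opposite

set_option backward.isDefEq.respectTransparency.types false

noncomputable section

namespace Groth.L11.Magnet

open _root_.Magnet

/-- Monomials of a monoid algebra. -/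
abbrev mchi (R : Type u) [CommRing R] (M : Type) [AddCommMonoid M] :
    Multiplicative M →* MonoidAlgebra R (Multiplicative M) := MonoidAlgebra.of R (Multiplicative M)

/-- Constants of a monoid algebra. -/
abbrev mkap (R : Type u) [CommRing R] (M : Type) [AddCommMonoid M] :
    R →+* MonoidAlgebra R (Multiplicative M) := algebraMap R (MonoidAlgebra R (Multiplicative M))

variable {S : Scheme.{u}} {M : Type} [AddCommMonoid M] {X : Over S}

instance chart_isIso' {R : Type u} [CommRing R] (s : Spec (CommRingCat.of R) ⟶ S) (N : Type) [AddCommMonoid N] :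
    IsIso (chart s (mkap R N) (mchi R N)) := chart_isIso s _ _ (isMonAlg_monoidAlgebra R)

theorem range_specMap_comp {R C : Type u} [CommRing R] [CommRing C] (φ : R →+* C) {Y : Scheme.{u}}
    (g : Spec (CommRingCat.of R) ⟶ Y) :
    Set.range (Spec.map (CommRingCat.ofHom φ) ≫ g) ⊆ Set.range g := by
  rintro - ⟨x, rfl⟩
  exact ⟨Spec.map (CommRingCat.ofHom φ) x, rfl⟩

/-- Monoid algebra elements supported on a submonoid come from its algebra. -/
theorem mem_range_mapDomain {R : Type u} [CommRing R] (N : AddSubmonoid M)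
    (x : MonoidAlgebra R (Multiplicative M)) (h : ∀ m : Multiplicative M, m.toAdd ∉ N → x.coeff m = 0) :
    x ∈ Set.range (MonoidAlgebra.mapDomainRingHom R (AddMonoidHom.toMultiplicative N.subtype)) := by
  have hinj : Function.Injective (AddMonoidHom.toMultiplicative N.subtype) := fun _ _ e => Subtype.ext e
  refine ⟨_, MonoidAlgebra.mapDomain_comapDomain (f := AddMonoidHom.toMultiplicative N.subtype) ?_ hinj⟩
  intro m hm
  by_cases hN : m.toAdd ∈ N
  · exact ⟨Multiplicative.ofAdd ⟨m.toAdd, hN⟩, rfl⟩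
  · exact absurd (h m hN) (Finsupp.mem_support_iff.1 hm)

theorem coeff_mapDomain_eq_zero {R : Type u} [CommRing R] (N : AddSubmonoid M)
    (x : MonoidAlgebra R (Multiplicative N)) {m : Multiplicative M} (hm : m.toAdd ∉ N) :
    (MonoidAlgebra.mapDomainRingHom R (AddMonoidHom.toMultiplicative N.subtype) x).coeff m = 0 := by
  show Finsupp.mapDomain _ x.coeff m = 0
  exact Finsupp.mapDomain_of_notMem_range _ _ fun ⟨n, hn⟩ => hm (hn ▸ n.toAdd.2)

/-- Attractors of schemes affine over the base are closed subschemes on affine charts. -/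
theorem exists_closed_affine [IsAffineHom X.hom] (a : MonAct (AMonS S M) X) (N : AddSubmonoid M)
    {W : S.Opens} (hW : IsAffineOpen W) :
    ∃ (Z : Over S) (j : Z ⟶ Over.mk ((X.hom ⁻¹ᵁ W).ι ≫ X.hom)), IsClosedImmersion j.left ∧
      ∀ (T : Over S) (v : T ⟶ Over.mk ((X.hom ⁻¹ᵁ W).ι ≫ X.hom)),
        InAttr a N T (v ≫ Over.homMk (X.hom ⁻¹ᵁ W).ι rfl) ↔ ∃ w : T ⟶ Z, w ≫ j = v := by
  classical
  let V := X.hom ⁻¹ᵁ W
  have hV : IsAffineOpen V := hW.preimage X.hom
  let B : Type u := Γ(X.left, V)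
  let sB : Spec (CommRingCat.of B) ⟶ S := hV.fromSpec ≫ X.hom
  let jB : Over.mk sB ⟶ X := Over.homMk hV.fromSpec rfl
  let r : Γ(S, W) ⟶ CommRingCat.of B := X.hom.appLE W V le_rfl
  have hr : Spec.map r ≫ hW.fromSpec = sB := hW.SpecMap_appLE_fromSpec X.hom hV le_rfl
  have hrange : Set.range sB ⊆ (W : Set S) := by
    rintro - ⟨x, rfl⟩
    have : hV.fromSpec x ∈ (V : Set X.left) := by rw [← hV.range_fromSpec]; exact ⟨x, rfl⟩
    exact this
  let ψ : chartObj sB (mkap B M) ⟶ X := chart sB (mkap B M) (mchi B M) ≫ (AMonS S M ◁ jB) ≫ a.act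
  have hψr : Set.range ψ.left ⊆ Set.range hV.fromSpec := by
    rw [hV.range_fromSpec]
    rintro - ⟨x, rfl⟩
    exact hrange (range_specMap_comp (mkap B M) sB
      ⟨x, (congrArg (fun k : _ ⟶ S => k x) (Over.w ψ)).symm⟩)
  obtain ⟨c, hc⟩ : ∃ c : B →+* MonoidAlgebra B (Multiplicative M),
      Spec.map (CommRingCat.ofHom c) ≫ hV.fromSpec = ψ.left :=
    ⟨(Spec.preimage (IsOpenImmersion.lift hV.fromSpec ψ.left hψr)).hom, by
      rw [CommRingCat.ofHom_hom, Spec.map_preimage, IsOpenImmersion.lift_fac]⟩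
  have hcr : ∀ w : Γ(S, W), c (r.hom w) = mkap B M (r.hom w) := by
    intro w
    have e : Spec.map (r ≫ CommRingCat.ofHom c) = Spec.map (r ≫ CommRingCat.ofHom (mkap B M)) := by
      rw [← cancel_mono hW.fromSpec, Spec.map_comp, Spec.map_comp, Category.assoc, Category.assoc, hr,
        show Spec.map (CommRingCat.ofHom c) ≫ sB = ψ.left ≫ X.hom by rw [← hc, Category.assoc], Over.w ψ]
      rfl
    exact congrArg (fun k => k.hom w) (Spec.map_injective e)
  let J : Ideal B := Ideal.span {y | ∃ (b : B) (m : Multiplicative M), m.toAdd ∉ N ∧ (c b).coeff m = y}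
  let q : B →+* B ⧸ J := Ideal.Quotient.mk J
  let F : ∀ (R : Type u) [CommRing R],
      MonoidAlgebra R (Multiplicative N) →+* MonoidAlgebra R (Multiplicative M) := fun R _ =>
    MonoidAlgebra.mapDomainRingHom R (AddMonoidHom.toMultiplicative N.subtype)
  have hFinj : ∀ (R : Type u) [CommRing R], Function.Injective (F R) := fun R _ =>
    MonoidAlgebra.mapDomain_injective fun _ _ e => Subtype.ext e
  have hFκ : ∀ (R : Type u) [CommRing R], (F R).comp (mkap R N) = (mkap R M).comp (RingHom.id R) :=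
    fun R _ => RingHom.ext fun x => by simp [F]
  have hFχ : ∀ (R : Type u) [CommRing R] (n : Multiplicative N),
      F R (mchi R N n) = mchi R M (AddMonoidHom.toMultiplicative N.subtype n) :=
    fun R _ n => MonoidAlgebra.mapDomain_single
  -- orbit maps of points of the chart
  have horb : ∀ {R : Type u} [CommRing R] (f : B →+* R) (s : Spec (CommRingCat.of R) ⟶ S)
      (j : Over.mk s ⟶ Over.mk sB), j.left = Spec.map (CommRingCat.ofHom f) →
      (chart s (mkap R M) (mchi R M) ≫ (AMonS S M ◁ (j ≫ jB)) ≫ a.act).left =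
        Spec.map (CommRingCat.ofHom ((MonoidAlgebra.mapRingHom (Multiplicative M) f).comp c)) ≫ hV.fromSpec := by
    intro R _ f s j hj
    obtain ⟨d, hd, hd'⟩ := chart_map (AddMonoidHom.id M) f (mkap B M) (mkap R M) (mchi B M) (mchi R M)
      (MonoidAlgebra.mapRingHom (Multiplicative M) f) (RingHom.ext fun x => by simp) (fun n => by simp) sB s j hj
    have e : chart s (mkap R M) (mchi R M) ≫ (AMonS S M ◁ (j ≫ jB)) ≫ a.act = d ≫ ψ := by
      rw [reassoc_of% hd']
      congr 1
      apply _root_.Magnet.hom_ext_lift₂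
      intro T' g t
      have : g ≫ AMonS.map S (AddMonoidHom.id M) = g := by
        apply MPts.char_injective
        refine MonoidHom.ext fun n => ?_
        rw [MPts.char_map]
        rfl
      rw [lift_whiskerLeft_assoc, lift_map_assoc, lift_whiskerLeft_assoc, this, Category.assoc]
    rw [e, Over.comp_left, hd, ← hc, ← Spec.map_comp_assoc, ← CommRingCat.ofHom_comp]
  -- the universal family
  let sQ : Spec (CommRingCat.of (B ⧸ J)) ⟶ S := Spec.map (CommRingCat.ofHom q) ≫ sB
  let jQ : Over.mk sQ ⟶ Over.mk sB := Over.homMk (Spec.map (CommRingCat.ofHom q)) rfl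
  let cQ := (MonoidAlgebra.mapRingHom (Multiplicative M) q).comp c
  have hcQ : ∀ b, cQ b ∈ (F (B ⧸ J)).range := fun b =>
    mem_range_mapDomain N _ fun m hm => by
      show (MonoidAlgebra.mapRingHom (Multiplicative M) q (c b)).coeff m = 0
      simp only [MonoidAlgebra.coeff_mapRingHom]
      exact Ideal.Quotient.eq_zero_iff_mem.2 (Ideal.subset_span ⟨b, m, hm, rfl⟩)
  let eN : MonoidAlgebra (B ⧸ J) (Multiplicative N) ≃+* (F (B ⧸ J)).range :=
    RingEquiv.ofBijective (F (B ⧸ J)).rangeRestrict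
      ⟨fun x y e => hFinj _ (congrArg Subtype.val e), (F (B ⧸ J)).rangeRestrict_surjective⟩
  let cN : B →+* MonoidAlgebra (B ⧸ J) (Multiplicative N) :=
    eN.symm.toRingHom.comp (cQ.codRestrict _ hcQ)
  have hcN : ∀ b, F (B ⧸ J) (cN b) = cQ b := fun b =>
    congrArg Subtype.val (eN.apply_symm_apply ⟨cQ b, hcQ b⟩)
  have huniv : InAttr a N (Over.mk sQ) (jQ ≫ jB) := by
    let l : chartObj sQ (mkap (B ⧸ J) N) ⟶ X := Over.homMk (Spec.map (CommRingCat.ofHom cN) ≫ hV.fromSpec) (by
      show _ ≫ X.hom = Spec.map _ ≫ Spec.map _ ≫ sB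
      rw [Category.assoc]
      show Spec.map _ ≫ sB = _
      rw [← hr, ← Spec.map_comp_assoc, ← Spec.map_comp_assoc, ← Spec.map_comp_assoc]
      congr 2
      refine CommRingCat.hom_ext (RingHom.ext fun w => ?_)
      apply hFinj
      show F (B ⧸ J) (cN (r.hom w)) = F (B ⧸ J) (mkap (B ⧸ J) N (q (r.hom w)))
      rw [hcN, show F (B ⧸ J) (mkap (B ⧸ J) N (q (r.hom w))) = mkap (B ⧸ J) M (q (r.hom w)) from
        DFunLike.congr_fun (hFκ _) _]
      show MonoidAlgebra.mapRingHom (Multiplicative M) q (c (r.hom w)) = _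
      rw [hcr]
      simp)
    obtain ⟨φ, -, hφ⟩ := equivariant_of_orbit a (inv (chart sQ (mkap (B ⧸ J) N) (mchi (B ⧸ J) N)) ≫ l)
      (jQ ≫ jB) (N := N) (by
        obtain ⟨d, hd, hd'⟩ := chart_map N.subtype (RingHom.id (B ⧸ J)) (mkap _ N) (mkap _ M) (mchi _ N)
          (mchi _ M) (F (B ⧸ J)) (hFκ _) (hFχ _) sQ sQ (𝟙 _) (by simp)
        rw [← cancel_epi (chart sQ (mkap (B ⧸ J) M) (mchi (B ⧸ J) M)), ← tensorHom_id, ← reassoc_of% hd',
          IsIso.hom_inv_id_assoc]
        apply Over.OverMorphism.ext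
        rw [horb q sQ jQ rfl, Over.comp_left, hd]
        show Spec.map _ ≫ Spec.map _ ≫ _ = _
        rw [← Spec.map_comp_assoc, ← CommRingCat.ofHom_comp]
        congr 3
        exact RingHom.ext hcN)
    exact ⟨φ, hφ⟩
  let Z : Over S := Over.mk sQ
  let iV : Over.mk sB ⟶ Over.mk (V.ι ≫ X.hom) := Over.homMk hV.isoSpec.inv (by
    show hV.isoSpec.inv ≫ V.ι ≫ X.hom = hV.fromSpec ≫ X.hom
    rw [← Category.assoc, IsAffineOpen.isoSpec_inv_ι])
  have hiV : iV ≫ Over.homMk V.ι rfl = jB := Over.OverMorphism.ext hV.isoSpec_inv_ι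
  refine ⟨Z, jQ ≫ iV, ?_, fun T v => ⟨fun hv => ?_, ?_⟩⟩
  · have : IsClosedImmersion (Spec.map (CommRingCat.ofHom q)) :=
      IsClosedImmersion.spec_of_surjective _ Ideal.Quotient.mk_surjective
    exact inferInstanceAs (IsClosedImmersion (Spec.map (CommRingCat.ofHom q) ≫ hV.isoSpec.inv))
  · let vB : T.left ⟶ Spec (CommRingCat.of B) := v.left ≫ hV.isoSpec.hom
    let g : B →+* Γ(T.left, ⊤) := ((Scheme.ΓSpecIso (CommRingCat.of B)).inv ≫ vB.appTop).hom
    have hgJ : J ≤ RingHom.ker g := by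
      rw [Ideal.span_le]
      rintro - ⟨b, m, hm, rfl⟩
      rw [SetLike.mem_coe, RingHom.mem_ker]
      refine TopCat.Sheaf.eq_of_locally_eq' T.left.sheaf (fun U : T.left.affineOpens => (U : T.left.Opens)) ⊤
        (fun U => homOfLE le_top) (by rw [iSup_affineOpens_eq_top]) _ _ fun U => ?_
      refine Eq.trans ?_ (map_zero _).symm
      let R : Type u := Γ(T.left, U.1)
      let f : B →+* R := ((Scheme.ΓSpecIso (CommRingCat.of B)).inv ≫ (U.2.fromSpec ≫ vB).appTop ≫
        (Scheme.ΓSpecIso (CommRingCat.of R)).hom).hom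
      have hf : U.2.fromSpec ≫ vB = Spec.map (CommRingCat.ofHom f) := by
        refine ringHom_of_hom_ext fun x => ?_
        rw [appTop_specMap]
        exact (Iso.hom_inv_id_apply (Scheme.ΓSpecIso (CommRingCat.of R)) _).symm
      let s : Spec (CommRingCat.of R) ⟶ S := U.2.fromSpec ≫ T.hom
      let t : Over.mk s ⟶ T := Over.homMk U.2.fromSpec rfl
      let j : Over.mk s ⟶ Over.mk sB := Over.homMk (Spec.map (CommRingCat.ofHom f)) (by
        show _ ≫ sB = s
        rw [← hf]
        simp only [vB, Category.assoc, s, sB]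
        rw [← Over.w v]
        congr 2
        show _ = V.ι ≫ X.hom
        rw [← hV.isoSpec_inv_ι, Category.assoc, Iso.hom_inv_id_assoc])
      have hjt : j ≫ jB = t ≫ v ≫ Over.homMk V.ι rfl := Over.OverMorphism.ext (by
        show Spec.map (CommRingCat.ofHom f) ≫ hV.fromSpec = U.2.fromSpec ≫ v.left ≫ V.ι
        rw [← hf, ← hV.isoSpec_inv_ι]
        simp [vB])
      obtain ⟨φ, hφ⟩ := hv.comp t
      let l := chart s (mkap R N) (mchi R N) ≫ φ.1
      have hlr : Set.range l.left ⊆ Set.range hV.fromSpec := by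
        rw [hV.range_fromSpec]
        rintro - ⟨x, rfl⟩
        exact hrange (range_specMap_comp ((mkap R N).comp f) sB ⟨x, by
          rw [CommRingCat.ofHom_comp, Spec.map_comp, Category.assoc]
          rw [show Spec.map (CommRingCat.ofHom f) ≫ sB = s from Over.w j]
          exact (congrArg (fun k : _ ⟶ S => k x) (Over.w l)).symm⟩)
      obtain ⟨e, he⟩ : ∃ e : B →+* MonoidAlgebra R (Multiplicative N),
          Spec.map (CommRingCat.ofHom e) ≫ hV.fromSpec = l.left :=
        ⟨(Spec.preimage (IsOpenImmersion.lift hV.fromSpec l.left hlr)).hom, by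
          rw [CommRingCat.ofHom_hom, Spec.map_preimage, IsOpenImmersion.lift_fac]⟩
      obtain ⟨d, hd, hd'⟩ := chart_map N.subtype (RingHom.id R) (mkap R N) (mkap R M) (mchi R N) (mchi R M) (F R)
        (hFκ R) (hFχ R) s s (𝟙 _) (by simp)
      have e1 : d ≫ l = chart s (mkap R M) (mchi R M) ≫ (AMonS S M ◁ (j ≫ jB)) ≫ a.act := by
        rw [reassoc_of% hd', tensorHom_id, orbit_eq, hφ, hjt]
      have e2 := congrArg Over.Hom.left e1
      rw [horb f s j rfl, Over.comp_left, hd, ← he, ← Spec.map_comp_assoc, cancel_mono,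
        ← CommRingCat.ofHom_comp] at e2
      have e3 := congrArg (fun k => MonoidAlgebra.coeff (k.hom b) m) (Spec.map_injective e2)
      simp only [CommRingCat.hom_ofHom, RingHom.comp_apply, MonoidAlgebra.coeff_mapRingHom] at e3
      rw [coeff_mapDomain_eq_zero N _ hm] at e3
      have e4 : f ((c b).coeff m) = 0 := e3.symm
      have key : ∀ y : Γ(T.left, ⊤),
          (Scheme.ΓSpecIso (CommRingCat.of R)).hom (U.2.fromSpec.appTop y) =
            T.left.presheaf.map (homOfLE (le_top : U.1 ≤ ⊤)).op y := fun y => by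
        rw [Scheme.Hom.appTop, U.2.fromSpec_app_of_le ⊤ le_top]
        simp
        exact (congrArg _ (appTop_specMap (T.left.presheaf.map (homOfLE (le_top : U.1 ≤ ⊤)).op).hom y)).trans
          (Iso.inv_hom_id_apply _ _)
      refine Eq.trans (key (g ((c b).coeff m))).symm ?_
      refine Eq.trans ?_ e4
      simp [f, g, vB]
    let w : T.left ⟶ Spec (CommRingCat.of (B ⧸ J)) :=
      ΓSpec.adjunction.homEquiv T.left (op (CommRingCat.of (B ⧸ J)))
        (CommRingCat.ofHom (Ideal.Quotient.lift J g fun x hx => hgJ hx)).op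
    have hw : w ≫ Spec.map (CommRingCat.ofHom q) = vB := by
      refine ringHom_of_hom_ext fun x => ?_
      rw [GmPts.appTop_comp_apply, appTop_specMap]
      exact congrArg (fun ψ => (ConcreteCategory.hom ψ) (q x))
        (ΓSpecIso_inv_ΓSpec_adjunction_homEquiv (CommRingCat.ofHom (Ideal.Quotient.lift J g fun x hx => hgJ hx)).op.unop)
    have hwv : w ≫ Spec.map (CommRingCat.ofHom q) ≫ hV.isoSpec.inv = v.left := by
      rw [reassoc_of% hw]; simp [vB]
    exact ⟨Over.homMk w (by
      show w ≫ Spec.map _ ≫ hV.fromSpec ≫ X.hom = T.hom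
      rw [← hV.isoSpec_inv_ι, Category.assoc, reassoc_of% hwv]
      exact Over.w v), Over.OverMorphism.ext hwv⟩
  · rintro ⟨w, rfl⟩
    rw [show (w ≫ jQ ≫ iV) ≫ Over.homMk V.ι rfl = w ≫ jQ ≫ jB by simp only [Category.assoc, hiV]]
    exact huniv.comp w

/-- Attractors of schemes affine over the base are closed subschemes. -/
theorem exists_closed_attr [IsAffineHom X.hom] (a : MonAct (AMonS S M) X) (N : AddSubmonoid M) :
    ∃ (Z : Over S) (i : Z ⟶ X), IsClosedImmersion i.left ∧
      ∀ (T : Over S) (x : T ⟶ X), InAttr a N T x ↔ ∃ w : T ⟶ Z, w ≫ i = x :=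
  exists_closed_of_openCover (fun W : S.affineOpens => X.hom ⁻¹ᵁ W.1)
    (fun x => by
      obtain ⟨W, hW, hx, -⟩ := exists_isAffineOpen_mem_and_subset (X := S) (x := X.hom x) (U := ⊤) trivial
      exact ⟨⟨W, hW⟩, hx⟩)
    (InAttr a N) (fun k _ h => h.comp k) (fun T' k hf hl hs _ h => InAttr.of_cover T' k hf hl hs h)
    (fun W => exists_closed_affine a N W.2)

/-- Attractors of schemes affine over the base are represented by closed subschemes. -/
theorem exists_representable_attr [IsAffineHom X.hom] (a : MonAct (AMonS S M) X) (N : AddSubmonoid M) :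
    ∃ (Z : Over S) (i : Z ⟶ X) (e : (attr a N).RepresentableBy Z), IsClosedImmersion i.left ∧
      ∀ (T : Over S) (z : T ⟶ Z), (attrToX a N).app (op T) (e.homEquiv z) = z ≫ i := by
  obtain ⟨Z, i, hi, hZ⟩ := exists_closed_attr a N
  have h0 : ∀ (T : Over S) (z : T ⟶ Z), ∃ φ : (attr a N).obj (op T),
      (attrToX a N).app (op T) φ = z ≫ i := fun T z => (hZ T _).2 ⟨z, rfl⟩
  choose f hf using h0
  have : Mono i := Over.mono_of_mono_left i
  refine ⟨Z, i, { homEquiv := fun {T} => Equiv.ofBijective (f T) ⟨fun z z' e => ?_, fun φ => ?_⟩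
                  homEquiv_comp := fun g z => ?_ }, hi, hf⟩
  · rw [← cancel_mono i, ← hf, ← hf, e]
  · obtain ⟨z, hz⟩ := (hZ T _).1 ⟨φ, rfl⟩
    exact ⟨z, attrToX_injective a N ((hf T z).trans hz)⟩
  · refine attrToX_injective a N ?_
    show (attrToX a N).app _ (f _ (g ≫ z)) = (attrToX a N).app _ ((attr a N).map g.op (f _ z))
    rw [attrToX_map, hf, hf, Category.assoc]

end Groth.L11.Magnet
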