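import Groth.Agent.L11.Magnet.Orbit
import Groth.Agent.L11.Magnet.AffineRep
import Mathlib.AlgebraicGeometry.AffineTransitionLimit
import Mathlib.Algebra.Category.Ring.FilteredColimits
import Mathlib.Algebra.Category.Ring.Colimits
import Mathlib.CategoryTheory.Limits.Types.Filtered

/-!
Attractors of unions of magnets.
-/

set_option autoImplicit false
universe u

open CategoryTheory CategoryTheory.Limits MonoidalCategory CartesianMonoidalCategory AlgebraicGeometry Opposite

set_option backward.isDefEq.respectTransparency.types false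
set_option backward.isDefEq.respectTransparency false

noncomputable section

namespace Groth.L11.Magnet

open _root_.Magnet

variable {S : Scheme.{u}} {M : Type} [AddCommMonoid M] {X : Over S}

theorem attrToX_attrMap (a : MonAct (AMonS S M) X) {N L : AddSubmonoid M} (h : N ≤ L) {T : Over S}
    (φ : (attr a N).obj (op T)) :
    (attrToX a L).app (op T) ((attrMap a h).app (op T) φ) = (attrToX a N).app (op T) φ := by
  rw [MonAct.eqvHom.evalAt_app, MonAct.eqvHom.evalAt_app, attrMap, MonAct.eqvHom.precomp_app_coe,
    lift_whiskerRight_assoc, Category.assoc, IsMonHom.one_hom]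

section Rings

variable (R : Type u) [CommRing R]

/-- The map of monoid algebras of an inclusion. -/
abbrev inclRing {N L : AddSubmonoid M} (h : N ≤ L) :
    MonoidAlgebra R (Multiplicative N) →+* MonoidAlgebra R (Multiplicative L) :=
  MonoidAlgebra.mapDomainRingHom R (AddMonoidHom.toMultiplicative (AddSubmonoid.inclusion h))

theorem inclRing_injective {N L : AddSubmonoid M} (h : N ≤ L) : Function.Injective (inclRing R h) :=
  MonoidAlgebra.mapDomain_injective fun _ _ e => AddSubmonoid.inclusion_injective h e

variable {J : Type} [Preorder J] (N : J → AddSubmonoid M) (hN : Monotone N)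

/-- The algebras of the members of the family. -/
def monDiagram : ULift.{u} J ⥤ CommRingCat.{u} where
  obj j := CommRingCat.of (MonoidAlgebra R (Multiplicative (N j.down)))
  map {i j} h := CommRingCat.ofHom (inclRing R (hN (show i.down ≤ j.down from h.le)))
  map_id j := by
    ext : 1
    refine MonoidAlgebra.ringHom_ext (fun r => by simp) fun n => ?_
    exact MonoidAlgebra.mapDomain_single.trans rfl
  map_comp f g := by
    ext : 1
    refine MonoidAlgebra.ringHom_ext (fun r => by simp) fun n => ?_
    simp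
    rfl

/-- The algebra of the union as a cocone. -/
def monCocone : Cocone (monDiagram R N hN) where
  pt := CommRingCat.of (MonoidAlgebra R (Multiplicative (⨆ j, N j : AddSubmonoid M)))
  ι :=
    { app := fun j => CommRingCat.ofHom (inclRing R (le_iSup N j.down))
      naturality := fun i j h => by
        ext : 1
        refine MonoidAlgebra.ringHom_ext (fun r => by simp [monDiagram]) fun n => ?_
        simp [monDiagram]
        rfl }

/-- The algebra of a directed union is the colimit. -/
def monIsColimit [IsDirected J (· ≤ ·)] [Nonempty J] : IsColimit (monCocone R N hN) := by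
  classical
  haveI : IsDirected (ULift.{u} J) (· ≤ ·) := ⟨fun a b => by
    obtain ⟨c, h₁, h₂⟩ := directed_of (· ≤ ·) a.down b.down
    exact ⟨⟨c⟩, h₁, h₂⟩⟩
  haveI : Nonempty (ULift.{u} J) := ⟨⟨Classical.arbitrary J⟩⟩
  haveI : PreservesColimitsOfShape (ULift.{u} J) (forget CommRingCat.{u}) := inferInstance
  haveI : HasColimitsOfShape (ULift.{u} J) CommRingCat.{u} := inferInstance
  haveI : ReflectsColimitsOfShape (ULift.{u} J) (forget CommRingCat.{u}) :=
    reflectsColimitsOfShape_of_reflectsIsomorphisms
  refine isColimitOfReflects (forget CommRingCat.{u}) ?_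
  refine Types.FilteredColimit.isColimitOf' _ _ (fun x => ?_) (fun i x y h => ?_)
  · let x' : MonoidAlgebra R (Multiplicative (⨆ j, N j : AddSubmonoid M)) := x
    suffices ∃ (j : J) (z : MonoidAlgebra R (Multiplicative (N j))), inclRing R (le_iSup N j) z = x' by
      obtain ⟨j, z, hz⟩ := this
      exact ⟨⟨j⟩, z, (show x = _ from hz.symm)⟩
    induction x' using MonoidAlgebra.induction_linear with
    | zero => exact ⟨Classical.arbitrary J, 0, map_zero _⟩
    | add a b ha hb =>
      obtain ⟨i, z, rfl⟩ := ha
      obtain ⟨j, w, rfl⟩ := hb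
      obtain ⟨k, h₁, h₂⟩ := directed_of (· ≤ ·) i j
      refine ⟨k, inclRing R (hN h₁) z + inclRing R (hN h₂) w, ?_⟩
      have key : ∀ {i : J} (h : i ≤ k), (inclRing R (le_iSup N k)).comp (inclRing R (hN h)) = inclRing R (le_iSup N i) :=
        fun h => MonoidAlgebra.ringHom_ext (fun r => by simp) fun n => by simp; rfl
      rw [map_add, ← key h₁, ← key h₂]
      rfl
    | single m r =>
      obtain ⟨j, hj⟩ := (AddSubmonoid.mem_iSup_of_directed (hN.directed_le)).1 m.toAdd.2
      exact ⟨j, MonoidAlgebra.single (Multiplicative.ofAdd ⟨m.toAdd, hj⟩) r, MonoidAlgebra.mapDomain_single⟩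
  · exact ⟨i, 𝟙 i, by rw [show x = y from inclRing_injective R (le_iSup N i.down) (show inclRing R _ _ = inclRing R _ _ from h)]⟩

end Rings

/-- Elements of the attractor of a directed union over an affine base come from a member. -/
theorem exists_attrMap_eq [IsSeparated X.hom] [LocallyOfFinitePresentation X.hom]
    (a : MonAct (AMonS S M) X) {J : Type} [Preorder J] [IsDirected J (· ≤ ·)] [Nonempty J]
    (N : J → AddSubmonoid M) (hN : Monotone N) {R : Type u} [CommRing R] (s : Spec (CommRingCat.of R) ⟶ S)
    (φ : (attr a (⨆ i, N i)).obj (op (Over.mk s))) :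
    ∃ (i : J) (ψ : (attr a (N i)).obj (op (Over.mk s))), (attrMap a (le_iSup N i)).app (op (Over.mk s)) ψ = φ := by
  classical
  haveI : IsDirected (ULift.{u} J) (· ≤ ·) := ⟨fun a b => by
    obtain ⟨c, h₁, h₂⟩ := directed_of (· ≤ ·) a.down b.down
    exact ⟨⟨c⟩, h₁, h₂⟩⟩
  haveI : Nonempty (ULift.{u} J) := ⟨⟨Classical.arbitrary J⟩⟩
  let D : (ULift.{u} J)ᵒᵖ ⥤ Scheme.{u} := (monDiagram R N hN).op ⋙ Scheme.Spec
  let c : Cone D := Scheme.Spec.mapCone (monCocone R N hN).op
  haveI : PreservesLimitsOfSize.{u, u} Scheme.Spec.{u} := ΓSpec.adjunction.rightAdjoint_preservesLimits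
  have hc : IsLimit c := isLimitOfPreserves Scheme.Spec (monIsColimit R N hN).op
  let t : D ⟶ (Functor.const _).obj S :=
    { app := fun i => Spec.map (CommRingCat.ofHom (mkap R (N i.unop.down))) ≫ s
      naturality := fun i j h => by
        simp only [Functor.const_obj_map, Category.comp_id]
        show Spec.map _ ≫ Spec.map _ ≫ s = _
        rw [← Spec.map_comp_assoc]
        congr 2
        ext : 1
        exact RingHom.ext fun r => by simp [monDiagram] }
  have : ∀ i, IsAffine (D.obj i) := fun i => inferInstanceAs (IsAffine (Spec _))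
  have : ∀ {i j} (f : i ⟶ j), IsAffineHom (D.map f) := fun f => isAffineHom_of_isAffine _
  obtain ⟨i, g, hg, hgt⟩ := Scheme.exists_π_app_comp_eq_of_locallyOfFinitePresentation D t X.hom c hc
    ((chart s (mkap R _) (mchi R _) ≫ φ.1).left) (by
      ext i
      show Spec.map _ ≫ Spec.map _ ≫ s = (chart s (mkap R _) (mchi R _) ≫ φ.1).left ≫ X.hom
      rw [Over.w (chart s (mkap R _) (mchi R _) ≫ φ.1), ← Spec.map_comp_assoc]
      show _ = Spec.map _ ≫ s
      congr 2
      ext : 1
      exact RingHom.ext fun r => by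
        show inclRing R (le_iSup N i.unop.down) (mkap R _ r) = mkap R _ r
        simp)
  let j := i.unop.down
  let l : chartObj s (mkap R (N j)) ⟶ X := Over.homMk g hgt
  let φ₀ := inv (chart s (mkap R (N j)) (mchi R (N j))) ≫ l
  obtain ⟨e, he, he'⟩ := chart_map (AddSubmonoid.inclusion (le_iSup N j)) (RingHom.id R) (mkap R (N j))
    (mkap R _) (mchi R (N j)) (mchi R _) (inclRing R (le_iSup N j)) (RingHom.ext fun r => by simp)
    (fun n => MonoidAlgebra.mapDomain_single) s s (𝟙 _) (by simp)
  have h1 : (AMonS.map S (AddSubmonoid.inclusion (le_iSup N j)) ▷ Over.mk s) ≫ φ₀ = φ.1 := by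
    rw [← cancel_epi (chart s (mkap R _) (mchi R _)), ← tensorHom_id, ← reassoc_of% he',
      IsIso.hom_inv_id_assoc]
    exact Over.OverMorphism.ext ((congrArg (· ≫ g) he).trans (show Spec.map _ ≫ g = _ from hg))
  obtain ⟨ψ, -, hψ⟩ := equivariant_of_orbit a φ₀ ((attrToX a _).app _ φ) (N := N j) (by
    refine Eq.trans ?_ (orbit_eq φ)
    rw [← h1]
    show _ = (AMonS.map S (⨆ i, N i).subtype ▷ Over.mk s) ≫
      (AMonS.map S (AddSubmonoid.inclusion (le_iSup N j)) ▷ Over.mk s) ≫ φ₀
    rw [← comp_whiskerRight_assoc, ← AMonS.map_comp]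
    rfl)
  exact ⟨j, ψ, attrToX_injective a _ ((attrToX_attrMap a _ ψ).trans hψ)⟩

end Groth.L11.Magnet

namespace Groth.L11.Magnet

open _root_.Magnet

variable {S : Scheme.{u}} {M : Type} [AddCommMonoid M] {X : Over S}

/-- Elements of the attractor of a directed union over an affine scheme come from a member. -/
theorem exists_attrMap_eq' [IsSeparated X.hom] [LocallyOfFinitePresentation X.hom]
    (a : MonAct (AMonS S M) X) {J : Type} [Preorder J] [IsDirected J (· ≤ ·)] [Nonempty J]
    (N : J → AddSubmonoid M) (hN : Monotone N) (T : Over S) [IsAffine T.left]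
    (φ : (attr a (⨆ i, N i)).obj (op T)) :
    ∃ (i : J) (ψ : (attr a (N i)).obj (op T)), (attrMap a (le_iSup N i)).app (op T) ψ = φ := by
  let e : Over.mk (T.left.isoSpec.inv ≫ T.hom) ≅ T := Over.isoMk T.left.isoSpec.symm rfl
  obtain ⟨i, ψ, hψ⟩ := exists_attrMap_eq a N hN (R := Γ(T.left, ⊤)) (T.left.isoSpec.inv ≫ T.hom)
    ((attr a _).map e.hom.op φ)
  refine ⟨i, (attr a (N i)).map e.inv.op ψ, attrToX_injective a _ ?_⟩
  have h := congrArg (fun z => (attrToX a _).app (op (Over.mk (T.left.isoSpec.inv ≫ T.hom))) z) hψ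
  simp only [attrToX_attrMap, attrToX_map] at h
  rw [attrToX_attrMap, attrToX_map, h, Iso.inv_hom_id_assoc]

end Groth.L11.Magnet
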