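import Groth.Agent.L11.Magnet.AffineRep
import Groth.Agent.L11.Magnet.Limit
import Mathlib.AlgebraicGeometry.Morphisms.FiniteType

/-!
Attractors of affine schemes of finite type only depend on finitely many degrees.
-/

set_option autoImplicit false
universe u

open CategoryTheory CategoryTheory.Limits MonoidalCategory CartesianMonoidalCategory MonObj AlgebraicGeometry Opposite

set_option backward.isDefEq.respectTransparency.types false

noncomputable section

namespace Groth.L11.Magnet

open _root_.Magnet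

variable {S : Scheme.{u}} {M : Type} [AddCommMonoid M] {X : Over S}

/-- Over an affine open of the base finitely many degrees matter. -/
theorem exists_degrees [IsAffineHom X.hom] [LocallyOfFiniteType X.hom] (a : MonAct (AMonS S M) X)
    {W : S.Opens} (hW : IsAffineOpen W) :
    ∃ D : Finset M, ∀ (N L : AddSubmonoid M), (∀ d ∈ D, d ∈ N → d ∈ L) →
      ∀ {B : Type u} [CommRing B] (s : Spec (CommRingCat.of B) ⟶ S) (_ : Set.range s ⊆ W) (x : Over.mk s ⟶ X),
        InAttr a N (Over.mk s) x → InAttr a L (Over.mk s) x := by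
  classical
  let V := X.hom ⁻¹ᵁ W
  have hV : IsAffineOpen V := hW.preimage X.hom
  let A : Type u := Γ(X.left, V)
  let r := X.hom.appLE W V le_rfl
  have hr : Spec.map r ≫ hW.fromSpec = hV.fromSpec ≫ X.hom := hW.SpecMap_appLE_fromSpec X.hom hV le_rfl
  let sA : Spec (CommRingCat.of A) ⟶ S := hV.fromSpec ≫ X.hom
  let jA : Over.mk sA ⟶ X := Over.homMk hV.fromSpec rfl
  have hsA : Set.range sA ⊆ (W : Set S) := by
    rintro - ⟨y, rfl⟩
    have : hV.fromSpec y ∈ (V : Set X.left) := by rw [← hV.range_fromSpec]; exact ⟨y, rfl⟩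
    exact this
  have hget : ∀ {B C : Type u} [CommRing B] [CommRing C] (s : Spec (CommRingCat.of B) ⟶ S)
      (_ : Set.range s ⊆ W) (κ : B →+* C) (l : chartObj s κ ⟶ X),
      ∃ c : A →+* C, Spec.map (CommRingCat.ofHom c) ≫ hV.fromSpec = l.left := by
    intro B C _ _ s hs κ l
    have hl : Set.range l.left ⊆ Set.range hV.fromSpec := by
      rw [hV.range_fromSpec]
      rintro - ⟨y, rfl⟩
      exact hs (range_specMap_comp κ s ⟨y, (congrArg (fun k : _ ⟶ S => k y) (Over.w l)).symm⟩)
    exact ⟨(Spec.preimage (IsOpenImmersion.lift hV.fromSpec l.left hl)).hom, by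
      rw [CommRingCat.ofHom_hom, Spec.map_preimage, IsOpenImmersion.lift_fac]⟩
  let ψ : chartObj sA (mkap A M) ⟶ X := chart sA (mkap A M) (mchi A M) ≫ (AMonS S M ◁ jA) ≫ a.act
  obtain ⟨c, hc⟩ := hget sA hsA (mkap A M) ψ
  have hcr : ∀ w, c (r.hom w) = mkap A M (r.hom w) := by
    intro w
    have e : Spec.map (r ≫ CommRingCat.ofHom c) = Spec.map (r ≫ CommRingCat.ofHom (mkap A M)) := by
      rw [← cancel_mono hW.fromSpec, Spec.map_comp, Spec.map_comp, Category.assoc, Category.assoc, hr,
        reassoc_of% hc, Over.w ψ]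
      rfl
    exact congrArg (fun k => k.hom w) (Spec.map_injective e)
  letI : Algebra Γ(S, W) A := r.hom.toAlgebra
  have hft : Algebra.FiniteType Γ(S, W) A := X.hom.finiteType_appLE hW hV le_rfl
  obtain ⟨t, ht⟩ := hft.out
  refine ⟨t.biUnion fun g => (c g).coeff.support.image Multiplicative.toAdd, fun N L hD B _ s hs x hx => ?_⟩
  obtain ⟨φ, hφ⟩ := hx
  have hxr : Set.range x.left ⊆ Set.range hV.fromSpec := by
    rw [hV.range_fromSpec]
    rintro - ⟨y, rfl⟩
    exact hs ⟨y, (congrArg (fun k : _ ⟶ S => k y) (Over.w x)).symm⟩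
  let f : A →+* B := (Spec.preimage (IsOpenImmersion.lift hV.fromSpec x.left hxr)).hom
  have hf : Spec.map (CommRingCat.ofHom f) ≫ hV.fromSpec = x.left := by
    rw [CommRingCat.ofHom_hom, Spec.map_preimage, IsOpenImmersion.lift_fac]
  let j : Over.mk s ⟶ Over.mk sA := Over.homMk (Spec.map (CommRingCat.ofHom f)) (by
    show _ ≫ hV.fromSpec ≫ X.hom = s
    rw [reassoc_of% hf]
    exact Over.w x)
  have hj : j ≫ jA = x := Over.OverMorphism.ext hf
  let h : A →+* MonoidAlgebra B (Multiplicative M) := (MonoidAlgebra.mapRingHom (Multiplicative M) f).comp c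
  have horb : (chart s (mkap B M) (mchi B M) ≫ (AMonS S M ◁ x) ≫ a.act).left =
      Spec.map (CommRingCat.ofHom h) ≫ hV.fromSpec := by
    obtain ⟨d, hd, hd'⟩ := chart_map (AddMonoidHom.id M) f (mkap A M) (mkap B M) (mchi A M) (mchi B M)
      (MonoidAlgebra.mapRingHom (Multiplicative M) f) (RingHom.ext fun x => by simp) (fun n => by simp) sA s j rfl
    have e : chart s (mkap B M) (mchi B M) ≫ (AMonS S M ◁ x) ≫ a.act = d ≫ ψ := by
      rw [reassoc_of% hd', ← hj]
      congr 1
      apply _root_.Magnet.hom_ext_lift₂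
      intro T' g t
      have : g ≫ AMonS.map S (AddMonoidHom.id M) = g := by
        apply MPts.char_injective
        refine MonoidHom.ext fun n => ?_
        rw [MPts.char_map]
        rfl
      rw [lift_whiskerLeft_assoc, lift_map_assoc, lift_whiskerLeft_assoc, this, Category.assoc]
    rw [e, Over.comp_left, hd, ← hc, ← Spec.map_comp_assoc, ← CommRingCat.ofHom_comp]
  let F : ∀ P : AddSubmonoid M, MonoidAlgebra B (Multiplicative P) →+* MonoidAlgebra B (Multiplicative M) :=
    fun P => MonoidAlgebra.mapDomainRingHom B (AddMonoidHom.toMultiplicative P.subtype)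
  have hFκ : ∀ P, (F P).comp (mkap B P) = (mkap B M).comp (RingHom.id B) :=
    fun P => RingHom.ext fun x => by simp [F]
  obtain ⟨d, hd, hd'⟩ := chart_map N.subtype (RingHom.id B) (mkap B N) (mkap B M) (mchi B N) (mchi B M) (F N)
    (hFκ N) (fun n => MonoidAlgebra.mapDomain_single) s s (𝟙 _) (by simp)
  let l := chart s (mkap B N) (mchi B N) ≫ φ.1
  obtain ⟨e, he⟩ := hget s hs (mkap B N) l
  have e1 : d ≫ l = chart s (mkap B M) (mchi B M) ≫ (AMonS S M ◁ x) ≫ a.act := by
    rw [reassoc_of% hd', tensorHom_id, orbit_eq, hφ]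
  have e2 : (F N).comp e = h := by
    have := congrArg Over.Hom.left e1
    rw [horb, Over.comp_left, hd, ← he, ← Spec.map_comp_assoc, cancel_mono, ← CommRingCat.ofHom_comp] at this
    exact congrArg CommRingCat.Hom.hom (Spec.map_injective this)
  have hbase : ∀ w, h (r.hom w) = F L (mkap B L (f (r.hom w))) := fun w => by
    show MonoidAlgebra.mapRingHom (Multiplicative M) f (c (r.hom w)) = _
    rw [hcr, show F L (mkap B L (f (r.hom w))) = mkap B M (f (r.hom w)) from DFunLike.congr_fun (hFκ L) _]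
    simp
  have hsupp : ∀ b, h b ∈ (F L).range := by
    let Q : Subalgebra Γ(S, W) A :=
      { (F L).range.comap h with
        algebraMap_mem' := fun w => ⟨_, (hbase w).symm⟩ }
    have hQ : (⊤ : Subalgebra Γ(S, W) A) ≤ Q := by
      rw [← ht]
      refine Algebra.adjoin_le fun g hg => ?_
      show h g ∈ (F L).range
      refine mem_range_mapDomain L _ fun m hm => ?_
      by_cases hmN : m.toAdd ∈ N
      · have : (c g).coeff m = 0 := by
          by_contra hne
          exact hm (hD _ (Finset.mem_biUnion.2 ⟨g, hg,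
            Finset.mem_image_of_mem _ (Finsupp.mem_support_iff.2 hne)⟩) hmN)
        show (MonoidAlgebra.mapRingHom (Multiplicative M) f (c g)).coeff m = 0
        rw [MonoidAlgebra.coeff_mapRingHom, this, map_zero]
      · rw [← e2]
        exact coeff_mapDomain_eq_zero N _ hmN
    exact fun b => hQ trivial
  have hinj : Function.Injective (F L) := MonoidAlgebra.mapDomain_injective fun _ _ e => Subtype.ext e
  let eL : MonoidAlgebra B (Multiplicative L) ≃+* (F L).range :=
    RingEquiv.ofBijective (F L).rangeRestrict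
      ⟨fun y z e => hinj (congrArg Subtype.val e), (F L).rangeRestrict_surjective⟩
  let hL : A →+* MonoidAlgebra B (Multiplicative L) := eL.symm.toRingHom.comp (h.codRestrict _ hsupp)
  have hhL : (F L).comp hL = h := RingHom.ext fun b => congrArg Subtype.val (eL.apply_symm_apply ⟨h b, hsupp b⟩)
  let lL : chartObj s (mkap B L) ⟶ X := Over.homMk (Spec.map (CommRingCat.ofHom hL) ≫ hV.fromSpec) (by
    show _ ≫ X.hom = Spec.map _ ≫ s
    rw [Category.assoc, show s = Spec.map (CommRingCat.ofHom f) ≫ hV.fromSpec ≫ X.hom by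
      rw [reassoc_of% hf]; exact (Over.w x).symm, ← hr, ← Spec.map_comp_assoc, ← Spec.map_comp_assoc,
      ← Spec.map_comp_assoc]
    congr 2
    refine CommRingCat.hom_ext (RingHom.ext fun w => hinj ?_)
    show F L (hL (r.hom w)) = F L (mkap B L (f (r.hom w)))
    rw [show F L (hL (r.hom w)) = h (r.hom w) from DFunLike.congr_fun hhL _, hbase])
  obtain ⟨φ', -, hφ'⟩ := equivariant_of_orbit a (inv (chart s (mkap B L) (mchi B L)) ≫ lL) x (N := L) (by
    obtain ⟨d', hd₁, hd₂⟩ := chart_map L.subtype (RingHom.id B) (mkap B L) (mkap B M) (mchi B L) (mchi B M) (F L)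
      (hFκ L) (fun n => MonoidAlgebra.mapDomain_single) s s (𝟙 _) (by simp)
    rw [← cancel_epi (chart s (mkap B M) (mchi B M)), ← tensorHom_id, ← reassoc_of% hd₂, IsIso.hom_inv_id_assoc]
    apply Over.OverMorphism.ext
    rw [horb, Over.comp_left, hd₁]
    show Spec.map _ ≫ Spec.map _ ≫ _ = _
    rw [← Spec.map_comp_assoc, ← CommRingCat.ofHom_comp, hhL])
  exact ⟨φ', hφ'⟩

/-- There are finitely many pure magnets. -/
theorem finite_pure [CompactSpace S] [IsAffineHom X.hom] [LocallyOfFiniteType X.hom] (a : MonAct (AMonS S M) X) :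
    Set.Finite {N : AddSubmonoid M | ∀ L : AddSubmonoid M,
      (∀ T : Over S, Set.range (fun φ => (attrToX a N).app (op T) φ) =
        Set.range (fun φ => (attrToX a L).app (op T) φ)) → N ≤ L} := by
  classical
  choose D hD using fun W : S.affineOpens => exists_degrees a W.2
  obtain ⟨K, hK⟩ := isCompact_univ.elim_finite_subcover (fun W : S.affineOpens => (W.1 : Set S)) (fun W => W.1.2)
    (fun p _ => by
      obtain ⟨W, hW, hp, -⟩ := exists_isAffineOpen_mem_and_subset (X := S) (x := p) (U := ⊤) trivial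
      exact Set.mem_iUnion.2 ⟨⟨W, hW⟩, hp⟩)
  let E : Finset M := K.biUnion D
  refine Set.Finite.subset ((E.powerset.finite_toSet).image fun P : Finset M => AddSubmonoid.closure (P : Set M))
    fun N hN => ?_
  let L := AddSubmonoid.closure ((E.filter (· ∈ N) : Finset M) : Set M)
  have hLN : L ≤ N := AddSubmonoid.closure_le.2 fun d hd => (Finset.mem_filter.1 hd).2
  refine ⟨E.filter (· ∈ N), Finset.mem_powerset.2 (Finset.filter_subset _ _), le_antisymm hLN (hN L fun T => ?_)⟩
  refine Set.Subset.antisymm ?_ ?_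
  · rintro - ⟨φ, rfl⟩
    let v : T ⟶ X := (attrToX a N).app (op T) φ
    have hT : ∀ t : T.left, ∃ (U : T.left.Opens) (_ : IsAffineOpen U) (W : S.affineOpens),
        W ∈ K ∧ t ∈ U ∧ U ≤ T.hom ⁻¹ᵁ W.1 := by
      intro t
      obtain ⟨W, hW, ht⟩ := Set.mem_iUnion₂.1 (hK (Set.mem_univ (T.hom t)))
      obtain ⟨U, hU, htU, hUW⟩ := exists_isAffineOpen_mem_and_subset (X := T.left) (x := t) (U := T.hom ⁻¹ᵁ W.1) ht
      exact ⟨U, hU, W, hW, htU, hUW⟩
    choose U hU W hW htU hUW using hT
    let T' : T.left → Over S := fun t => Over.mk ((hU t).fromSpec ≫ T.hom)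
    let k : ∀ t, T' t ⟶ T := fun t => Over.homMk (hU t).fromSpec rfl
    exact InAttr.of_cover (a := a) (N := L) (x := v) T' k
      (fun t => inferInstanceAs (Flat (hU t).fromSpec))
      (fun t => inferInstanceAs (LocallyOfFinitePresentation (hU t).fromSpec))
      (fun t => ⟨t, by
        show t ∈ Set.range (hU t).fromSpec
        rw [(hU t).range_fromSpec]
        exact htU t⟩)
      fun t => hD (W t) N L (fun d hd hdN => AddSubmonoid.subset_closure (Finset.mem_filter.2
        ⟨Finset.mem_biUnion.2 ⟨W t, hW t, hd⟩, hdN⟩)) _ (by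
        rintro - ⟨y, rfl⟩
        refine hUW t (?_ : (hU t).fromSpec y ∈ (U t : Set T.left))
        rw [← (hU t).range_fromSpec]
        exact ⟨y, rfl⟩) _ ((show InAttr a N T v from ⟨φ, rfl⟩).comp (k t))
  · rintro - ⟨φ, rfl⟩
    exact ⟨(attrMap a hLN).app (op T) φ, attrToX_attrMap a hLN φ⟩

end Groth.L11.Magnet
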