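import Groth.Agent.L11.Magnet.Dom
import Mathlib.AlgebraicGeometry.Morphisms.FormallyUnramified
import Mathlib.AlgebraicGeometry.IdealSheaf.Basic
import Mathlib.RingTheory.TensorProduct.MonoidAlgebra

/-!
Square-zero thickenings multiplied by a diagonalisable monoid scheme.
-/

set_option autoImplicit false
universe u

open CategoryTheory CategoryTheory.Limits MonoidalCategory CartesianMonoidalCategory MonObj AlgebraicGeometry Opposite

set_option backward.isDefEq.respectTransparency.types false

noncomputable section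

namespace Groth.L11.Magnet

variable {S : Scheme.{u}} {M : Type} [AddCommMonoid M]

theorem isNilpotent_ker_specMap {B C : Type u} [CommRing B] [CommRing C] (F : B →+* C)
    (hF : RingHom.ker F ^ 2 = ⊥) : IsNilpotent (Spec.map (CommRingCat.ofHom F)).ker := by
  refine ⟨2, Scheme.IdealSheafData.ext (funext fun U => ?_)⟩
  rw [Scheme.ker_of_isAffine, Scheme.IdealSheafData.ideal_pow, Pi.pow_apply,
    Scheme.IdealSheafData.ofIdealTop_ideal, ← Ideal.map_pow]
  have : RingHom.ker (Spec.map (CommRingCat.ofHom F)).appTop.hom ^ 2 = ⊥ := by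
    refine eq_bot_iff.2 ?_
    rw [pow_two, Ideal.mul_le]
    intro x hx y hy
    let e := (Scheme.ΓSpecIso (CommRingCat.of B)).commRingCatIsoToRingEquiv
    have hk : ∀ z, (Spec.map (CommRingCat.ofHom F)).appTop z = 0 → e z ∈ RingHom.ker F := fun z hz => by
      have h := congrArg (fun k => (ConcreteCategory.hom k) z) (Scheme.ΓSpecIso_naturality (CommRingCat.ofHom F))
      exact h.symm.trans ((congrArg _ hz).trans (map_zero (Scheme.ΓSpecIso (CommRingCat.of C)).hom.hom))
    have h2 : e x * e y ∈ RingHom.ker F ^ 2 := by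
      rw [pow_two]; exact Ideal.mul_mem_mul (hk x (RingHom.mem_ker.1 hx)) (hk y (RingHom.mem_ker.1 hy))
    rw [hF, Ideal.mem_bot, ← map_mul] at h2
    exact Ideal.mem_bot.2 (e.injective (h2.trans (map_zero e).symm))
  rw [this, Ideal.map_bot]
  rfl

/-- A square-zero surjection stays so on monoid algebras. -/
theorem mapRange_surj_sq {A : Type u} [CommRing A] {A' : Type u} [CommRing A'] (q : A →+* A')
    (hq : Function.Surjective q) (h : RingHom.ker q ^ 2 = ⊥) :
    Function.Surjective (MonoidAlgebra.mapRingHom (Multiplicative M) q) ∧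
      RingHom.ker (MonoidAlgebra.mapRingHom (Multiplicative M) q) ^ 2 = ⊥ := by
  classical
  refine ⟨fun z => ?_, eq_bot_iff.2 ?_⟩
  · induction z using MonoidAlgebra.induction_on with
    | of m => exact ⟨MonoidAlgebra.single m 1, by simp [MonoidAlgebra.of_apply]⟩
    | add x y hx hy =>
      obtain ⟨a, rfl⟩ := hx
      obtain ⟨b, rfl⟩ := hy
      exact ⟨a + b, map_add _ _ _⟩
    | smul r x hx =>
      obtain ⟨a, rfl⟩ := hx
      obtain ⟨r, rfl⟩ := hq r
      exact ⟨algebraMap A _ r * a, by rw [map_mul, Algebra.smul_def]; congr 1; simp⟩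
  · rw [pow_two, Ideal.mul_le]
    intro x hx y hy
    rw [Ideal.mem_bot]
    have hmem : ∀ z ∈ RingHom.ker (MonoidAlgebra.mapRingHom (Multiplicative M) q), ∀ i, z.coeff i ∈ RingHom.ker q := by
      intro z hz i
      have := congrArg (fun w => w.coeff i) (RingHom.mem_ker.1 hz)
      simpa using this
    ext i
    rw [MonoidAlgebra.coeff_mul]
    simp only [MonoidAlgebra.coeff_zero, Finsupp.coe_zero, Pi.zero_apply]
    simp only [Finsupp.sum, Finsupp.coe_finset_sum, Finset.sum_apply]
    refine Finset.sum_eq_zero fun a _ => Finset.sum_eq_zero fun b _ => ?_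
    have h2 : x.coeff a * y.coeff b ∈ RingHom.ker q ^ 2 := by
      rw [pow_two]; exact Ideal.mul_mem_mul (hmem x hx a) (hmem y hy b)
    rw [h, Ideal.mem_bot] at h2
    simp [h2]

/-- Maps into a formally unramified scheme are determined on the reduced thickening. -/
theorem eq_of_thick {A : Type u} [CommRing A] (I : Ideal A) (hI : I ^ 2 = ⊥)
    (s : Spec (CommRingCat.of A) ⟶ S) {X Y : Over S} (f : X ⟶ Y) [FormallyUnramified f.left]
    (l₁ l₂ : _root_.Magnet.AMonS S M ⊗ Over.mk s ⟶ X)
    (htop : (_root_.Magnet.AMonS S M ◁ (Over.homMk (Spec.map (CommRingCat.ofHom (Ideal.Quotient.mk I))) rfl :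
        Over.mk (Spec.map (CommRingCat.ofHom (Ideal.Quotient.mk I)) ≫ s) ⟶ Over.mk s)) ≫ l₁ =
      (_root_.Magnet.AMonS S M ◁ (Over.homMk (Spec.map (CommRingCat.ofHom (Ideal.Quotient.mk I))) rfl :
        Over.mk (Spec.map (CommRingCat.ofHom (Ideal.Quotient.mk I)) ≫ s) ⟶ Over.mk s)) ≫ l₂)
    (hbot : l₁ ≫ f = l₂ ≫ f) : l₁ = l₂ := by
  let q := Ideal.Quotient.mk I
  obtain ⟨hsur, hsq⟩ := mapRange_surj_sq (M := M) q Ideal.Quotient.mk_surjective (by rwa [Ideal.mk_ker])
  let F : MonoidAlgebra A (Multiplicative M) →+* MonoidAlgebra (A ⧸ I) (Multiplicative M) :=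
    MonoidAlgebra.mapRingHom (Multiplicative M) q
  let κ : A →+* MonoidAlgebra A (Multiplicative M) := algebraMap _ _
  let κ' : A ⧸ I →+* MonoidAlgebra (A ⧸ I) (Multiplicative M) := algebraMap _ _
  let χ : Multiplicative M →* MonoidAlgebra A (Multiplicative M) := MonoidAlgebra.of A _
  let χ' : Multiplicative M →* MonoidAlgebra (A ⧸ I) (Multiplicative M) := MonoidAlgebra.of (A ⧸ I) _
  have := chart_isIso s κ χ (isMonAlg_monoidAlgebra A)
  have e : CommRingCat.ofHom κ ≫ CommRingCat.ofHom F = CommRingCat.ofHom q ≫ CommRingCat.ofHom κ' := by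
    ext r : 2
    simp [F, κ, κ']
  let d : chartObj (Spec.map (CommRingCat.ofHom q) ≫ s) κ' ⟶ chartObj s κ :=
    Over.homMk (Spec.map (CommRingCat.ofHom F)) (by
      show Spec.map (CommRingCat.ofHom F) ≫ Spec.map (CommRingCat.ofHom κ) ≫ s =
        Spec.map (CommRingCat.ofHom κ') ≫ Spec.map (CommRingCat.ofHom q) ≫ s
      rw [← Spec.map_comp_assoc, ← Spec.map_comp_assoc, e])
  have hd : d ≫ chart s κ χ = chart (Spec.map (CommRingCat.ofHom q) ≫ s) κ' χ' ≫
      (_root_.Magnet.AMonS S M ◁ (Over.homMk (Spec.map (CommRingCat.ofHom q)) rfl :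
        Over.mk (Spec.map (CommRingCat.ofHom q) ≫ s) ⟶ Over.mk s)) := by
    apply CartesianMonoidalCategory.hom_ext
    · apply MPts.char_injective
      refine MonoidHom.ext fun k => ?_
      rw [Category.assoc, MPts.char_comp, chart_fst_char, Category.assoc, whiskerLeft_fst, chart_fst_char]
      refine (appTop_specMap _ _).trans (congrArg _ ?_)
      simp [F, χ, χ', MonoidAlgebra.of_apply]
    · simp only [chart, Category.assoc, whiskerLeft_snd, lift_snd, lift_snd_assoc]
      apply Over.OverMorphism.ext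
      show Spec.map _ ≫ Spec.map _ = Spec.map _ ≫ Spec.map _
      rw [← Spec.map_comp, ← Spec.map_comp, e]
  rw [← cancel_epi (chart s κ χ)]
  apply Over.OverMorphism.ext
  have : IsClosedImmersion (Spec.map (CommRingCat.ofHom F)) := IsClosedImmersion.spec_of_surjective _ hsur
  refine FormallyUnramified.hom_ext (Spec.map (CommRingCat.ofHom F)) (isNilpotent_ker_specMap F hsq) f.left ?_ ?_
  · show (d ≫ chart s κ χ ≫ l₁).left = (d ≫ chart s κ χ ≫ l₂).left
    rw [reassoc_of% hd, reassoc_of% hd, htop]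
  · show ((chart s κ χ ≫ l₁) ≫ f).left = ((chart s κ χ ≫ l₂) ≫ f).left
    rw [Category.assoc, Category.assoc, hbot]

end Groth.L11.Magnet
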