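import Groth.Agent.L11.Magnet.Pts
import Mathlib.AlgebraicGeometry.AffineScheme

/-!
Affine charts of products with diagonalisable monoid schemes.
-/

set_option autoImplicit false
universe u

open CategoryTheory CategoryTheory.Limits MonoidalCategory CartesianMonoidalCategory MonObj AlgebraicGeometry Opposite

set_option backward.isDefEq.respectTransparency.types false

noncomputable section

namespace Groth.L11.Magnet

variable {M : Type} [AddCommMonoid M] {S : Scheme.{u}}
variable {R : Type u} [CommRing R] (s : Spec (CommRingCat.of R) ⟶ S)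
variable {C : Type u} [CommRing C] (κ : R →+* C) (χ : Multiplicative M →* C)

/-- `(C, κ, χ)` is the algebra of the monoid over the ring. -/
structure IsMonAlg : Prop where
  ex : ∀ {B : Type u} [CommRing B] (a : R →+* B) (c : Multiplicative M →* B),
    ∃ L : C →+* B, L.comp κ = a ∧ (L : C →* B).comp χ = c
  uniq : ∀ {B : Type u} [CommRing B] (L L' : C →+* B), L.comp κ = L'.comp κ →
    (∀ m, L (χ m) = L' (χ m)) → L = L'

theorem isMonAlg_monoidAlgebra (R : Type u) [CommRing R] :
    IsMonAlg (algebraMap R (MonoidAlgebra R (Multiplicative M)))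
      (MonoidAlgebra.of R (Multiplicative M) : Multiplicative M →* MonoidAlgebra R (Multiplicative M)) where
  ex {B} _ a c := by
    let : Algebra R B := a.toAlgebra
    let L : MonoidAlgebra R (Multiplicative M) →ₐ[R] B := MonoidAlgebra.lift R B (Multiplicative M) c
    refine ⟨L.toRingHom, RingHom.ext fun r => ?_, ?_⟩
    · exact L.commutes r
    · refine MonoidHom.ext fun m => ?_
      exact MonoidAlgebra.lift_of c m
  uniq L L' h h' := by
    refine MonoidAlgebra.ringHom_ext (fun r => ?_) h'
    simpa using DFunLike.congr_fun h r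

/-- the source of the chart -/
abbrev chartObj : Over S := Over.mk (Spec.map (CommRingCat.ofHom κ) ≫ s)

/-- the chart -/
def chart : chartObj s κ ⟶ Magnet.AMonS S M ⊗ Over.mk s :=
  lift (MPts.pt (T := chartObj s κ) ((Scheme.ΓSpecIso (CommRingCat.of C)).inv.hom.toMonoidHom.comp χ))
    (Over.homMk (Spec.map (CommRingCat.ofHom κ)) rfl)

theorem chart_fst_char (m : Multiplicative M) :
    MPts.char (chart s κ χ ≫ fst _ _) m = (Scheme.ΓSpecIso (CommRingCat.of C)).inv (χ m) := by
  rw [chart, lift_fst, MPts.char_pt]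
  rfl

theorem ringHom_of_hom_ext {Q : Scheme.{u}} {B : Type u} [CommRing B] {f g : Q ⟶ Spec (CommRingCat.of B)}
    (h : ∀ b, f.appTop ((Scheme.ΓSpecIso (CommRingCat.of B)).inv b) =
      g.appTop ((Scheme.ΓSpecIso (CommRingCat.of B)).inv b)) : f = g := by
  refine ext_of_isAffine ?_
  rw [← cancel_epi (Scheme.ΓSpecIso (CommRingCat.of B)).inv]
  exact CommRingCat.hom_ext (RingHom.ext h)

theorem appTop_specMap {B B' : Type u} [CommRing B] [CommRing B'] (φ : B →+* B') (b : B) :
    (Spec.map (CommRingCat.ofHom φ)).appTop ((Scheme.ΓSpecIso (CommRingCat.of B)).inv b) =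
      (Scheme.ΓSpecIso (CommRingCat.of B')).inv (φ b) :=
  (congrArg (fun ψ => (ConcreteCategory.hom ψ) b) (Scheme.ΓSpecIso_inv_naturality (CommRingCat.ofHom φ))).symm

theorem chart_isIso (h : IsMonAlg κ χ) : IsIso (chart s κ χ) := by
  let P : Over S := Magnet.AMonS S M ⊗ Over.mk s
  let a : R →+* Γ(P.left, ⊤) := (Scheme.Hom.appTop (snd (Magnet.AMonS S M) (Over.mk s)).left).hom.comp
    (Scheme.ΓSpecIso (CommRingCat.of R)).inv.hom
  obtain ⟨L, hL₁, hL₂⟩ := h.ex a (MPts.char (fst (Magnet.AMonS S M) (Over.mk s)))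
  let q : P.left ⟶ Spec (CommRingCat.of C) :=
    ΓSpec.adjunction.homEquiv P.left (op (CommRingCat.of C)) (CommRingCat.ofHom L).op
  have hq : ∀ c, q.appTop ((Scheme.ΓSpecIso (CommRingCat.of C)).inv c) = L c := fun c =>
    congrArg (fun ψ => (ConcreteCategory.hom ψ) c) (ΓSpecIso_inv_ΓSpec_adjunction_homEquiv (CommRingCat.ofHom L).op.unop)
  have hqκ : q ≫ Spec.map (CommRingCat.ofHom κ) = (snd (Magnet.AMonS S M) (Over.mk s)).left := by
    refine ringHom_of_hom_ext fun r => ?_
    rw [GmPts.appTop_comp_apply, appTop_specMap, hq]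
    exact DFunLike.congr_fun hL₁ r
  let qo : P ⟶ chartObj s κ := Over.homMk q (by
    show q ≫ Spec.map (CommRingCat.ofHom κ) ≫ s = _
    rw [← Category.assoc, hqκ]
    exact Over.w (snd (Magnet.AMonS S M) (Over.mk s)))
  refine ⟨qo, ?_, ?_⟩
  · apply Over.OverMorphism.ext
    refine ringHom_of_hom_ext (B := C) fun c => ?_
    show ((chart s κ χ).left ≫ q).appTop _ = (𝟙 (chartObj s κ).left : _).appTop _
    rw [GmPts.appTop_comp_apply, hq]
    let L' : C →+* Γ((chartObj s κ).left, ⊤) := (Scheme.Hom.appTop (chart s κ χ).left).hom.comp L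
    suffices e : L' = (Scheme.ΓSpecIso (CommRingCat.of C)).inv.hom from
      (DFunLike.congr_fun e c).trans (by simp)
    refine h.uniq _ _ (RingHom.ext fun r => ?_) fun m => ?_
    · have e1 : (chart s κ χ ≫ snd _ _).left = Spec.map (CommRingCat.ofHom κ) := by rw [chart, lift_snd]; rfl
      show (chart s κ χ).left.appTop (L (κ r)) = _
      rw [show L (κ r) = a r from DFunLike.congr_fun hL₁ r]
      refine Eq.trans ?_ (appTop_specMap κ r)
      rw [← e1]
      exact (GmPts.appTop_comp_apply _ _ _).symm
    · show (chart s κ χ).left.appTop (L (χ m)) = _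
      rw [show L (χ m) = MPts.char (fst (Magnet.AMonS S M) (Over.mk s)) m from DFunLike.congr_fun hL₂ m,
        ← MPts.char_comp]
      exact chart_fst_char s κ χ m
  · apply CartesianMonoidalCategory.hom_ext
    · apply MPts.char_injective
      refine MonoidHom.ext fun m => ?_
      rw [Category.assoc, MPts.char_comp, chart_fst_char, Category.id_comp]
      exact (hq _).trans (DFunLike.congr_fun hL₂ m)
    · rw [Category.assoc, chart, lift_snd, Category.id_comp]
      exact Over.OverMorphism.ext hqκ

end Groth.L11.Magnet
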