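import Groth.Agent.L11.Magnet.Pts
import Groth.Agent.L11.Magnet.Chart
import Groth.Prelude.Def_Magnet4
import Mathlib.Order.WellFoundedSet
import Mathlib.GroupTheory.Finiteness
import Mathlib.RingTheory.Ideal.Operations
import Mathlib.RingTheory.Ideal.Maps

/-!
Adic filtrations by faces and charts of face morphisms.
-/

set_option autoImplicit false
universe u

open CategoryTheory CategoryTheory.Limits MonoidalCategory CartesianMonoidalCategory AlgebraicGeometry Opposite

set_option backward.isDefEq.respectTransparency.types false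

noncomputable section

namespace Groth.L11.Magnet

open _root_.Magnet

section Comb

variable {M : Type} [AddCommGroup M] {N Q : AddSubmonoid M}

/-- The element is a sum of at least `k` elements of the monoid outside the face. -/
def DivOutside (N Q : AddSubmonoid M) : ℕ → M → Prop
  | 0, m => m ∈ N
  | k + 1, m => ∃ x ∈ N, x ∉ Q ∧ ∃ y, DivOutside N Q k y ∧ x + y = m

theorem DivOutside.mem : ∀ {k : ℕ} {m : M}, DivOutside N Q k m → m ∈ N
  | 0, _, h => h
  | _ + 1, _, ⟨_, hx, _, _, hy, e⟩ => e ▸ N.add_mem hx hy.mem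

theorem DivOutside.add_right : ∀ {k : ℕ} {m n : M}, DivOutside N Q k m → n ∈ N → DivOutside N Q k (m + n)
  | 0, _, _, h, hn => N.add_mem h hn
  | _ + 1, _, n, ⟨x, hx, hxQ, y, hy, e⟩, hn => ⟨x, hx, hxQ, y + n, hy.add_right hn, by rw [← add_assoc, e]⟩

theorem DivOutside.succ_le {k : ℕ} {m : M} (h : DivOutside N Q (k + 1) m) : DivOutside N Q k m := by
  induction k generalizing m with
  | zero => exact h.mem
  | succ k ih =>
    obtain ⟨x, hx, hxQ, y, hy, e⟩ := h
    exact ⟨x, hx, hxQ, y, ih hy, e⟩

theorem DivOutside.mono {k l : ℕ} (hkl : k ≤ l) {m : M} (h : DivOutside N Q l m) : DivOutside N Q k m := by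
  induction l with
  | zero => rwa [Nat.le_zero.1 hkl]
  | succ l ih =>
    rcases Nat.lt_or_eq_of_le hkl with h' | h'
    · exact ih (Nat.lt_succ_iff.1 h') h.succ_le
    · exact h' ▸ h

/-- An element of a finitely generated monoid is a sum of boundedly many elements outside a face. -/
theorem exists_not_divOutside (hN : N.FG) (hQ : IsFace N Q) (m : M) : ∃ k, ¬ DivOutside N Q k m := by
  classical
  obtain ⟨s, hs⟩ := hN
  let c0 : (s → ℕ) →+ M :=
    { toFun := fun c => ∑ i, c i • (i : M)
      map_zero' := by simp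
      map_add' := fun c d => by simp [add_smul, Finset.sum_add_distrib] }
  let w : (s → ℕ) → ℕ := fun c => ∑ i : s, if (i : M) ∈ Q then 0 else c i
  have hwadd : ∀ c d, w (c + d) = w c + w d := fun c d => by
    simp only [w, ← Finset.sum_add_distrib]
    exact Finset.sum_congr rfl fun i _ => by split <;> simp
  have hsN : ∀ i : s, (i : M) ∈ N := fun i => hs ▸ AddSubmonoid.subset_closure i.2
  have hrep : ∀ x ∈ N, ∃ c, c0 c = x := by
    intro x hx
    rw [← hs] at hx
    induction hx using AddSubmonoid.closure_induction with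
    | mem x hx => exact ⟨Pi.single ⟨x, hx⟩ 1, by simp [c0, Pi.single_apply, ite_smul]⟩
    | zero => exact ⟨0, map_zero _⟩
    | add x y _ _ hx hy =>
      obtain ⟨c, rfl⟩ := hx
      obtain ⟨d, rfl⟩ := hy
      exact ⟨c + d, map_add _ _ _⟩
  have hrep' : ∀ k x, DivOutside N Q k x → ∃ c, c0 c = x ∧ k ≤ w c := by
    intro k
    induction k with
    | zero =>
      intro x hx
      obtain ⟨c, hc⟩ := hrep x hx
      exact ⟨c, hc, Nat.zero_le _⟩
    | succ k ih =>
      rintro x ⟨a, ha, haQ, y, hy, rfl⟩
      obtain ⟨c, rfl⟩ := hrep a ha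
      obtain ⟨d, rfl, hd⟩ := ih y hy
      refine ⟨c + d, map_add _ _ _, ?_⟩
      rw [hwadd]
      suffices 1 ≤ w c by omega
      by_contra h
      refine haQ (AddSubmonoid.sum_mem _ fun i _ => ?_)
      by_cases hi : (i : M) ∈ Q
      · exact Q.nsmul_mem hi _
      · have : c i = 0 := by
          have := (Finset.sum_eq_zero_iff (f := fun i : s => if (i : M) ∈ Q then 0 else c i)).1
            (by simpa [w] using h) i (Finset.mem_univ i)
          simpa [hi] using this
        simp [this]
  by_contra hcon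
  push_neg at hcon
  choose g hg hgw using fun k => hrep' k m (hcon k)
  -- a sequence of representations of increasing weight
  let f : ℕ → (s → ℕ) := fun n => Nat.rec (g 0) (fun _ prev => g (w prev + 1)) n
  have hf : ∀ n, c0 (f n) = m := fun n => by cases n <;> exact hg _
  have hfw : StrictMono (w ∘ f) := strictMono_nat_of_lt_succ fun n => hgw (w (f n) + 1)
  obtain ⟨i, j, hij, hle⟩ := wellQuasiOrdered_le (α := s → ℕ) f
  let dd : s → ℕ := fun l => f j l - f i l
  have hsum : dd + f i = f j := funext fun l => Nat.sub_add_cancel (hle l)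
  have hd : c0 dd = 0 := by
    have : c0 dd + c0 (f i) = c0 (f j) := by rw [← map_add, hsum]
    rwa [hf, hf, add_eq_right] at this
  have hw : 0 < w dd := by
    have := hwadd dd (f i)
    rw [hsum] at this
    have := hfw hij
    simp only [Function.comp_apply] at this
    omega
  obtain ⟨l, -, hl⟩ := Finset.exists_ne_zero_of_sum_ne_zero (Nat.pos_iff_ne_zero.1 hw)
  have hlQ : (l : M) ∉ Q := fun h => hl (if_pos h)
  rw [if_neg hlQ] at hl
  have hmem : ∀ t : Finset s, ∑ a ∈ t, dd a • (a : M) ∈ N := fun t =>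
    N.sum_mem fun a _ => N.nsmul_mem (hsN a) _
  have h0 : dd l • (l : M) + ∑ a ∈ Finset.univ.erase l, dd a • (a : M) ∈ Q := by
    rw [Finset.add_sum_erase _ (fun a : s => dd a • (a : M)) (Finset.mem_univ l)]
    show c0 dd ∈ Q
    rw [hd]
    exact Q.zero_mem
  have h1 := (hQ.mem_of_add_mem _ (N.nsmul_mem (hsN l) _) _ (hmem _) h0).1
  obtain ⟨n, hn⟩ := Nat.exists_eq_succ_of_ne_zero hl
  rw [hn, succ_nsmul'] at h1
  exact hlQ (hQ.mem_of_add_mem _ (hsN l) _ (N.nsmul_mem (hsN l) n) h1).1

/-- Faces of finitely generated monoids are finitely generated. -/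
theorem fg_of_isFace (hN : N.FG) (hQ : IsFace N Q) : Q.FG := by
  classical
  obtain ⟨s, hs⟩ := hN
  refine ⟨s.filter (· ∈ Q), le_antisymm (AddSubmonoid.closure_le.2 fun x hx => (Finset.mem_filter.1 hx).2) ?_⟩
  intro x hx
  have key : ∀ y ∈ AddSubmonoid.closure (s : Set M),
      y ∈ N ∧ (y ∈ Q → y ∈ AddSubmonoid.closure ((s.filter (· ∈ Q) : Finset M) : Set M)) := by
    intro y hy
    induction hy using AddSubmonoid.closure_induction with
    | mem y hy => exact ⟨hs ▸ AddSubmonoid.subset_closure hy,
        fun h => AddSubmonoid.subset_closure (Finset.mem_filter.2 ⟨hy, h⟩)⟩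
    | zero => exact ⟨N.zero_mem, fun _ => zero_mem _⟩
    | add a b _ _ ha hb =>
      exact ⟨N.add_mem ha.1 hb.1, fun h =>
        add_mem (ha.2 (hQ.mem_of_add_mem a ha.1 b hb.1 h).1) (hb.2 (hQ.mem_of_add_mem a ha.1 b hb.1 h).2)⟩
  exact (key x (hs.symm ▸ hQ.le hx)).2 hx

variable (R : Type u) [CommRing R]

/-- The ideal of monomials outside a face. -/
def faceIdeal (hQ : IsFace N Q) : Ideal (MonoidAlgebra R (Multiplicative N)) :=
  RingHom.ker (faceAlgHom R hQ).toRingHom

theorem coeff_faceAlgHom (hQ : IsFace N Q) (x : MonoidAlgebra R (Multiplicative N)) (n : N) (hn : (n : M) ∈ Q) :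
    (faceAlgHom R hQ x).coeff (Multiplicative.ofAdd ⟨n, hn⟩) = x.coeff (Multiplicative.ofAdd n) := by
  classical
  induction x using MonoidAlgebra.induction_linear with
  | zero => simp
  | add x y hx hy => simp [hx, hy]
  | single k r =>
    obtain ⟨k', hk'⟩ : ∃ k', Multiplicative.ofAdd k' = k := ⟨k.toAdd, rfl⟩
    subst hk'
    by_cases hk : (k' : M) ∈ Q
    · rw [faceAlgHom_single_of_mem R hQ k' hk, MonoidAlgebra.coeff_single, MonoidAlgebra.coeff_single,
        Finsupp.single_apply, Finsupp.single_apply]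
      refine if_congr ⟨fun h => ?_, fun h => ?_⟩ rfl rfl
      · have := congrArg (fun z : Multiplicative Q => (z.toAdd : M)) h
        exact congrArg Multiplicative.ofAdd (Subtype.ext this)
      · have := congrArg (fun z : Multiplicative N => (z.toAdd : M)) h
        exact congrArg Multiplicative.ofAdd (Subtype.ext this)
    · rw [faceAlgHom_single_of_not_mem R hQ k' hk, MonoidAlgebra.coeff_single, Finsupp.single_apply,
        if_neg]
      · simp
      · intro h
        exact hk (Multiplicative.ofAdd.injective h ▸ hn)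

theorem mem_faceIdeal_iff (hQ : IsFace N Q) (x : MonoidAlgebra R (Multiplicative N)) :
    x ∈ faceIdeal R hQ ↔ ∀ n : N, (n : M) ∈ Q → x.coeff (Multiplicative.ofAdd n) = 0 := by
  constructor
  · intro h n hn
    rw [← coeff_faceAlgHom R hQ x n hn, show faceAlgHom R hQ x = 0 from h]
    simp
  · intro h
    show faceAlgHom R hQ x = 0
    ext k
    have := coeff_faceAlgHom R hQ x ⟨k.toAdd, hQ.le k.toAdd.2⟩ k.toAdd.2
    rw [show k = Multiplicative.ofAdd ⟨((⟨k.toAdd, hQ.le k.toAdd.2⟩ : N) : M), k.toAdd.2⟩ from rfl, this,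
      h _ k.toAdd.2]
    simp

/-- Powers of the face ideal are supported on sums of many elements outside the face. -/
theorem divOutside_of_mem_pow (hQ : IsFace N Q) (k : ℕ) :
    ∀ x ∈ faceIdeal R hQ ^ k, ∀ n : N, x.coeff (Multiplicative.ofAdd n) ≠ 0 → DivOutside N Q k n := by
  classical
  induction k with
  | zero => intro x _ n _; exact n.2
  | succ k ih =>
    intro x hx
    rw [pow_succ] at hx
    refine Submodule.mul_induction_on hx (fun a ha b hb => ?_) (fun a b ha hb => ?_)
    · intro n hn
      rw [MonoidAlgebra.coeff_mul, Finsupp.sum] at hn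
      obtain ⟨p, hp, hp'⟩ := Finset.exists_ne_zero_of_sum_ne_zero hn
      rw [Finsupp.sum] at hp'
      obtain ⟨q, hq, hq'⟩ := Finset.exists_ne_zero_of_sum_ne_zero hp'
      have e : p * q = Multiplicative.ofAdd n := by by_contra h; exact hq' (if_neg h)
      have hqQ : (q.toAdd : M) ∉ Q := fun h =>
        Finsupp.mem_support_iff.1 hq ((mem_faceIdeal_iff R hQ b).1 hb _ h)
      refine ⟨_, q.toAdd.2, hqQ, _, ih a ha p.toAdd (Finsupp.mem_support_iff.1 hp), ?_⟩
      have := congrArg (fun z : Multiplicative N => (z.toAdd : M)) e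
      simpa [add_comm] using this
    · intro n hn
      by_cases h : a.coeff (Multiplicative.ofAdd n) = 0
      · exact hb n fun h' => hn (by simp [h, h'])
      · exact ha n h

/-- Coefficients of elements of high powers of the face ideal vanish. -/
theorem coeff_eq_zero_of_mem_pow (hQ : IsFace N Q) {k : ℕ} {x : MonoidAlgebra R (Multiplicative N)}
    (hx : x ∈ faceIdeal R hQ ^ k) (n : N) (hn : ¬ DivOutside N Q k n) : x.coeff (Multiplicative.ofAdd n) = 0 := by
  by_contra h
  exact hn (divOutside_of_mem_pow R hQ k x hx n h)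

/-- The face adic topology on the algebra of a finitely generated monoid is separated. -/
theorem eq_zero_of_forall_mem_pow (hN : N.FG) (hQ : IsFace N Q) {x : MonoidAlgebra R (Multiplicative N)}
    (hx : ∀ k, x ∈ faceIdeal R hQ ^ k) : x = 0 := by
  ext n
  obtain ⟨k, hk⟩ := exists_not_divOutside hN hQ (n.toAdd : M)
  simpa using coeff_eq_zero_of_mem_pow R hQ (hx k) n.toAdd hk

end Comb

section Charts

variable {S : Scheme.{u}} {M : Type} [AddCommMonoid M] {N Q : AddSubmonoid M}

theorem char_faceMap_of_mem (hQ : IsFace N Q) {T : Over S} (t : T ⟶ AMonS S Q) (n : N) (hn : (n : M) ∈ Q) :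
    MPts.char (t ≫ AMonS.faceMap S hQ) (Multiplicative.ofAdd n) =
      MPts.char t (Multiplicative.ofAdd ⟨n, hn⟩) := by
  let φ := CommRingCat.ofHom (faceAlgHom (ULift.{u} ℤ) hQ).toRingHom
  have e : MPts.specPt (t ≫ AMonS.faceMap S hQ) = MPts.specPt t ≫ Spec.map φ := by
    rw [MPts.specPt, MPts.specPt, Over.comp_left, Category.assoc, Category.assoc]
    exact _ ≫= MPts.pullback_map_left_fst (S := S) (AMon.faceMap (ULift.{u} ℤ) hQ)
  change (MPts.specPt (t ≫ AMonS.faceMap S hQ)).appTop ((MPts.coordIso N).inv (MPts.mon N _)) = _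
  rw [e, GmPts.appTop_comp_apply]
  change (MPts.specPt t).appTop _ = (MPts.specPt t).appTop ((MPts.coordIso Q).inv (MPts.mon Q _))
  congr 1
  refine (congrArg (fun ψ => (ConcreteCategory.hom ψ) (MPts.mon N (Multiplicative.ofAdd n)))
    (Scheme.ΓSpecIso_inv_naturality φ)).symm.trans ?_
  refine congrArg (fun z => (ConcreteCategory.hom (MPts.coordIso Q).inv) z) ?_
  exact faceAlgHom_single_of_mem _ hQ n hn 1

theorem char_faceMap_of_not_mem (hQ : IsFace N Q) {T : Over S} (t : T ⟶ AMonS S Q) (n : N) (hn : (n : M) ∉ Q) :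
    MPts.char (t ≫ AMonS.faceMap S hQ) (Multiplicative.ofAdd n) = 0 := by
  let φ := CommRingCat.ofHom (faceAlgHom (ULift.{u} ℤ) hQ).toRingHom
  have e : MPts.specPt (t ≫ AMonS.faceMap S hQ) = MPts.specPt t ≫ Spec.map φ := by
    rw [MPts.specPt, MPts.specPt, Over.comp_left, Category.assoc, Category.assoc]
    exact _ ≫= MPts.pullback_map_left_fst (S := S) (AMon.faceMap (ULift.{u} ℤ) hQ)
  change (MPts.specPt (t ≫ AMonS.faceMap S hQ)).appTop ((MPts.coordIso N).inv (MPts.mon N _)) = _
  rw [e, GmPts.appTop_comp_apply]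
  refine (congrArg _ ?_).trans (map_zero (MPts.specPt t).appTop.hom)
  refine (congrArg (fun ψ => (ConcreteCategory.hom ψ) (MPts.mon N (Multiplicative.ofAdd n)))
    (Scheme.ΓSpecIso_inv_naturality φ)).symm.trans ?_
  refine (congrArg (fun z => (ConcreteCategory.hom (MPts.coordIso Q).inv) z) ?_).trans (map_zero _)
  exact faceAlgHom_single_of_not_mem _ hQ n hn 1

variable {R : Type u} [CommRing R] (s : Spec (CommRingCat.of R) ⟶ S)

/-- The chart of a face morphism. -/
theorem chart_faceMap (hQ : IsFace N Q) :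
    ∃ d : chartObj s (algebraMap R (MonoidAlgebra R (Multiplicative Q))) ⟶
        chartObj s (algebraMap R (MonoidAlgebra R (Multiplicative N))),
      d.left = Spec.map (CommRingCat.ofHom (faceAlgHom R hQ).toRingHom) ∧
      d ≫ chart s (algebraMap R (MonoidAlgebra R (Multiplicative N))) (MonoidAlgebra.of R (Multiplicative N)) =
        chart s (algebraMap R (MonoidAlgebra R (Multiplicative Q))) (MonoidAlgebra.of R (Multiplicative Q)) ≫
          (AMonS.faceMap S hQ ▷ Over.mk s) := by
  classical
  let d : chartObj s (algebraMap R (MonoidAlgebra R (Multiplicative Q))) ⟶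
      chartObj s (algebraMap R (MonoidAlgebra R (Multiplicative N))) :=
    Over.homMk (Spec.map (CommRingCat.ofHom (faceAlgHom R hQ).toRingHom)) (by
      show _ ≫ Spec.map _ ≫ s = Spec.map _ ≫ s
      rw [← Spec.map_comp_assoc, ← CommRingCat.ofHom_comp,
        show (faceAlgHom R hQ).toRingHom.comp (algebraMap R (MonoidAlgebra R (Multiplicative N))) = algebraMap R _ from
          RingHom.ext (faceAlgHom R hQ).commutes])
  refine ⟨d, rfl, ?_⟩
  apply CartesianMonoidalCategory.hom_ext
  · apply MPts.char_injective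
    refine MonoidHom.ext fun n => ?_
    obtain ⟨n', hn'⟩ : ∃ k, Multiplicative.ofAdd k = n := ⟨n.toAdd, rfl⟩
    subst hn'
    rw [Category.assoc, MPts.char_comp, chart_fst_char, Category.assoc, whiskerRight_fst, ← Category.assoc]
    refine (appTop_specMap (faceAlgHom R hQ).toRingHom _).trans ?_
    by_cases hn : (n' : M) ∈ Q
    · rw [char_faceMap_of_mem hQ _ n' hn, chart_fst_char]
      exact congrArg _ (faceAlgHom_single_of_mem R hQ n' hn 1)
    · rw [char_faceMap_of_not_mem hQ _ n' hn]
      exact (congrArg _ (faceAlgHom_single_of_not_mem R hQ n' hn 1)).trans (map_zero _)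
  · rw [Category.assoc, Category.assoc, whiskerRight_snd, chart, chart, lift_snd, lift_snd]
    apply Over.OverMorphism.ext
    show Spec.map (CommRingCat.ofHom (faceAlgHom R hQ).toRingHom) ≫ Spec.map _ = Spec.map _
    rw [← Spec.map_comp, ← CommRingCat.ofHom_comp,
      show (faceAlgHom R hQ).toRingHom.comp (algebraMap R (MonoidAlgebra R (Multiplicative N))) = algebraMap R _ from
        RingHom.ext (faceAlgHom R hQ).commutes]

end Charts

end Groth.L11.Magnet
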