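import Groth.Agent.L11.Magnet.Pts
import Groth.Agent.L25.Actions
import Groth.Agent.L27.TopInv.Sections
import Mathlib.RingTheory.Etale.Descent
import Mathlib.AlgebraicGeometry.Morphisms.Finite
import Mathlib.AlgebraicGeometry.Morphisms.FlatDescent
import Mathlib.AlgebraicGeometry.ResidueField
import Mathlib.RingTheory.AdjoinRoot
import Mathlib.RingTheory.Polynomial.UniqueFactorization

/-!
Actions of the multiplicative affine line: limit points, stable opens, and the criterion for an
equivariant map to be an isomorphism.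
-/

set_option autoImplicit false
universe u

open CategoryTheory CategoryTheory.Limits MonoidalCategory CartesianMonoidalCategory AlgebraicGeometry Opposite
open scoped Polynomial CategoryTheory.MonObj

set_option backward.isDefEq.respectTransparency.types false

noncomputable section

namespace Groth.L11.Magnet

open _root_.Magnet

variable {S : Scheme.{u}} {T T' X Y : Over S}

/-- The point of the affine line monoid of a function. -/
def npt (r : Γ(T.left, ⊤)) : T ⟶ AMonS S ℕ := MPts.pt (powersHom _ r)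

theorem char_npt (r : Γ(T.left, ⊤)) (n : Multiplicative ℕ) : MPts.char (npt r) n = r ^ n.toAdd := by
  rw [npt, MPts.char_pt]; rfl

theorem comp_npt (g : T' ⟶ T) (r : Γ(T.left, ⊤)) : g ≫ npt r = npt (g.left.appTop r) := by
  refine MPts.char_injective (MonoidHom.ext fun n => ?_)
  rw [MPts.char_comp, char_npt, char_npt, map_pow]

theorem npt_mul (r r' : Γ(T.left, ⊤)) : npt (r * r') = npt r * npt r' := by
  refine MPts.char_injective (MonoidHom.ext fun n => ?_)
  rw [MPts.char_mul, MonoidHom.mul_apply, char_npt, char_npt, char_npt, mul_pow]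

theorem npt_one : npt (1 : Γ(T.left, ⊤)) = 1 := by
  refine MPts.char_injective (MonoidHom.ext fun n => ?_)
  rw [MPts.char_one, char_npt, one_pow]; rfl

/-- The limit of a point. -/
def lim (a : MonAct (AMonS S ℕ) X) (x : T ⟶ X) : T ⟶ X := lift (npt 0) x ≫ a.act

theorem comp_lim (a : MonAct (AMonS S ℕ) X) (g : T' ⟶ T) (x : T ⟶ X) : g ≫ lim a x = lim a (g ≫ x) := by
  rw [lim, lim, ← Category.assoc, comp_lift, comp_npt, map_zero]

theorem lim_fixed (a : MonAct (AMonS S ℕ) X) (x : T ⟶ X) (T' : Over S) (t : T' ⟶ T) (g : T' ⟶ AMonS S ℕ) :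
    lift g (t ≫ lim a x) ≫ a.act = t ≫ lim a x := by
  rw [comp_lim, lim, ← MonAct.lift_mul_act]
  congr 2
  refine MPts.char_injective (MonoidHom.ext fun n => ?_)
  rw [MPts.char_mul, MonoidHom.mul_apply, char_npt]
  rcases Nat.eq_zero_or_pos n.toAdd with hn | hn
  · have : n = 1 := by rw [← ofAdd_toAdd n, hn]; rfl
    rw [this, map_one, toAdd_one, pow_zero, one_mul]
  · rw [zero_pow (by omega), mul_zero]

/-- Acting by a unit and its inverse. -/
theorem act_unit_inv (a : MonAct (AMonS S ℕ) X) (r r' : Γ(T.left, ⊤)) (h : r' * r = 1) (x : T ⟶ X) :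
    lift (npt r') (lift (npt r) x ≫ a.act) ≫ a.act = x := by
  rw [← MonAct.lift_mul_act, ← npt_mul, h, npt_one, MonAct.lift_one_act]

theorem mem_act_of_stable (a : MonAct (AMonS S ℕ) X) {U : X.left.Opens}
    (hU : (snd (AMonS S ℕ) X).left ⁻¹ᵁ U ≤ a.act.left ⁻¹ᵁ U) (g : T ⟶ AMonS S ℕ) (x : T ⟶ X) (z : T.left)
    (hz : x.left z ∈ U) : (lift g x ≫ a.act).left z ∈ U := by
  refine hU (show ((lift g x ≫ snd (AMonS S ℕ) X).left z) ∈ U from ?_)
  rwa [lift_snd]

section Line

variable {K : Type u} [Field K] (s : Spec (CommRingCat.of K) ⟶ S)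

/-- The line over a point. -/
abbrev line : Over S := Over.mk (Spec.map (CommRingCat.ofHom (Polynomial.C : K →+* K[X])) ≫ s)

/-- The projection of the line. -/
def lineProj : line s ⟶ Over.mk s := Over.homMk (Spec.map (CommRingCat.ofHom (Polynomial.C : K →+* K[X]))) rfl

/-- The coordinate of the line. -/
def lineCoord : line s ⟶ AMonS S ℕ := npt ((Scheme.ΓSpecIso (CommRingCat.of K[X])).inv Polynomial.X)

/-- The orbit of a point along the line. -/
def path (a : MonAct (AMonS S ℕ) X) (x : Over.mk s ⟶ X) : line s ⟶ X :=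
  lift (lineCoord s) (lineProj s ≫ x) ≫ a.act

theorem comp_path (a : MonAct (AMonS S ℕ) X) (x : Over.mk s ⟶ X) {R : Type u} [CommRing R] (φ : K[X] →+* R)
    {t : Spec (CommRingCat.of R) ⟶ S} (e : Over.mk t ⟶ line s) (he : e.left = Spec.map (CommRingCat.ofHom φ)) :
    e ≫ path s a x = lift (npt ((Scheme.ΓSpecIso (CommRingCat.of R)).inv (φ Polynomial.X)))
      (e ≫ lineProj s ≫ x) ≫ a.act := by
  rw [path, ← Category.assoc, comp_lift, lineCoord, comp_npt, he]
  congr 3
  exact congrArg (fun ψ => (ConcreteCategory.hom ψ) Polynomial.X)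
    (Scheme.ΓSpecIso_inv_naturality (CommRingCat.ofHom φ)).symm

/-- Evaluation of the line at a scalar. -/
def lineEval (r : K) : Over.mk s ⟶ line s :=
  Over.homMk (Spec.map (CommRingCat.ofHom (Polynomial.evalRingHom r))) (by
    show _ ≫ Spec.map _ ≫ s = s
    rw [← Spec.map_comp_assoc, ← CommRingCat.ofHom_comp,
      show (Polynomial.evalRingHom r).comp Polynomial.C = RingHom.id K from RingHom.ext fun x => Polynomial.eval_C]
    simp)

theorem lineEval_proj (r : K) : lineEval s r ≫ lineProj s = 𝟙 _ := by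
  apply Over.OverMorphism.ext
  show Spec.map _ ≫ Spec.map _ = 𝟙 _
  rw [← Spec.map_comp, ← CommRingCat.ofHom_comp,
    show (Polynomial.evalRingHom r).comp Polynomial.C = RingHom.id K from RingHom.ext fun x => Polynomial.eval_C]
  simp

theorem lineEval_path (a : MonAct (AMonS S ℕ) X) (x : Over.mk s ⟶ X) (r : K) :
    lineEval s r ≫ path s a x = lift (npt ((Scheme.ΓSpecIso (CommRingCat.of K)).inv r)) x ≫ a.act := by
  rw [comp_path s a x (Polynomial.evalRingHom r) (lineEval s r) rfl, ← Category.assoc (lineEval s r),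
    lineEval_proj, Category.id_comp]
  simp

theorem lineEval_zero_path (a : MonAct (AMonS S ℕ) X) (x : Over.mk s ⟶ X) :
    lineEval s 0 ≫ path s a x = lim a x := by
  rw [lineEval_path, map_zero]; rfl

theorem lineEval_one_path (a : MonAct (AMonS S ℕ) X) (x : Over.mk s ⟶ X) :
    lineEval s 1 ≫ path s a x = x := by
  rw [lineEval_path, map_one, npt_one, MonAct.lift_one_act]

/-- Points of the line with given coordinate over a field extension. -/
theorem exists_line_pt {R : Type u} [CommRing R] {t : Spec (CommRingCat.of R) ⟶ S} (ψ : K →+* R) (c : R)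
    (kk : Over.mk t ⟶ Over.mk s) (hkk : kk.left = Spec.map (CommRingCat.ofHom ψ))
    (a : MonAct (AMonS S ℕ) X) (x : Over.mk s ⟶ X) :
    ∃ e : Over.mk t ⟶ line s, e.left = Spec.map (CommRingCat.ofHom (Polynomial.eval₂RingHom ψ c)) ∧
      e ≫ path s a x = lift (npt ((Scheme.ΓSpecIso (CommRingCat.of R)).inv c)) (kk ≫ x) ≫ a.act := by
  have hC : (Polynomial.eval₂RingHom ψ c).comp Polynomial.C = ψ := RingHom.ext fun y => Polynomial.eval₂_C _ _
  let e : Over.mk t ⟶ line s := Over.homMk (Spec.map (CommRingCat.ofHom (Polynomial.eval₂RingHom ψ c))) (by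
    show Spec.map _ ≫ Spec.map _ ≫ s = t
    rw [← Spec.map_comp_assoc, ← CommRingCat.ofHom_comp, hC, ← hkk]
    exact Over.w kk)
  have hproj : e ≫ lineProj s = kk := by
    apply Over.OverMorphism.ext
    show Spec.map _ ≫ Spec.map _ = _
    rw [← Spec.map_comp, ← CommRingCat.ofHom_comp, hC, hkk]
  refine ⟨e, rfl, ?_⟩
  rw [comp_path s a x _ e rfl, ← Category.assoc e, hproj]
  congr 5
  exact Polynomial.eval₂_X ψ c

/-- The generic point of the line. -/
def lineGen : Over.mk (Spec.map (CommRingCat.ofHom (algebraMap K[X] (FractionRing K[X]))) ≫ (line s).hom) ⟶ line s :=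
  Over.homMk (Spec.map (CommRingCat.ofHom (algebraMap K[X] (FractionRing K[X])))) rfl

/-- A nonempty open of the line contains the generic point. -/
theorem lineGen_mem {O : (line s).left.Opens} {z : (line s).left} (hz : z ∈ O)
    (w : (Spec (CommRingCat.of (FractionRing K[X])) : Scheme.{u})) : (lineGen s).left w ∈ O := by
  obtain ⟨-, ⟨p, rfl⟩, hzp, hpO⟩ :=
    PrimeSpectrum.isTopologicalBasis_basic_opens.exists_subset_of_mem_open hz O.2
  refine hpO (show p ∉ Ideal.comap (algebraMap K[X] (FractionRing K[X])) w.asIdeal from fun h => ?_)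
  have hp0 : p ≠ 0 := fun e => hzp (by rw [e]; exact Ideal.zero_mem _)
  have : algebraMap K[X] (FractionRing K[X]) p ∈ w.asIdeal := h
  refine w.2.ne_top (Ideal.eq_top_of_isUnit_mem _ this (Ne.isUnit ?_))
  exact fun e => hp0 (IsFractionRing.injective K[X] (FractionRing K[X]) (by rw [e, map_zero]))

/-- If the limit of a point lies in a stable open, so does the point. -/
theorem mem_of_lim_mem (a : MonAct (AMonS S ℕ) X) {U : X.left.Opens}
    (hU : (snd (AMonS S ℕ) X).left ⁻¹ᵁ U ≤ a.act.left ⁻¹ᵁ U) (x : Over.mk s ⟶ X)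
    (z : (Spec (CommRingCat.of K) : Scheme.{u})) (hz : (lim a x).left z ∈ U) : x.left z ∈ U := by
  let L := FractionRing K[X]
  obtain ⟨w⟩ : Nonempty (Spec (CommRingCat.of L) : Scheme.{u}) := inferInstanceAs (Nonempty (PrimeSpectrum L))
  have h0 : (lineEval s 0).left z ∈ (path s a x).left ⁻¹ᵁ U := by
    rw [← lineEval_zero_path] at hz; exact hz
  have h1 : (lineGen s ≫ path s a x).left w ∈ U := lineGen_mem s h0 w
  rw [comp_path s a x (algebraMap K[X] L) (lineGen s) rfl] at h1
  let r : Γ(Spec (CommRingCat.of L), ⊤) := (Scheme.ΓSpecIso (CommRingCat.of L)).inv (algebraMap K[X] L Polynomial.X)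
  let r' : Γ(Spec (CommRingCat.of L), ⊤) :=
    (Scheme.ΓSpecIso (CommRingCat.of L)).inv (algebraMap K[X] L Polynomial.X)⁻¹
  have hr : r' * r = 1 := by
    rw [← map_mul, inv_mul_cancel₀, map_one]
    exact fun e => Polynomial.X_ne_zero (IsFractionRing.injective K[X] L (by rw [e, map_zero]))
  have h2 := mem_act_of_stable a hU (npt (T := Over.mk _) r') _ w h1
  have e0 := act_unit_inv a (T := Over.mk _) r r' hr (lineGen s ≫ lineProj s ≫ x)
  replace h2 : (lineGen s ≫ lineProj s ≫ x).left w ∈ U := (congrArg (fun k => k.left w ∈ U) e0).mp h2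
  have e : (lineGen s ≫ lineProj s).left w = z :=
    Subsingleton.elim (α := PrimeSpectrum K) _ _
  rw [← e]
  exact h2

end Line

end Groth.L11.Magnet
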