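import Groth.Agent.L11.Magnet.A1Act

/-!
An equivariant map of locally linear schemes with an action of the affine line monoid which is
bijective on fixed points and etale near them is an isomorphism.
-/

set_option autoImplicit false
universe u

open CategoryTheory CategoryTheory.Limits MonoidalCategory CartesianMonoidalCategory AlgebraicGeometry Opposite
open scoped Polynomial CategoryTheory.MonObj

set_option backward.isDefEq.respectTransparency.types false

noncomputable section

namespace Groth.L11.Magnet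

open _root_.Magnet

/-- Some irreducible polynomial over the small field is coprime to a given one over the big field. -/
theorem exists_coprime_irreducible {k K : Type u} [Field k] [Field K] (φ : k →+* K) (p : K[X]) (hp : p ≠ 0) :
    ∃ π : k[X], Irreducible π ∧ IsCoprime π Polynomial.X ∧ IsCoprime (π.map φ) p := by
  classical
  by_contra hcon
  push_neg at hcon
  let B : Set k[X] := {π | Irreducible π ∧ π.Monic ∧ ¬ IsCoprime (π.map φ) p}
  have hbad : ∀ π ∈ B, ∃ g ∈ (UniqueFactorizationMonoid.normalizedFactors p).toFinset, g ∣ π.map φ := by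
    rintro π ⟨-, -, hc⟩
    rw [← isRelPrime_iff_isCoprime] at hc
    obtain ⟨d, hd1, hd2, hd⟩ : ∃ d, d ∣ π.map φ ∧ d ∣ p ∧ ¬ IsUnit d := by
      simpa [IsRelPrime] using hc
    obtain ⟨g, hg, hgd⟩ := WfDvdMonoid.exists_irreducible_factor hd (fun e => hp (by simpa [e] using hd2))
    obtain ⟨g', hg', hgg'⟩ := UniqueFactorizationMonoid.exists_mem_normalizedFactors_of_dvd hp hg (hgd.trans hd2)
    exact ⟨g', Multiset.mem_toFinset.2 hg', hgg'.symm.dvd.trans (hgd.trans hd1)⟩
  choose g hg hgdvd using hbad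
  have hfin : B.Finite := by
    have : Finite B := Finite.of_injective
      (β := {x // x ∈ (UniqueFactorizationMonoid.normalizedFactors p).toFinset})
      (fun π => ⟨g π.1 π.2, hg π.1 π.2⟩) (by
        rintro ⟨π₁, h₁⟩ ⟨π₂, h₂⟩ e
        have e' : g π₁ h₁ = g π₂ h₂ := congrArg Subtype.val e
        by_contra hne
        have hne' : π₁ ≠ π₂ := fun h => hne (Subtype.ext h)
        have hco : IsCoprime π₁ π₂ := by
          rw [h₁.1.coprime_iff_not_dvd]
          exact fun hd => hne' (Polynomial.eq_of_monic_of_associated h₁.2.1 h₂.2.1 (h₁.1.associated_of_dvd h₂.1 hd))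
        have hu := (hco.map (Polynomial.mapRingHom φ)).isUnit_of_dvd' (hgdvd _ h₁) (e' ▸ hgdvd _ h₂)
        exact (UniqueFactorizationMonoid.irreducible_of_normalized_factor _
          (Multiset.mem_toFinset.1 (hg _ h₁))).not_isUnit hu)
    exact B.toFinite
  let P : k[X] := Polynomial.X * ∏ π ∈ hfin.toFinset, π
  have hP0 : P ≠ 0 := mul_ne_zero Polynomial.X_ne_zero
    (Finset.prod_ne_zero_iff.2 fun π hπ => (hfin.mem_toFinset.1 hπ).1.ne_zero)
  have hP : ¬ IsUnit (P + 1) := by
    intro h
    have h0 := Polynomial.natDegree_eq_zero_of_isUnit h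
    rw [← Polynomial.C_1, Polynomial.natDegree_add_C, Polynomial.natDegree_mul Polynomial.X_ne_zero
      (Finset.prod_ne_zero_iff.2 fun π hπ => (hfin.mem_toFinset.1 hπ).1.ne_zero), Polynomial.natDegree_X] at h0
    omega
  obtain ⟨q, hq, hmon, hqd⟩ : ∃ q : k[X], Irreducible q ∧ q.Monic ∧ q ∣ P + 1 := by
    obtain ⟨q, hqm, hqi, hqd⟩ := Polynomial.exists_monic_irreducible_factor _ hP
    exact ⟨q, hqi, hqm, hqd⟩
  have hqP : ∀ r, r ∣ P → IsCoprime q r := fun r hr => by
    rw [hq.coprime_iff_not_dvd]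
    exact fun h => hq.not_isUnit (isUnit_of_dvd_one ((dvd_add_right (h.trans hr)).1 hqd))
  refine hq.not_isUnit ?_
  have hqB : q ∈ B := ⟨hq, hmon, hcon q hq (hqP _ (dvd_mul_right _ _))⟩
  exact (hqP q ((Finset.dvd_prod_of_mem (fun x => x) (hfin.mem_toFinset.2 hqB)).trans (dvd_mul_left _ _))).isUnit_of_dvd' dvd_rfl dvd_rfl

variable {S : Scheme.{u}} {W X Y : Over S}

/-- The residue field point. -/
abbrev resObj (x : X.left) : Over S := Over.mk (X.left.fromSpecResidueField x ≫ X.hom)

/-- The residue field point as a morphism. -/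
def resPt (x : X.left) : resObj x ⟶ X := Over.homMk (X.left.fromSpecResidueField x) rfl

theorem resPt_apply (x : X.left) (z : (resObj x).left) : (resPt x).left z = x :=
  Scheme.fromSpecResidueField_apply x z

theorem exists_resPt_fac (g : W ⟶ X) (z : W.left) {x : X.left} (h : g.left z = x) :
    ∃ k : resObj z ⟶ resObj x, k ≫ resPt x = resPt z ≫ g := by
  subst h
  refine ⟨Over.homMk (Spec.map (g.left.residueFieldMap z)) ?_, Over.OverMorphism.ext ?_⟩
  · show Spec.map _ ≫ _ ≫ X.hom = _ ≫ W.hom
    rw [← Category.assoc, Scheme.Hom.SpecMap_residueFieldMap_fromSpecResidueField, Category.assoc, Over.w g]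
  · exact Scheme.Hom.SpecMap_residueFieldMap_fromSpecResidueField g.left z

section Field

variable {k : Type u} [Field k] {X Y : Over (Spec (CommRingCat.of k))}
  {a : MonAct (AMonS (Spec (CommRingCat.of k)) ℕ) X} {b : MonAct (AMonS (Spec (CommRingCat.of k)) ℕ) Y}
  {f : X ⟶ Y}

instance descendsAlong_etale :
    MorphismProperty.DescendsAlong (@Etale : MorphismProperty Scheme.{u}) (@Surjective ⊓ @Flat ⊓ @QuasiCompact) :=
  HasRingHomProperty.descendsAlong_flat RingHom.Etale.codescendsAlong_faithfullyFlat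

/-- The limit of a point lies in an open only if almost all points of its path do. -/
theorem exists_poly_of_lim_mem {K : Type u} [Field K] (s : Spec (CommRingCat.of K) ⟶ Spec (CommRingCat.of k))
    (x : Over.mk s ⟶ X) (V : X.left.Opens) (h : ∀ z, (lim a x).left z ∈ V) :
    ∃ p : K[X], p ≠ 0 ∧ ∀ q : (line s).left, p ∉ (show PrimeSpectrum K[X] from q).asIdeal →
      (path s a x).left q ∈ V := by
  obtain ⟨z0⟩ : Nonempty (Over.mk s).left := inferInstanceAs (Nonempty (PrimeSpectrum K))
  have h0 : (lineEval s 0).left z0 ∈ (path s a x).left ⁻¹ᵁ V := by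
    have := h z0
    rw [← lineEval_zero_path] at this
    exact this
  obtain ⟨-, ⟨p, rfl⟩, hzp, hpO⟩ :=
    PrimeSpectrum.isTopologicalBasis_basic_opens.exists_subset_of_mem_open h0 (TopologicalSpace.Opens.isOpen _)
  exact ⟨p, fun e => hzp (by rw [e]; exact Ideal.zero_mem _), fun q hq => hpO hq⟩

/-- Translating by a root of a polynomial coprime to the equation moves a point into the open. -/
theorem translate_mem {K K' L : Type u} [Field K] [Field K'] [Field L]
    {s : Spec (CommRingCat.of K) ⟶ Spec (CommRingCat.of k)} {t : Spec (CommRingCat.of K') ⟶ Spec (CommRingCat.of k)}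
    {jL : k →+* L} (r : L) {π : k[X]} (hπ : π.eval₂ jL r = 0)
    (φ : k →+* K) (hφ : Spec.map (CommRingCat.ofHom φ) = s) (p : K[X]) (hπp : IsCoprime (π.map φ) p)
    (x : Over.mk s ⟶ X) (V : X.left.Opens)
    (hp : ∀ q : (line s).left, p ∉ (show PrimeSpectrum K[X] from q).asIdeal → (path s a x).left q ∈ V)
    (z : Over.mk t ⟶ Over.mk (Spec.map (CommRingCat.ofHom jL))) (kk : Over.mk t ⟶ Over.mk s)
    (w : (Over.mk t).left) :
    (lift (z ≫ npt ((Scheme.ΓSpecIso (CommRingCat.of L)).inv r)) (kk ≫ x) ≫ a.act).left w ∈ V := by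
  let ψ : K →+* K' := (Spec.preimage kk.left).hom
  let ρ : L →+* K' := (Spec.preimage z.left).hom
  have hψ : Spec.map (CommRingCat.ofHom ψ) = kk.left := by rw [CommRingCat.ofHom_hom, Spec.map_preimage]
  have hρ : Spec.map (CommRingCat.ofHom ρ) = z.left := by rw [CommRingCat.ofHom_hom, Spec.map_preimage]
  have hcompat : ψ.comp φ = ρ.comp jL := by
    have e1 := Over.w kk
    have e2 := Over.w z
    rw [← hψ] at e1
    rw [← hρ] at e2
    change Spec.map _ ≫ s = t at e1
    change Spec.map _ ≫ Spec.map _ = t at e2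
    rw [← hφ] at e1
    rw [← e2, ← Spec.map_comp, ← Spec.map_comp] at e1
    exact congrArg CommRingCat.Hom.hom (Spec.map_injective e1)
  let ev : K[X] →+* K' := Polynomial.eval₂RingHom ψ (ρ r)
  have hev : ev p ≠ 0 := by
    intro e
    obtain ⟨u, v, huv⟩ := hπp
    have h1 := congrArg ev huv
    rw [map_add, map_mul, map_mul, e, mul_zero, add_zero, map_one] at h1
    have h2 : ev (π.map φ) = 0 := by
      show Polynomial.eval₂ ψ _ (π.map φ) = 0
      rw [Polynomial.eval₂_map, hcompat, ← Polynomial.hom_eval₂, hπ, map_zero]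
    rw [h2, mul_zero] at h1
    exact zero_ne_one h1
  obtain ⟨e, he, hpath⟩ := exists_line_pt s ψ (ρ r) kk hψ.symm a x
  have hr : z ≫ npt ((Scheme.ΓSpecIso (CommRingCat.of L)).inv r) =
      npt ((Scheme.ΓSpecIso (CommRingCat.of K')).inv (ρ r)) := by
    rw [comp_npt, ← hρ]
    exact congrArg npt (congrArg (fun q => (ConcreteCategory.hom q) r)
      (Scheme.ΓSpecIso_inv_naturality (CommRingCat.ofHom ρ))).symm
  rw [hr, ← hpath]
  show (path s a x).left (e.left w) ∈ V
  refine hp _ ?_
  rw [he]
  exact fun hh => (show PrimeSpectrum K' from w).2.ne_top (Ideal.eq_top_of_isUnit_mem _ hh (Ne.isUnit hev))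

/-- Points whose limits lie in an open on which the map is etale have etale neighbourhoods. -/
theorem exists_etale_nhd (hf : MonAct.IsEquivariant a b f) (V : X.left.Opens) [Etale (V.ι ≫ f.left)]
    (x : X.left) (hlim : ∀ z, (lim a (resPt x)).left z ∈ V) :
    ∃ V' : X.left.Opens, x ∈ V' ∧ Etale (V'.ι ≫ f.left) := by
  classical
  obtain ⟨p, hp0, hp⟩ := exists_poly_of_lim_mem (K := X.left.residueField x) _ (resPt x) V hlim
  let φ : k →+* X.left.residueField x := (Spec.preimage (resObj x).hom).hom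
  have hφ : Spec.map (CommRingCat.ofHom φ) = (resObj x).hom := by rw [CommRingCat.ofHom_hom, Spec.map_preimage]
  obtain ⟨π, hπ, hπX, hπp⟩ := exists_coprime_irreducible φ p hp0
  have : Fact (Irreducible π) := ⟨hπ⟩
  let L := AdjoinRoot π
  let Q : Over (Spec (CommRingCat.of k)) := Over.mk (Spec.map (CommRingCat.ofHom (algebraMap k L)))
  have hroot : AdjoinRoot.root π ≠ 0 := by
    intro e
    obtain ⟨c, hc⟩ : π ∣ Polynomial.X := AdjoinRoot.mk_eq_zero.1 (AdjoinRoot.mk_X.trans e)
    exact hπ.not_isUnit (hπX.isUnit_of_dvd' dvd_rfl ⟨c, hc⟩)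
  let r : Γ(Q.left, ⊤) := (Scheme.ΓSpecIso (CommRingCat.of L)).inv (AdjoinRoot.root π)
  let r' : Γ(Q.left, ⊤) := (Scheme.ΓSpecIso (CommRingCat.of L)).inv (AdjoinRoot.root π)⁻¹
  have hrr : r * r' = 1 := by rw [← map_mul, mul_inv_cancel₀ hroot, map_one]
  have hr'r : r' * r = 1 := by rw [mul_comm, hrr]
  let sh : ∀ {Z : Over (Spec (CommRingCat.of k))} (c : MonAct (AMonS (Spec (CommRingCat.of k)) ℕ) Z),
      Γ(Q.left, ⊤) → (Q ⊗ Z ⟶ Q ⊗ Z) := fun {Z} c q =>
    lift (fst Q Z) (lift (fst Q Z ≫ npt q) (snd Q Z) ≫ c.act)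
  have hsh : ∀ {Z : Over (Spec (CommRingCat.of k))} (c : MonAct (AMonS (Spec (CommRingCat.of k)) ℕ) Z)
      (q q' : Γ(Q.left, ⊤)), q * q' = 1 → sh c q' ≫ sh c q = 𝟙 _ := by
    intro Z c q q' h
    apply CartesianMonoidalCategory.hom_ext
    · simp [sh]
    · simp only [sh, Category.assoc, lift_snd, Category.id_comp]
      rw [← Category.assoc, comp_lift, ← Category.assoc, lift_fst, lift_snd]
      rw [← MonAct.lift_mul_act, ← MonObj.comp_mul, ← npt_mul, h, npt_one, MonObj.comp_one, MonAct.lift_one_act]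
  have hshf : sh a r ≫ (Q ◁ f) = (Q ◁ f) ≫ sh b r := by
    apply CartesianMonoidalCategory.hom_ext
    · simp [sh]
    · simp only [sh, Category.assoc, whiskerLeft_snd, lift_snd, lift_snd_assoc]
      rw [(MonAct.isEquivariant_iff a b f).1 hf, ← Category.assoc (Q ◁ f), comp_lift, whiskerLeft_fst_assoc,
        whiskerLeft_snd]
  let O : (Q ⊗ X).left.Opens := (sh a r).left ⁻¹ᵁ ((snd Q X).left ⁻¹ᵁ V)
  have hfin : IsFinite (snd Q X).left := by
    refine MorphismProperty.of_isPullback (Groth.L25.Actions.isPullback_snd Q X) ?_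
    exact (IsFinite.SpecMap_iff _).2 (RingHom.finite_algebraMap.2 (AdjoinRoot.powerBasis hπ.ne_zero).finite)
  have hclosed : IsClosed ((snd Q X).left '' (O : Set (Q ⊗ X).left)ᶜ) :=
    (snd Q X).left.isClosedMap _ O.2.isClosed_compl
  refine ⟨⟨_, hclosed.isOpen_compl⟩, ?_, ?_⟩
  · rintro ⟨z, hz, hzx⟩
    refine hz ?_
    obtain ⟨kk, hkk⟩ := exists_resPt_fac (snd Q X) z hzx
    obtain ⟨w⟩ : Nonempty (resObj z).left := inferInstanceAs (Nonempty (PrimeSpectrum ((Q ⊗ X).left.residueField z)))
    have hmem := translate_mem (K := X.left.residueField x) (K' := (Q ⊗ X).left.residueField z) (AdjoinRoot.root π)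
      (AdjoinRoot.eval₂_root π) φ hφ p hπp (resPt x) V hp (resPt z ≫ fst Q X) kk w
    have e : lift ((resPt z ≫ fst Q X) ≫ npt r) (kk ≫ resPt x) ≫ a.act = resPt z ≫ sh a r ≫ snd Q X := by
      simp only [sh, lift_snd]
      rw [← Category.assoc (resPt z), comp_lift, ← Category.assoc (resPt z), hkk]
    have hmem' : (sh a r ≫ snd Q X).left ((resPt z).left w) ∈ V :=
      (congrArg (fun q => q.left w ∈ V) e).mp hmem
    rwa [resPt_apply] at hmem'
  · let V' : X.left.Opens := ⟨_, hclosed.isOpen_compl⟩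
    show Etale (V'.ι ≫ f.left)
    let h : (Q ⊗ X).left ⟶ (Q ⊗ Y).left := (Q ◁ f).left
    have hsqf : IsPullback h (snd Q X).left (snd Q Y).left f.left :=
      Groth.L25.Actions.isPullback_whiskerLeft_left Q f
    have hbc : ∀ U : X.left.Opens, IsPullback (((snd Q X).left ⁻¹ᵁ U).ι ≫ h) ((snd Q X).left ∣_ U)
        (snd Q Y).left (U.ι ≫ f.left) := fun U =>
      IsPullback.paste_horiz (isPullback_morphismRestrict (snd Q X).left U).flip hsqf
    have hV : Etale (((snd Q X).left ⁻¹ᵁ V).ι ≫ h) := MorphismProperty.of_isPullback (hbc V).flip inferInstance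
    have hb : IsIso (sh b r).left := by
      have : IsIso (sh b r) := ⟨sh b r', hsh b r' r hr'r, hsh b r r' hrr⟩
      exact inferInstanceAs (IsIso ((Over.forget _).map (sh b r)))
    have hO : Etale (O.ι ≫ h) := by
      have : IsIso (sh a r).left := by
        have : IsIso (sh a r) := ⟨sh a r', hsh a r' r hr'r, hsh a r r' hrr⟩
        exact inferInstanceAs (IsIso ((Over.forget _).map (sh a r)))
      have e1 : (O.ι ≫ h) ≫ (sh b r).left = ((sh a r).left ∣_ _) ≫ ((snd Q X).left ⁻¹ᵁ V).ι ≫ h := by
        rw [morphismRestrict_ι_assoc, Category.assoc, ← Over.comp_left, ← hshf, Over.comp_left]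
      have : Etale ((O.ι ≫ h) ≫ (sh b r).left) := by rw [e1]; infer_instance
      exact Etale.of_comp _ (sh b r).left
    have hle : (snd Q X).left ⁻¹ᵁ V' ≤ O := fun z hz => by
      by_contra hzO
      exact hz ⟨z, hzO, rfl⟩
    have hV' : Etale (((snd Q X).left ⁻¹ᵁ V').ι ≫ h) := by
      rw [← Scheme.homOfLE_ι _ hle, Category.assoc]
      infer_instance
    have h1 : Surjective Q.hom := by
      have : Nonempty (PrimeSpectrum L) := inferInstance
      exact ⟨fun y => ⟨Classical.arbitrary (PrimeSpectrum L), Subsingleton.elim (α := PrimeSpectrum k) _ _⟩⟩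
    have h2 : Flat Q.hom := (HasRingHomProperty.Spec_iff (P := @Flat)).2 (RingHom.flat_algebraMap_iff.2 inferInstance)
    have hq : (@Surjective ⊓ @Flat ⊓ @QuasiCompact : MorphismProperty Scheme.{u}) (snd Q Y).left :=
      ⟨⟨MorphismProperty.of_isPullback (Groth.L25.Actions.isPullback_snd Q Y) h1,
        MorphismProperty.of_isPullback (Groth.L25.Actions.isPullback_snd Q Y) h2⟩,
        MorphismProperty.of_isPullback (Groth.L25.Actions.isPullback_snd Q Y) (inferInstanceAs (QuasiCompact (Spec.map _)))⟩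
    exact MorphismProperty.of_isPullback_of_descendsAlong (P := @Etale) (hbc V') hq hV'

/-- An open equivariant immersion which is surjective on fixed points is surjective. -/
theorem mem_range_of_equivariant {K : Type u} [Field K] (hf : MonAct.IsEquivariant a b f) [IsOpenImmersion f.left]
    (hsurj : ∀ T, Function.Surjective ((MonAct.fixedPsh.map f hf).app (op T)))
    (s : Spec (CommRingCat.of K) ⟶ Spec (CommRingCat.of k)) (yt : Over.mk s ⟶ Y) (z0 : (Over.mk s).left) :
    yt.left z0 ∈ Set.range f.left := by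
  obtain ⟨x0, hx0⟩ := hsurj (Over.mk s) ⟨lim b yt, fun T' t g => lim_fixed b yt T' t g⟩
  have hx0' : x0.1 ≫ f = lim b yt := congrArg Subtype.val hx0
  let L := FractionRing K[X]
  have h0 : (lineEval s 0).left z0 ∈ (path s b yt).left ⁻¹ᵁ f.left.opensRange := by
    show (lineEval s 0 ≫ path s b yt).left z0 ∈ Set.range f.left
    rw [lineEval_zero_path, ← hx0']
    exact ⟨_, rfl⟩
  let g := lineGen s ≫ path s b yt
  have hrange : Set.range g.left ⊆ Set.range f.left := by
    rintro - ⟨w, rfl⟩
    exact lineGen_mem s h0 w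
  let l := IsOpenImmersion.lift f.left g.left hrange
  let lx : Over.mk ((Spec.map (CommRingCat.ofHom (algebraMap K[X] L))) ≫ (line s).hom) ⟶ X := Over.homMk l (by
    show l ≫ X.hom = _
    rw [← Over.w f, IsOpenImmersion.lift_fac_assoc]
    exact Over.w g)
  have hlx : lx ≫ f = g := Over.OverMorphism.ext (IsOpenImmersion.lift_fac _ _ _)
  let r : Γ(Spec (CommRingCat.of L), ⊤) :=
    (Scheme.ΓSpecIso (CommRingCat.of L)).inv (algebraMap K[X] L Polynomial.X)
  let r' : Γ(Spec (CommRingCat.of L), ⊤) :=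
    (Scheme.ΓSpecIso (CommRingCat.of L)).inv (algebraMap K[X] L Polynomial.X)⁻¹
  have hr : r' * r = 1 := by
    rw [← map_mul, inv_mul_cancel₀, map_one]
    exact fun e => Polynomial.X_ne_zero (IsFractionRing.injective K[X] L (by rw [e, map_zero]))
  have e1 : (lift (npt r') lx ≫ a.act) ≫ f = lineGen s ≫ lineProj s ≫ yt := by
    rw [Category.assoc, (MonAct.isEquivariant_iff a b f).1 hf, hlx]
    show lift _ (lineGen s ≫ path s b yt) ≫ b.act = _
    rw [comp_path s b yt (algebraMap _ L) (lineGen s) rfl]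
    exact act_unit_inv b (T := Over.mk _) r r' hr _
  obtain ⟨w⟩ : Nonempty (Spec (CommRingCat.of L) : Scheme.{u}) := inferInstanceAs (Nonempty (PrimeSpectrum L))
  refine ⟨(lift (npt r') lx ≫ a.act).left w, (congrArg (fun q => q.left w) e1).trans ?_⟩
  exact congrArg yt.left (Subsingleton.elim (α := PrimeSpectrum K) _ _)

/-- An equivariant map which is bijective on fixed points and etale near them is an isomorphism. -/
theorem isIso_of_equivariant (hf : MonAct.IsEquivariant a b f)
    (hX : ∀ x : X.left, ∃ U : X.left.Opens, x ∈ U ∧ IsAffineOpen U ∧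
      (snd (AMonS (Spec (CommRingCat.of k)) ℕ) X).left ⁻¹ᵁ U ≤ a.act.left ⁻¹ᵁ U)
    (h1 : IsIso (MonAct.fixedPsh.map f hf)) (V : X.left.Opens) [Etale (V.ι ≫ f.left)]
    (h3 : ∀ (T : Over (Spec (CommRingCat.of k))) (x : (MonAct.fixedPsh a).obj (op T)), x.1.left ⁻¹ᵁ V = ⊤) :
    IsIso f := by
  classical
  let fx : ∀ {T : Over (Spec (CommRingCat.of k))}, (T ⟶ X) → (MonAct.fixedPsh a).obj (op T) :=
    fun {T} x => ⟨lim a x, fun T' t g => lim_fixed a x T' t g⟩
  have hlimf : ∀ {T : Over (Spec (CommRingCat.of k))} (x : T ⟶ X), lim a x ≫ f = lim b (x ≫ f) := by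
    intro T x
    rw [lim, lim, Category.assoc, (MonAct.isEquivariant_iff a b f).1 hf]
  have hV : ∀ {T : Over (Spec (CommRingCat.of k))} (x : T ⟶ X) (z : T.left), (lim a x).left z ∈ V := by
    intro T x z
    have := (h3 T (fx x)).ge (show z ∈ (⊤ : T.left.Opens) from trivial)
    exact this
  have : Etale f.left := by
    choose V' hx hV' using fun x : X.left => exists_etale_nhd hf V x (hV (resPt x))
    exact (IsZariskiLocalAtSource.iff_of_iSup_eq_top (P := @Etale) V'
      (top_unique fun x _ => TopologicalSpace.Opens.mem_iSup.2 ⟨x, hx x⟩)).2 hV'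
  have hbij : ∀ T, Function.Bijective ((MonAct.fixedPsh.map f hf).app (op T)) := fun T =>
    (isIso_iff_bijective _).1 (inferInstanceAs (IsIso ((MonAct.fixedPsh.map f hf).app (op T))))
  have hinj : UniversallyInjective f.left := by
    refine ((tfae_universallyInjective f.left).out 0 1).2 ?_
    intro K _ g₁ g₂ hg
    let s : Spec (CommRingCat.of K) ⟶ Spec (CommRingCat.of k) := g₁ ≫ X.hom
    have hg' : g₂ ≫ X.hom = s := by
      show g₂ ≫ X.hom = g₁ ≫ X.hom
      rw [← Over.w f, reassoc_of% hg]
    let x₁ : Over.mk s ⟶ X := Over.homMk g₁ rfl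
    let x₂ : Over.mk s ⟶ X := Over.homMk g₂ hg'
    have hx : x₁ ≫ f = x₂ ≫ f := Over.OverMorphism.ext hg
    have hlim : lim a x₁ = lim a x₂ := by
      have := (hbij (Over.mk s)).1 (a₁ := fx x₁) (a₂ := fx x₂) (Subtype.ext (by
        show lim a x₁ ≫ f = lim a x₂ ≫ f
        rw [hlimf, hlimf, hx]))
      exact congrArg Subtype.val this
    obtain ⟨z0⟩ : Nonempty (Over.mk s).left := inferInstanceAs (Nonempty (PrimeSpectrum K))
    obtain ⟨U, hU0, hUa, hUs⟩ := hX ((lim a x₁).left z0)
    have hmem : ∀ x : Over.mk s ⟶ X, (lim a x).left z0 ∈ U → Set.range (path s a x).left ⊆ Set.range U.ι := by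
      intro x hx0
      rw [Scheme.Opens.range_ι]
      rintro - ⟨w, rfl⟩
      have hxz := mem_of_lim_mem s a hUs x z0 hx0
      refine mem_act_of_stable a hUs (lineCoord s) (lineProj s ≫ x) w ?_
      have : (lineProj s).left w = z0 := Subsingleton.elim (α := PrimeSpectrum K) _ _
      show x.left ((lineProj s).left w) ∈ U
      rwa [this]
    let l₁ := IsOpenImmersion.lift U.ι (path s a x₁).left (hmem x₁ hU0)
    let l₂ := IsOpenImmersion.lift U.ι (path s a x₂).left (hmem x₂ (hlim ▸ hU0))
    have hl₁ : l₁ ≫ U.ι = (path s a x₁).left := IsOpenImmersion.lift_fac _ _ _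
    have hl₂ : l₂ ≫ U.ι = (path s a x₂).left := IsOpenImmersion.lift_fac _ _ _
    have hpf : path s a x₁ ≫ f = path s a x₂ ≫ f := by
      rw [path, path, Category.assoc, Category.assoc, (MonAct.isEquivariant_iff a b f).1 hf,
        (MonAct.isEquivariant_iff a b f).1 hf, Category.assoc, Category.assoc, hx]
    let fU : U.toScheme ⟶ Y.left := U.ι ≫ f.left
    have : IsAffine U.toScheme := hUa
    have : IsSeparated fU := by
      have : IsSeparated (fU ≫ terminal.from Y.left) := by
        rw [terminal.comp_from]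
        exact Scheme.isSeparated_iff _ |>.1 inferInstance
      exact IsSeparated.of_comp fU (terminal.from Y.left)
    have hcond : l₁ ≫ fU = l₂ ≫ fU := by
      show l₁ ≫ U.ι ≫ f.left = l₂ ≫ U.ι ≫ f.left
      rw [reassoc_of% hl₁, reassoc_of% hl₂]
      exact congrArg (fun q => q.left) hpf
    let m := pullback.lift l₁ l₂ hcond
    let Δ := pullback.diagonal fU
    have hclopen : IsClopen (m ⁻¹' Set.range Δ) :=
      ⟨Δ.isClosedEmbedding.isClosed_range.preimage m.continuous,
        Δ.isOpenEmbedding.isOpen_range.preimage m.continuous⟩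
    have : PreconnectedSpace (line s).left := inferInstanceAs (PreconnectedSpace (PrimeSpectrum K[X]))
    have h0 : (lineEval s 0).left ≫ l₁ = (lineEval s 0).left ≫ l₂ := by
      rw [← cancel_mono U.ι, Category.assoc, Category.assoc, hl₁, hl₂, ← Over.comp_left, ← Over.comp_left,
        lineEval_zero_path, lineEval_zero_path, hlim]
    have hne : (m ⁻¹' Set.range Δ).Nonempty := by
      refine ⟨(lineEval s 0).left z0, ((lineEval s 0).left ≫ l₁) z0, ?_⟩
      show ((_ ≫ l₁) ≫ Δ) z0 = ((lineEval s 0).left ≫ m) z0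
      have e : ((lineEval s 0).left ≫ l₁) ≫ Δ = (lineEval s 0).left ≫ m := by
        apply pullback.hom_ext
        · simp only [Δ, m, Category.assoc, pullback.diagonal_fst, Category.comp_id]
          rw [pullback.lift_fst]
        · simp only [Δ, m, Category.assoc, pullback.diagonal_snd, Category.comp_id]
          rw [pullback.lift_snd, h0]
      exact congrArg (fun q : (Over.mk s).left ⟶ pullback fU fU => q z0) e
    have hall := hclopen.eq_univ hne
    have hm : Set.range m ⊆ Set.range Δ := by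
      rintro - ⟨w, rfl⟩
      exact hall.ge (Set.mem_univ w)
    have hfac := IsOpenImmersion.lift_fac Δ m hm
    have hl : l₁ = l₂ := by
      have h₁ : m ≫ pullback.fst fU fU = l₁ := pullback.lift_fst _ _ _
      have h₂ : m ≫ pullback.snd fU fU = l₂ := pullback.lift_snd _ _ _
      rw [← h₁, ← h₂, ← hfac, Category.assoc, Category.assoc, pullback.diagonal_fst, pullback.diagonal_snd]
    have hp : path s a x₁ = path s a x₂ := Over.OverMorphism.ext (by rw [← hl₁, ← hl₂, hl])
    have := congrArg (fun q => (lineEval s 1 ≫ q).left) hp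
    simp only [lineEval_one_path] at this
    exact this
  have : IsOpenImmersion f.left := Groth.L27.TopInv.isOpenImmersion_of_etale_univInjective f.left
  have : Surjective f.left := by
    refine ⟨fun y => ?_⟩
    obtain ⟨z0⟩ : Nonempty (resObj y).left := inferInstanceAs (Nonempty (PrimeSpectrum (Y.left.residueField y)))
    obtain ⟨x, hx⟩ := mem_range_of_equivariant (K := Y.left.residueField y) hf (fun T => (hbij T).2) _ (resPt y) z0
    exact ⟨x, hx.trans (resPt_apply y z0)⟩
  have : IsIso f.left := (isIso_iff_isOpenImmersion_and_surjective _).2 ⟨inferInstance, inferInstance⟩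
  have : IsIso ((Over.forget _).map f) := this
  exact isIso_of_reflects_iso f (Over.forget _)

end Field

end Groth.L11.Magnet
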