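import Groth.Prelude.Def_Magnet3
import Mathlib.AlgebraicGeometry.OpenImmersion
import Mathlib.AlgebraicGeometry.ResidueField
import Mathlib.AlgebraicGeometry.PullbackCarrier
import Mathlib.CategoryTheory.Limits.Types.Pullbacks

/-!
Families with values in open stable subobjects are detected at the zero section.
-/

set_option autoImplicit false
universe u

open CategoryTheory CategoryTheory.Limits MonoidalCategory CartesianMonoidalCategory MonObj AlgebraicGeometry Opposite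

set_option backward.isDefEq.respectTransparency.types false

noncomputable section

namespace Groth.L11.Magnet

open _root_.Magnet

variable {S : Scheme.{u}} {A B X U : Over S} [MonObj A] (ρ : MonAct A B) {aX : MonAct A X} {aU : MonAct A U}
  (j : U ⟶ X) [IsOpenImmersion j.left]

/-- Preimages of open stable subobjects are stable. -/
theorem preimage_stable (hj : MonAct.IsEquivariant aU aX j) {T : Over S} (φ : B ⊗ T ⟶ X)
    (hφ : MonAct.IsEquivariant (ρ.prod (MonAct.trivial A T)) aX φ) :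
    (snd A (B ⊗ T)).left ⁻¹ᵁ (φ.left ⁻¹ᵁ j.left.opensRange) ≤
      (ρ.prod (MonAct.trivial A T)).act.left ⁻¹ᵁ (φ.left ⁻¹ᵁ j.left.opensRange) := by
  let O := (snd A (B ⊗ T)).left ⁻¹ᵁ (φ.left ⁻¹ᵁ j.left.opensRange)
  let Q : Over S := Over.mk (O.ι ≫ (A ⊗ (B ⊗ T)).hom)
  let q : Q ⟶ A ⊗ (B ⊗ T) := Over.homMk O.ι rfl
  have hr : Set.range (q ≫ snd A (B ⊗ T) ≫ φ).left ⊆ Set.range j.left := by
    rintro - ⟨x, rfl⟩
    exact x.2
  let u : Q ⟶ U := Over.homMk (IsOpenImmersion.lift j.left _ hr) (by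
    rw [← Over.w j, ← Category.assoc, IsOpenImmersion.lift_fac]
    exact Over.w (q ≫ snd A (B ⊗ T) ≫ φ))
  have hu : u ≫ j = q ≫ snd A (B ⊗ T) ≫ φ := Over.OverMorphism.ext (IsOpenImmersion.lift_fac _ _ _)
  have key : (lift (q ≫ fst A (B ⊗ T)) u ≫ aU.act) ≫ j = q ≫ (ρ.prod (MonAct.trivial A T)).act ≫ φ := by
    have e : lift (q ≫ fst A (B ⊗ T)) (q ≫ snd A (B ⊗ T) ≫ φ) = q ≫ (A ◁ φ) := by
      apply CartesianMonoidalCategory.hom_ext <;> simp
    rw [Category.assoc, show aU.act ≫ j = _ from hj, lift_whiskerLeft_assoc, hu,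
      show (ρ.prod (MonAct.trivial A T)).act ≫ φ = _ from hφ, e, Category.assoc]
  intro x hx
  exact ⟨((lift (q ≫ fst A (B ⊗ T)) u ≫ aU.act).left : Q.left ⟶ U.left) ⟨x, hx⟩,
    congrArg (fun k : Q ⟶ X => k.left ⟨x, hx⟩) key⟩

/-- If stable opens containing the zero section of a fibre are everything, families send all to the open. -/
theorem preimage_eq_top (hj : MonAct.IsEquivariant aU aX j) (o : 𝟙_ (Over S) ⟶ B)
    (hB : ∀ (T : Over S) (K : Type u) [Field K] (_ : T.left ≅ Spec (CommRingCat.of K)) (W : (B ⊗ T).left.Opens),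
      (snd A (B ⊗ T)).left ⁻¹ᵁ W ≤ (ρ.prod (MonAct.trivial A T)).act.left ⁻¹ᵁ W →
      (lift (toUnit T ≫ o) (𝟙 T)).left ⁻¹ᵁ W = ⊤ → W = ⊤)
    {T : Over S} (φ : (MonAct.eqvHom ρ aX).obj (op T)) (z : T ⟶ U)
    (hz : z ≫ j = lift (toUnit T ≫ o) (𝟙 T) ≫ φ.1) : φ.1.left ⁻¹ᵁ j.left.opensRange = ⊤ := by
  refine eq_top_iff.2 fun p _ => ?_
  let y := (snd B T).left p
  let P : Over S := Over.mk (T.left.fromSpecResidueField y ≫ T.hom)
  let t : P ⟶ T := Over.homMk (T.left.fromSpecResidueField y) rfl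
  have h1 := preimage_stable ρ j hj ((B ◁ t) ≫ φ.1) (((MonAct.eqvHom ρ aX).map t.op φ).2)
  have h2 : (lift (toUnit P ≫ o) (𝟙 P)).left ⁻¹ᵁ (((B ◁ t) ≫ φ.1).left ⁻¹ᵁ j.left.opensRange) = ⊤ := by
    refine eq_top_iff.2 fun x _ => ?_
    have e : lift (toUnit P ≫ o) (𝟙 P) ≫ (B ◁ t) ≫ φ.1 = (t ≫ z) ≫ j := by
      rw [lift_whiskerLeft_assoc, Category.assoc, hz, comp_lift_assoc, Category.comp_id, Category.id_comp,
        ← Category.assoc t, comp_toUnit]
    exact ⟨(t ≫ z).left x, (congrArg (fun k : P ⟶ X => k.left x) e).symm⟩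
  have h3 := hB P _ (Iso.refl _) _ h1 h2
  obtain ⟨q, hq, -⟩ := Scheme.Pullback.exists_preimage_pullback (f := (snd B T).left) (g := t.left) p (IsLocalRing.closedPoint (T.left.residueField y))
    (Scheme.fromSpecResidueField_apply y (IsLocalRing.closedPoint (T.left.residueField y))).symm
  let Q : Over S := Over.mk (pullback.fst (snd B T).left t.left ≫ (B ⊗ T).hom)
  let qQ : Q ⟶ B ⊗ T := Over.homMk (pullback.fst (snd B T).left t.left) rfl
  let qP : Q ⟶ P := Over.homMk (pullback.snd (snd B T).left t.left) (by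
    show pullback.snd (snd B T).left t.left ≫ t.left ≫ T.hom = _
    rw [← Category.assoc, ← pullback.condition, Category.assoc, Over.w (snd B T)]
    rfl)
  have e : lift (qQ ≫ fst B T) qP ≫ (B ◁ t) = qQ := by
    apply CartesianMonoidalCategory.hom_ext
    · simp
    · rw [Category.assoc, whiskerLeft_snd, lift_snd_assoc]
      exact Over.OverMorphism.ext pullback.condition.symm
  have h4 : ((lift (qQ ≫ fst B T) qP).left : Q.left ⟶ (B ⊗ P).left) q ∈
      ((B ◁ t) ≫ φ.1).left ⁻¹ᵁ j.left.opensRange := by rw [h3]; trivial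
  have e2 := congrArg (fun k : Q ⟶ B ⊗ T => φ.1.left (k.left q)) e
  show φ.1.left p ∈ j.left.opensRange
  rw [← hq]
  exact Eq.mp (congrArg (· ∈ j.left.opensRange) e2) h4

theorem isPullback_evalAt_open (hj : MonAct.IsEquivariant aU aX j) (o : 𝟙_ (Over S) ⟶ B)
    (hB : ∀ (T : Over S) (K : Type u) [Field K] (_ : T.left ≅ Spec (CommRingCat.of K)) (W : (B ⊗ T).left.Opens),
      (snd A (B ⊗ T)).left ⁻¹ᵁ W ≤ (ρ.prod (MonAct.trivial A T)).act.left ⁻¹ᵁ W →
      (lift (toUnit T ≫ o) (𝟙 T)).left ⁻¹ᵁ W = ⊤ → W = ⊤) :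
    IsPullback (MonAct.eqvHom.postcomp ρ j hj) (MonAct.eqvHom.evalAt ρ aU o) (MonAct.eqvHom.evalAt ρ aX o)
      (yoneda.map j) := by
  have : Mono j := Over.mono_of_mono_left j
  refine IsPullback.of_forall_isPullback_app fun T => ?_
  rw [Limits.Types.isPullback_iff]
  refine ⟨?_, ?_, ?_⟩
  · ext φ
    exact (Category.assoc _ _ _).symm
  · rintro φ ψ ⟨e1, -⟩
    exact Subtype.ext ((cancel_mono j).1 (congrArg Subtype.val e1))
  · intro φ z e
    have h := preimage_eq_top ρ j hj o hB (T := unop T) φ z (Eq.symm e)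
    have hr : Set.range φ.1.left ⊆ Set.range j.left := by
      rintro - ⟨x, rfl⟩
      exact show x ∈ φ.1.left ⁻¹ᵁ j.left.opensRange by rw [h]; trivial
    let ψ : B ⊗ unop T ⟶ U := Over.homMk (IsOpenImmersion.lift j.left φ.1.left hr) (by
      rw [← Over.w j, ← Category.assoc, IsOpenImmersion.lift_fac]
      exact Over.w φ.1)
    have hψ : ψ ≫ j = φ.1 := Over.OverMorphism.ext (IsOpenImmersion.lift_fac _ _ _)
    have hψe : MonAct.IsEquivariant (ρ.prod (MonAct.trivial A (unop T))) aU ψ := by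
      rw [MonAct.mem_eqvHom_iff]
      intro T' g b t
      rw [← cancel_mono j, Category.assoc, hψ, Category.assoc, show aU.act ≫ j = _ from hj, lift_whiskerLeft_assoc,
        Category.assoc, hψ]
      exact (MonAct.mem_eqvHom_iff φ.1).1 φ.2 T' g b t
    refine ⟨⟨ψ, hψe⟩, Subtype.ext hψ, ?_⟩
    show lift (toUnit (unop T) ≫ o) (𝟙 (unop T)) ≫ ψ = z
    rw [← cancel_mono j, Category.assoc, hψ]
    exact e

end Groth.L11.Magnet
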