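import Groth.Agent.L11.Magnet.FaceChart
import Groth.Agent.L11.Magnet.OpenStable

/-!
Attractors of open stable subschemes: detection at the limit point of the face of units.
-/

set_option autoImplicit false
universe u

open CategoryTheory CategoryTheory.Limits MonoidalCategory CartesianMonoidalCategory MonObj AlgebraicGeometry Opposite

set_option backward.isDefEq.respectTransparency.types false

noncomputable section

namespace Groth.L11.Magnet

open _root_.Magnet

variable {S : Scheme.{u}} {M : Type} [AddCommGroup M] (N : AddSubmonoid M)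

/-- The limit point: one on the units of the monoid, zero elsewhere. -/
def limitPt : 𝟙_ (Over S) ⟶ AMonS S N :=
  η[AMonS S (unitFace N)] ≫ AMonS.faceMap S (isFace_unitFace N)

/-- The evaluation at the limit point. -/
def limitEval (R : Type u) [CommRing R] : MonoidAlgebra R (Multiplicative N) →+* R :=
  ((MonoidAlgebra.lift R R (Multiplicative (unitFace N)) 1).comp (faceAlgHom R (isFace_unitFace N))).toRingHom

theorem limitEval_mkap (R : Type u) [CommRing R] (r : R) : limitEval N R (mkap R N r) = r :=
  ((MonoidAlgebra.lift R R (Multiplicative (unitFace N)) 1).comp (faceAlgHom R (isFace_unitFace N))).commutes r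

theorem char_limitPt (T : Over S) (n : N) :
    MPts.char (toUnit T ≫ limitPt N) (Multiplicative.ofAdd n) =
      (haveI := Classical.dec ((n : M) ∈ unitFace N); if (n : M) ∈ unitFace N then 1 else 0) := by
  have e : toUnit T ≫ limitPt (S := S) N = (1 : T ⟶ AMonS S (unitFace N)) ≫ AMonS.faceMap S (isFace_unitFace N) := by
    rw [limitPt, Hom.one_def, Category.assoc]
  rw [e]
  split_ifs with h
  · rw [char_faceMap_of_mem _ _ n h, MPts.char_one]
    rfl
  · exact char_faceMap_of_not_mem _ _ n h

/-- Over a field an open set stable under translations containing the limit point is everything. -/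
theorem eq_univ_of_stable_limit (K : Type u) [Field K]
    (O : Set (PrimeSpectrum (MonoidAlgebra K (Multiplicative N)))) (hO : IsOpen O)
    (hst : ∀ P : PrimeSpectrum (MonoidAlgebra (MonoidAlgebra K (Multiplicative N)) (Multiplicative M)),
      PrimeSpectrum.comap (delta K N) P ∈ O →
        PrimeSpectrum.comap (mkap (MonoidAlgebra K (Multiplicative N)) M) P ∈ O)
    (c : PrimeSpectrum K) (hc : PrimeSpectrum.comap (limitEval N K) c ∈ O) : O = Set.univ := by
  classical
  refine Set.eq_univ_of_forall fun p => by_contra fun hp => ?_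
  refine zeroLocus_ker_subset (delta K N) O hO hst p hp ?_ hc
  intro y hy
  show limitEval N K y ∈ c.asIdeal
  suffices h : faceAlgHom K (isFace_unitFace N) y = 0 by
    show MonoidAlgebra.lift K K (Multiplicative (unitFace N)) 1 (faceAlgHom K (isFace_unitFace N) y) ∈ c.asIdeal
    rw [h, map_zero]
    exact zero_mem _
  refine (mem_faceIdeal_iff K (isFace_unitFace N) y).2 fun n hn => ?_
  have h1 := congrArg (fun z => z.coeff (Multiplicative.ofAdd (n : M))) (RingHom.mem_ker.1 hy)
  simp only [RingHom.comp_apply, MonoidAlgebra.coeff_mapRingHom, coeff_delta, MonoidAlgebra.coeff_zero,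
    Finsupp.zero_apply] at h1
  have h2 : MonoidAlgebra.single (Multiplicative.ofAdd n) (y.coeff (Multiplicative.ofAdd n)) ∈ p.asIdeal :=
    Ideal.Quotient.eq_zero_iff_mem.1 h1
  by_contra hne
  obtain ⟨-, n', hn', e⟩ := hn
  refine p.isPrime.ne_top ((Ideal.eq_top_iff_one _).2 ?_)
  have h3 := p.asIdeal.mul_mem_left
    (MonoidAlgebra.single (Multiplicative.ofAdd (⟨n', hn'⟩ : N)) (y.coeff (Multiplicative.ofAdd n))⁻¹) h2
  rw [MonoidAlgebra.single_mul_single, inv_mul_cancel₀ hne] at h3
  convert h3 using 1
  rw [MonoidAlgebra.one_def]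
  congr 1
  exact congrArg Multiplicative.ofAdd (Subtype.ext (by rw [add_comm] at e; exact e.symm) :
    (0 : N) = (⟨n', hn'⟩ : N) + n)

variable {B : Over S}

/-- Opens stable under a group are stable in both directions. -/
theorem act_preimage_le (a : MonAct (AMonS S M) B) (W : B.left.Opens)
    (hW : (snd (AMonS S M) B).left ⁻¹ᵁ W ≤ a.act.left ⁻¹ᵁ W) :
    a.act.left ⁻¹ᵁ W ≤ (snd (AMonS S M) B).left ⁻¹ᵁ W := by
  let ν := AMonS.map S (-AddMonoidHom.id M)
  let sh := lift (fst (AMonS S M) B ≫ ν) a.act
  have h1 : sh ≫ snd _ _ = a.act := lift_snd _ _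
  have h2 : sh ≫ a.act = snd _ _ := by
    have e : (fst (AMonS S M) B ≫ ν) * fst (AMonS S M) B = 1 := by
      apply MPts.char_injective
      refine MonoidHom.ext fun m => ?_
      rw [MPts.char_mul, MonoidHom.mul_apply, MPts.char_map, MPts.char_one, ← map_mul]
      refine (congrArg _ ?_).trans (map_one _)
      apply Multiplicative.toAdd.injective
      exact neg_add_cancel m.toAdd
    have h := MonAct.lift_mul_act a (fst (AMonS S M) B ≫ ν) (fst (AMonS S M) B) (snd (AMonS S M) B)
    rw [e, MonAct.lift_one_act, lift_fst_snd, Category.id_comp] at h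
    exact h.symm
  intro x hx
  have h4 : sh.left x ∈ (snd (AMonS S M) B).left ⁻¹ᵁ W := by
    show (snd (AMonS S M) B).left (sh.left x) ∈ W
    rw [show (snd (AMonS S M) B).left (sh.left x) = a.act.left x from
      congrArg (fun k : AMonS S M ⊗ B ⟶ B => k.left x) h1]
    exact hx
  have h5 : a.act.left (sh.left x) ∈ W := hW h4
  rwa [show a.act.left (sh.left x) = (snd (AMonS S M) B).left x from
    congrArg (fun k : AMonS S M ⊗ B ⟶ B => k.left x) h2] at h5

/-- Stable opens containing the limit point are everything. -/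
theorem eq_top_of_stable_limit (T : Over S) (K : Type u) [Field K] (e : T.left ≅ Spec (CommRingCat.of K))
    (W : (AMonS S N ⊗ T).left.Opens)
    (hW : (snd (AMonS S M) (AMonS S N ⊗ T)).left ⁻¹ᵁ W ≤
      ((subAct S M N).prod (MonAct.trivial (AMonS S M) T)).act.left ⁻¹ᵁ W)
    (ho : (lift (toUnit T ≫ limitPt N) (𝟙 T)).left ⁻¹ᵁ W = ⊤) : W = ⊤ := by
  let s : Spec (CommRingCat.of K) ⟶ S := e.inv ≫ T.hom
  let i : Over.mk s ≅ T := Over.isoMk e.symm rfl
  have := chart_isIso s (mkap K N) (mchi K N) (isMonAlg_monoidAlgebra K)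
  let g : chartObj s (mkap K N) ⟶ AMonS S N ⊗ T := chart s (mkap K N) (mchi K N) ≫ (AMonS S N ◁ i.hom)
  let O : Set (PrimeSpectrum (MonoidAlgebra K (Multiplicative N))) :=
    SetLike.coe (g.left ⁻¹ᵁ W)
  -- stability
  have hst : ∀ P : PrimeSpectrum (MonoidAlgebra (MonoidAlgebra K (Multiplicative N)) (Multiplicative M)),
      PrimeSpectrum.comap (delta K N) P ∈ O →
        PrimeSpectrum.comap (mkap (MonoidAlgebra K (Multiplicative N)) M) P ∈ O := by
    intro P hP
    let w : chartObj (chartStr s N) (mkap (MonoidAlgebra K (Multiplicative N)) M) ⟶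
        AMonS S M ⊗ (AMonS S N ⊗ T) :=
      lift (pairMap s N ≫ fst _ _) (pairMap s N ≫ snd _ _ ≫ g)
    have hw1 : w ≫ snd _ _ = pairMap s N ≫ snd _ _ ≫ g := lift_snd _ _
    have hw2 : w ≫ ((subAct S M N).prod (MonAct.trivial (AMonS S M) T)).act = deltaMap s N ≫ g := by
      simp only [g]
      rw [← Category.assoc (deltaMap s N), deltaMap_chart, lift_whiskerLeft]
      rw [show w = lift (pairMap s N ≫ fst _ _) (lift
          (pairMap s N ≫ snd _ _ ≫ chart s (mkap K N) (mchi K N) ≫ fst _ _)
          ((pairMap s N ≫ snd _ _ ≫ chart s (mkap K N) (mchi K N) ≫ snd _ _) ≫ i.hom)) from ?_,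
        MonAct.lift_prod_act, MonAct.lift_trivial_act]
      simp only [w, g]
      congr 1
      apply CartesianMonoidalCategory.hom_ext <;>
        simp only [Category.assoc, lift_fst, lift_snd, whiskerLeft_fst, whiskerLeft_snd]
    have hsnd : (pairMap s N ≫ snd _ _).left =
        Spec.map (CommRingCat.ofHom (mkap (MonoidAlgebra K (Multiplicative N)) M)) := by
      rw [pairMap, chart, lift_snd]; rfl
    have h1 : w.left P ∈ (((subAct S M N).prod (MonAct.trivial (AMonS S M) T)).act.left ⁻¹ᵁ W) := by
      show ((subAct S M N).prod (MonAct.trivial (AMonS S M) T)).act.left (w.left P) ∈ W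
      rw [show ((subAct S M N).prod (MonAct.trivial (AMonS S M) T)).act.left (w.left P) =
        g.left ((deltaMap s N).left P) from
          congrArg (fun k : chartObj (chartStr s N) (mkap (MonoidAlgebra K (Multiplicative N)) M) ⟶
            AMonS S N ⊗ T => k.left P) hw2]
      exact hP
    have h2 : (snd (AMonS S M) (AMonS S N ⊗ T)).left (w.left P) ∈ W := act_preimage_le _ W hW h1
    show g.left (Spec.map (CommRingCat.ofHom (mkap (MonoidAlgebra K (Multiplicative N)) M)) P) ∈ W
    rw [← hsnd]
    rwa [show (snd (AMonS S M) (AMonS S N ⊗ T)).left (w.left P) = g.left ((pairMap s N ≫ snd _ _).left P) from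
      congrArg (fun k : chartObj (chartStr s N) (mkap (MonoidAlgebra K (Multiplicative N)) M) ⟶
            AMonS S N ⊗ T => k.left P) hw1] at h2
  -- the limit point
  let d : Over.mk s ⟶ chartObj s (mkap K N) := Over.homMk (Spec.map (CommRingCat.ofHom (limitEval N K))) (by
    show Spec.map _ ≫ Spec.map _ ≫ s = s
    rw [← Spec.map_comp_assoc, ← CommRingCat.ofHom_comp,
      show (limitEval N K).comp (mkap K N) = RingHom.id K from RingHom.ext (limitEval_mkap N K),
      CommRingCat.ofHom_id, Spec.map_id, Category.id_comp])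
  have hd : d ≫ g = i.hom ≫ lift (toUnit T ≫ limitPt N) (𝟙 T) := by
    apply CartesianMonoidalCategory.hom_ext
    · simp only [g, Category.assoc, whiskerLeft_fst, lift_fst]
      rw [← Category.assoc i.hom, comp_toUnit]
      apply MPts.char_injective
      refine MonoidHom.ext fun n => ?_
      obtain ⟨n', rfl⟩ : ∃ k, Multiplicative.ofAdd k = n := ⟨n.toAdd, rfl⟩
      rw [MPts.char_comp, chart_fst_char, char_limitPt]
      refine (appTop_specMap (limitEval N K) _).trans ?_
      show (Scheme.ΓSpecIso (CommRingCat.of K)).inv (MonoidAlgebra.lift K K (Multiplicative (unitFace N)) 1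
        (faceAlgHom K (isFace_unitFace N) (MonoidAlgebra.single (Multiplicative.ofAdd n') 1))) = _
      split_ifs with h
      · rw [faceAlgHom_single_of_mem _ _ n' h]
        simp
      · rw [faceAlgHom_single_of_not_mem _ _ n' h, map_zero, map_zero]
    · simp only [g, Category.assoc, whiskerLeft_snd, lift_snd, Category.comp_id]
      rw [chart, lift_snd_assoc, ← Category.assoc]
      rw [show d ≫ (Over.homMk (Spec.map (CommRingCat.ofHom (mkap K N))) rfl : chartObj s (mkap K N) ⟶ Over.mk s) =
          𝟙 (Over.mk s) from ?_, Category.id_comp]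
      apply Over.OverMorphism.ext
      show Spec.map _ ≫ Spec.map _ = 𝟙 _
      rw [← Spec.map_comp, ← CommRingCat.ofHom_comp,
        show (limitEval N K).comp (mkap K N) = RingHom.id K from RingHom.ext (limitEval_mkap N K),
        CommRingCat.ofHom_id, Spec.map_id]
  let c : PrimeSpectrum K := IsLocalRing.closedPoint K
  have hc : PrimeSpectrum.comap (limitEval N K) c ∈ O := by
    show g.left (d.left c) ∈ W
    rw [show g.left (d.left c) = (lift (toUnit T ≫ limitPt N) (𝟙 T)).left (i.hom.left c) from
      congrArg (fun k : Over.mk s ⟶ AMonS S N ⊗ T => k.left c) hd]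
    exact show i.hom.left c ∈ (lift (toUnit T ≫ limitPt N) (𝟙 T)).left ⁻¹ᵁ W by rw [ho]; trivial
  have hOtop := eq_univ_of_stable_limit N K O (g.left ⁻¹ᵁ W).2 hst c hc
  refine eq_top_iff.2 fun y _ => ?_
  have hsurj : Function.Surjective g.left := by
    have : IsIso g := by simp only [g]; infer_instance
    have : IsIso g.left := inferInstanceAs (IsIso ((Over.forget S).map g))
    exact g.left.homeomorph.surjective
  obtain ⟨x, rfl⟩ := hsurj y
  exact show x ∈ O by rw [hOtop]; trivial

variable {X Y : Over S} (aX : MonAct (AMonS S M) X) (aY : MonAct (AMonS S M) Y) (f : X ⟶ Y)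
  (hf : MonAct.IsEquivariant aX aY f)

/-- The attractor of an open stable subscheme is the preimage along the limit. -/
theorem isPullback_attr_open [IsOpenImmersion f.left] :
    IsPullback (MonAct.eqvHom.postcomp (subAct S M N) f hf) (MonAct.eqvHom.evalAt (subAct S M N) aX (limitPt N))
      (MonAct.eqvHom.evalAt (subAct S M N) aY (limitPt N)) (yoneda.map f) :=
  isPullback_evalAt_open (subAct S M N) f hf (limitPt N) fun T K _ e W h1 h2 =>
    eq_top_of_stable_limit N T K e W h1 h2

theorem isOpenImmersion_of_representsPostcomp [IsOpenImmersion f.left] {ZX ZY : Over S}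
    (eX : (attr aX N).RepresentableBy ZX) (eY : (attr aY N).RepresentableBy ZY) (j : ZX ⟶ ZY)
    (hj : ∀ (T : Over S) (z : T ⟶ ZX),
      eY.homEquiv (z ≫ j) = (MonAct.eqvHom.postcomp (subAct S M N) f hf).app (op T) (eX.homEquiv z)) :
    IsOpenImmersion j.left := by
  let vX : ZX ⟶ X := yoneda.preimage (eX.toIso.hom ≫ MonAct.eqvHom.evalAt (subAct S M N) aX (limitPt N))
  let vY : ZY ⟶ Y := yoneda.preimage (eY.toIso.hom ≫ MonAct.eqvHom.evalAt (subAct S M N) aY (limitPt N))
  have h0 : IsPullback (yoneda.map j) (yoneda.map vX) (yoneda.map vY) (yoneda.map f) := by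
    refine (isPullback_attr_open N aX aY f hf).of_iso eX.toIso.symm eY.toIso.symm (Iso.refl _) (Iso.refl _)
      ?_ ?_ ?_ ?_
    · show MonAct.eqvHom.postcomp (subAct S M N) f hf ≫ eY.toIso.inv = eX.toIso.inv ≫ yoneda.map j
      rw [Iso.comp_inv_eq, Category.assoc, Iso.eq_inv_comp]
      ext T z
      exact (hj (unop T) z).symm
    · simp [vX, Functor.map_preimage]
    · simp [vY, Functor.map_preimage]
    · simp
  have h1 : IsPullback j vX vY f := IsPullback.of_map yoneda (yoneda.map_injective (by
    rw [Functor.map_comp, Functor.map_comp]; exact h0.w)) h0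
  exact MorphismProperty.of_isPullback (P := @IsOpenImmersion) (h1.map (Over.forget S)).flip ‹_›

end Groth.L11.Magnet
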