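import Groth.Agent.L11.Magnet.AffineRep

/-!
Change of monoid for attractors of relatively affine schemes.
-/

set_option autoImplicit false
universe u

open CategoryTheory CategoryTheory.Limits MonoidalCategory CartesianMonoidalCategory MonObj AlgebraicGeometry Opposite

set_option backward.isDefEq.respectTransparency.types false

noncomputable section

namespace Groth.L11.Magnet

open _root_.Magnet

variable {S : Scheme.{u}} {M Z : Type} [AddCommMonoid M] [AddCommMonoid Z] {X : Over S}

theorem pt_mul_comm {T : Over S} (g h : T ⟶ AMonS S M) : g * h = h * g := by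
  apply MPts.char_injective
  rw [MPts.char_mul, MPts.char_mul, _root_.mul_comm]

theorem lift_act_comm (a : MonAct (AMonS S M) X) {T : Over S} (g h : T ⟶ AMonS S M) (x : T ⟶ X) :
    lift g (lift h x ≫ a.act) ≫ a.act = lift h (lift g x ≫ a.act) ≫ a.act := by
  rw [← MonAct.lift_mul_act, ← MonAct.lift_mul_act, pt_mul_comm]

theorem attrToX_attrComap (a : MonAct (AMonS S M) X) (f : M →+ Z) (Y : AddSubmonoid Z) {T : Over S}
    (φ : (attr a (Y.comap f)).obj (op T)) :
    (attrToX (a.restrict (AMonS.map S f)) Y).app (op T) ((attrComap a f Y).app (op T) φ) =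
      (attrToX a (Y.comap f)).app (op T) φ := by
  rw [MonAct.eqvHom.evalAt_app, MonAct.eqvHom.evalAt_app, attrComap_app_coe, lift_whiskerRight_assoc,
    Category.assoc, IsMonHom.one_hom]

variable (M) in
/-- The substitution `X^m ↦ X^(f m) X^m`. -/
def graphHom (R : Type u) [CommRing R] (f : M →+ Z) :
    MonoidAlgebra R (Multiplicative M) →+* MonoidAlgebra (MonoidAlgebra R (Multiplicative M)) (Multiplicative Z) :=
  MonoidAlgebra.liftNCRingHom ((mkap (MonoidAlgebra R (Multiplicative M)) Z).comp (mkap R M))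
    { toFun := fun m => MonoidAlgebra.single (Multiplicative.ofAdd (f m.toAdd)) (MonoidAlgebra.single m 1)
      map_one' := by simp [MonoidAlgebra.one_def]
      map_mul' := fun a b => by
        rw [MonoidAlgebra.single_mul_single, MonoidAlgebra.single_mul_single, _root_.mul_one]
        simp }
    (fun _ _ => Commute.all _ _)

theorem graphHom_single (R : Type u) [CommRing R] (f : M →+ Z) (m : Multiplicative M) (r : R) :
    graphHom M R f (MonoidAlgebra.single m r) =
      MonoidAlgebra.single (Multiplicative.ofAdd (f m.toAdd)) (MonoidAlgebra.single m r) := by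
  rw [graphHom, MonoidAlgebra.liftNCRingHom_single]
  simp [MonoidAlgebra.single_mul_single]

theorem coeff_graphHom (R : Type u) [CommRing R] (f : M →+ Z) (y : MonoidAlgebra R (Multiplicative M))
    (m : Multiplicative M) :
    ((graphHom M R f y).coeff (Multiplicative.ofAdd (f m.toAdd))).coeff m = y.coeff m := by
  classical
  induction y using MonoidAlgebra.induction_linear with
  | zero => simp
  | add a b ha hb => simp [ha, hb]
  | single k r =>
    rw [graphHom_single, MonoidAlgebra.coeff_single, Finsupp.single_apply]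
    by_cases h : Multiplicative.ofAdd (f k.toAdd) = Multiplicative.ofAdd (f m.toAdd)
    · rw [if_pos h]
    · rw [if_neg h, MonoidAlgebra.coeff_zero, Finsupp.zero_apply, MonoidAlgebra.coeff_single,
        Finsupp.single_apply, if_neg fun e => h (by rw [e])]

/-- Over an affine open of the base the change of monoid is surjective. -/
theorem inAttr_comap_affine [IsAffineHom X.hom] (a : MonAct (AMonS S M) X) (f : M →+ Z) (Y : AddSubmonoid Z)
    {W : S.Opens} (hW : IsAffineOpen W) {R : Type u} [CommRing R] (s : Spec (CommRingCat.of R) ⟶ S)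
    (hs : Set.range s ⊆ W) (x : Over.mk s ⟶ X) (h : InAttr (a.restrict (AMonS.map S f)) Y (Over.mk s) x) :
    InAttr a (Y.comap f) (Over.mk s) x := by
  classical
  obtain ⟨φ, hφ⟩ := h
  let V := X.hom ⁻¹ᵁ W
  have hV : IsAffineOpen V := hW.preimage X.hom
  let r : Γ(S, W) →+* R := (Spec.preimage (IsOpenImmersion.lift hW.fromSpec s (by rwa [hW.range_fromSpec]))).hom
  have hr : Spec.map (CommRingCat.ofHom r) ≫ hW.fromSpec = s := by
    rw [CommRingCat.ofHom_hom, Spec.map_preimage, IsOpenImmersion.lift_fac]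
  let r' := X.hom.appLE W V le_rfl
  have hr' : Spec.map r' ≫ hW.fromSpec = hV.fromSpec ≫ X.hom := hW.SpecMap_appLE_fromSpec X.hom hV le_rfl
  have hget : ∀ {C : Type u} [CommRing C] (κ : R →+* C) (l : chartObj s κ ⟶ X),
      ∃ c : Γ(X.left, V) →+* C, Spec.map (CommRingCat.ofHom c) ≫ hV.fromSpec = l.left ∧
        c.comp r'.hom = κ.comp r := by
    intro C _ κ l
    have hl : Set.range l.left ⊆ Set.range hV.fromSpec := by
      rw [hV.range_fromSpec]
      rintro - ⟨y, rfl⟩
      exact hs (range_specMap_comp κ s ⟨y, (congrArg (fun k : _ ⟶ S => k y) (Over.w l)).symm⟩)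
    let c : Γ(X.left, V) →+* C := (Spec.preimage (IsOpenImmersion.lift hV.fromSpec l.left hl)).hom
    have hc : Spec.map (CommRingCat.ofHom c) ≫ hV.fromSpec = l.left := by
      rw [CommRingCat.ofHom_hom, Spec.map_preimage, IsOpenImmersion.lift_fac]
    refine ⟨c, hc, ?_⟩
    have e : Spec.map (CommRingCat.ofHom (c.comp r'.hom)) = Spec.map (CommRingCat.ofHom (κ.comp r)) := by
      rw [← cancel_mono hW.fromSpec, CommRingCat.ofHom_comp, CommRingCat.ofHom_comp, Spec.map_comp, Spec.map_comp,
        Category.assoc, Category.assoc, hr, show Spec.map (CommRingCat.ofHom r'.hom) = Spec.map r' from rfl, hr',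
        reassoc_of% hc]
      exact Over.w l
    exact congrArg CommRingCat.Hom.hom (Spec.map_injective e)
  let RM := MonoidAlgebra R (Multiplicative M)
  let s₁ : Spec (CommRingCat.of RM) ⟶ S := Spec.map (CommRingCat.ofHom (mkap R M)) ≫ s
  let g : Over.mk s₁ ⟶ AMonS S M := chart s (mkap R M) (mchi R M) ≫ fst _ _
  let k : Over.mk s₁ ⟶ Over.mk s := chart s (mkap R M) (mchi R M) ≫ snd _ _
  let o : Over.mk s₁ ⟶ X := chart s (mkap R M) (mchi R M) ≫ (AMonS S M ◁ x) ≫ a.act
  have ho : o = lift g (k ≫ x) ≫ a.act := by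
    show chart s (mkap R M) (mchi R M) ≫ (AMonS S M ◁ x) ≫ a.act = _
    conv_lhs => rw [← lift_comp_fst_snd (chart s (mkap R M) (mchi R M)), lift_whiskerLeft_assoc]
  obtain ⟨c, hc, hcr⟩ := hget (mkap R M) (o : chartObj s (mkap R M) ⟶ X)
  -- the translated family
  have hφ₁ : InAttr (a.restrict (AMonS.map S f)) Y (Over.mk s₁) o := by
    refine ⟨⟨lift (snd _ _ ≫ g) ((AMonS S Y ◁ k) ≫ φ.1) ≫ a.act, ?_⟩, ?_⟩
    · rw [MonAct.mem_eqvHom_iff]
      intro T' h b t
      have e := (MonAct.mem_eqvHom_iff φ.1).1 φ.2 T' h b (t ≫ k)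
      simp only [comp_lift_assoc, lift_snd_assoc, lift_snd, lift_whiskerLeft_assoc] at e ⊢
      rw [e, MonAct.lift_restrict_act, MonAct.lift_restrict_act, lift_act_comm]
    · rw [MonAct.eqvHom.evalAt_app, ho, ← hφ, MonAct.eqvHom.evalAt_app]
      simp only [comp_lift_assoc, lift_snd_assoc, Category.id_comp, lift_whiskerLeft_assoc]
      rw [← Category.assoc k, comp_toUnit, Category.comp_id]
  obtain ⟨φ₁, hφ₁⟩ := hφ₁
  let FY : MonoidAlgebra RM (Multiplicative Y) →+* MonoidAlgebra RM (Multiplicative Z) :=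
    MonoidAlgebra.mapDomainRingHom RM (AddMonoidHom.toMultiplicative Y.subtype)
  obtain ⟨d, hd, hd'⟩ := chart_map Y.subtype (RingHom.id RM) (mkap RM Y) (mkap RM Z) (mchi RM Y) (mchi RM Z) FY
    (RingHom.ext fun r => by simp [FY]) (fun n => MonoidAlgebra.mapDomain_single) s₁ s₁ (𝟙 _) (by simp)
  have e1 : d ≫ chart s₁ (mkap RM Y) (mchi RM Y) ≫ φ₁.1 =
      chart s₁ (mkap RM Z) (mchi RM Z) ≫ (AMonS S Z ◁ o) ≫ (a.restrict (AMonS.map S f)).act := by
    rw [reassoc_of% hd', tensorHom_id, orbit_eq, hφ₁]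
  obtain ⟨cY, hcY, -⟩ := hget ((mkap RM Y).comp (mkap R M))
    (Over.homMk (chart s₁ (mkap RM Y) (mchi RM Y) ≫ φ₁.1).left (by
      rw [Over.w (chart s₁ (mkap RM Y) (mchi RM Y) ≫ φ₁.1)]
      show Spec.map _ ≫ Spec.map _ ≫ s = Spec.map _ ≫ s
      rw [← Spec.map_comp_assoc, ← CommRingCat.ofHom_comp]))
  -- the substitution
  let w : chartObj s₁ (mkap RM Z) ⟶ chartObj s (mkap R M) :=
    Over.homMk (Spec.map (CommRingCat.ofHom (graphHom M R f))) (by
      show _ ≫ Spec.map _ ≫ s = Spec.map _ ≫ Spec.map _ ≫ s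
      rw [← Spec.map_comp_assoc, ← Spec.map_comp_assoc, ← CommRingCat.ofHom_comp, ← CommRingCat.ofHom_comp]
      congr 3
      refine RingHom.ext fun r => ?_
      show graphHom M R f (MonoidAlgebra.single 1 r) = MonoidAlgebra.single 1 (MonoidAlgebra.single 1 r)
      rw [graphHom_single]
      simp)
  have hw : w ≫ chart s (mkap R M) (mchi R M) =
      lift ((chart s₁ (mkap RM Z) (mchi RM Z) ≫ fst _ _) ≫ AMonS.map S f *
        (chart s₁ (mkap RM Z) (mchi RM Z) ≫ snd _ _) ≫ g) ((chart s₁ (mkap RM Z) (mchi RM Z) ≫ snd _ _) ≫ k) := by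
    apply CartesianMonoidalCategory.hom_ext
    · rw [lift_fst]
      apply MPts.char_injective
      refine MonoidHom.ext fun n => ?_
      rw [Category.assoc, MPts.char_comp, chart_fst_char, MPts.char_mul, MonoidHom.mul_apply, MPts.char_map,
        chart_fst_char, MPts.char_comp, chart_fst_char,
        show (chart s₁ (mkap RM Z) (mchi RM Z) ≫ snd _ _).left = Spec.map (CommRingCat.ofHom (mkap RM Z)) by
          rw [chart, lift_snd]; rfl, appTop_specMap, ← map_mul]
      refine (appTop_specMap (graphHom M R f) _).trans (congrArg _ ?_)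
      show graphHom M R f (MonoidAlgebra.single n 1) = MonoidAlgebra.single _ 1 * mkap RM Z (MonoidAlgebra.single n 1)
      rw [graphHom_single]
      simp [MonoidAlgebra.single_mul_single]
    · rw [lift_snd, Category.assoc]
      apply Over.OverMorphism.ext
      show Spec.map (CommRingCat.ofHom (graphHom M R f)) ≫ (chart s (mkap R M) (mchi R M) ≫ snd _ _).left = _
      rw [show ((chart s₁ (mkap RM Z) (mchi RM Z) ≫ snd _ _) ≫ k).left =
        (chart s₁ (mkap RM Z) (mchi RM Z) ≫ snd _ _).left ≫ k.left from rfl]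
      simp only [k, chart, lift_snd]
      show Spec.map _ ≫ Spec.map _ = Spec.map _ ≫ Spec.map _
      rw [← Spec.map_comp, ← Spec.map_comp, ← CommRingCat.ofHom_comp, ← CommRingCat.ofHom_comp]
      congr 2
      refine RingHom.ext fun r => ?_
      show graphHom M R f (MonoidAlgebra.single 1 r) = MonoidAlgebra.single 1 (MonoidAlgebra.single 1 r)
      rw [graphHom_single]
      simp
  have e2 : chart s₁ (mkap RM Z) (mchi RM Z) ≫ (AMonS S Z ◁ o) ≫ (a.restrict (AMonS.map S f)).act = w ≫ o := by
    show _ = w ≫ chart s (mkap R M) (mchi R M) ≫ (AMonS S M ◁ x) ≫ a.act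
    rw [reassoc_of% hw, lift_whiskerLeft_assoc, ho]
    conv_lhs => rw [← lift_comp_fst_snd (chart s₁ (mkap RM Z) (mchi RM Z)), lift_whiskerLeft_assoc,
      MonAct.lift_restrict_act, comp_lift_assoc]
    simp only [MonAct.lift_mul_act, Category.assoc]
  have e3 : FY.comp cY = (graphHom M R f).comp c := by
    have h := congrArg Over.Hom.left (e1.trans e2)
    simp only [Over.comp_left] at h
    have hcY' : Spec.map (CommRingCat.ofHom cY) ≫ hV.fromSpec = (chart s₁ (mkap RM Y) (mchi RM Y)).left ≫ φ₁.1.left :=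
      hcY
    rw [hd, ← hcY', show o.left = Spec.map (CommRingCat.ofHom c) ≫ hV.fromSpec from hc.symm,
      show w.left = Spec.map (CommRingCat.ofHom (graphHom M R f)) from rfl, ← Category.assoc, ← Category.assoc,
      cancel_mono, ← Spec.map_comp, ← Spec.map_comp, ← CommRingCat.ofHom_comp, ← CommRingCat.ofHom_comp] at h
    exact congrArg CommRingCat.Hom.hom (Spec.map_injective h)
  -- the coefficients are supported on the preimage
  let FN : MonoidAlgebra R (Multiplicative (Y.comap f)) →+* RM :=
    MonoidAlgebra.mapDomainRingHom R (AddMonoidHom.toMultiplicative (Y.comap f).subtype)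
  have hinj : Function.Injective FN := MonoidAlgebra.mapDomain_injective fun _ _ e => Subtype.ext e
  have hsupp : ∀ b, c b ∈ FN.range := fun b => by
    refine mem_range_mapDomain _ _ fun m hm => ?_
    rw [← coeff_graphHom R f (c b) m, show graphHom M R f (c b) = FY (cY b) from (DFunLike.congr_fun e3 b).symm,
      coeff_mapDomain_eq_zero Y _ (show (Multiplicative.ofAdd (f m.toAdd)).toAdd ∉ Y from hm)]
    simp
  let eN : MonoidAlgebra R (Multiplicative (Y.comap f)) ≃+* FN.range :=
    RingEquiv.ofBijective FN.rangeRestrict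
      ⟨fun y z e => hinj (congrArg Subtype.val e), FN.rangeRestrict_surjective⟩
  let cN : Γ(X.left, V) →+* MonoidAlgebra R (Multiplicative (Y.comap f)) :=
    eN.symm.toRingHom.comp (c.codRestrict _ hsupp)
  have hcN : FN.comp cN = c := RingHom.ext fun b =>
    congrArg Subtype.val (eN.apply_symm_apply ⟨c b, hsupp b⟩)
  let l : chartObj s (mkap R (Y.comap f)) ⟶ X :=
    Over.homMk (Spec.map (CommRingCat.ofHom cN) ≫ hV.fromSpec) (by
      show _ ≫ X.hom = Spec.map _ ≫ s
      rw [Category.assoc, ← hr', ← hr, ← Spec.map_comp_assoc, ← Spec.map_comp_assoc]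
      congr 2
      refine CommRingCat.hom_ext (RingHom.ext fun v => hinj ?_)
      show FN (cN (r'.hom v)) = FN (mkap R _ (r v))
      rw [show FN (cN (r'.hom v)) = c (r'.hom v) from DFunLike.congr_fun hcN _,
        show c (r'.hom v) = mkap R M (r v) from DFunLike.congr_fun hcr v]
      show MonoidAlgebra.single 1 (r v) = FN (MonoidAlgebra.single 1 (r v))
      refine Eq.trans ?_ (MonoidAlgebra.mapDomain_single
        (f := AddMonoidHom.toMultiplicative (Y.comap f).subtype)).symm
      rw [map_one])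
  obtain ⟨φ', -, hφ'⟩ := equivariant_of_orbit a (inv (chart s (mkap R (Y.comap f)) (mchi R (Y.comap f))) ≫ l) x
    (N := Y.comap f) (by
      obtain ⟨d', hd₁, hd₂⟩ := chart_map (Y.comap f).subtype (RingHom.id R) (mkap R _) (mkap R M) (mchi R _)
        (mchi R M) FN (RingHom.ext fun r => by simp [FN]) (fun n => MonoidAlgebra.mapDomain_single) s s (𝟙 _)
        (by simp)
      rw [← cancel_epi (chart s (mkap R M) (mchi R M)), ← tensorHom_id, ← reassoc_of% hd₂,
        IsIso.hom_inv_id_assoc]
      apply Over.OverMorphism.ext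
      rw [Over.comp_left, hd₁]
      show Spec.map _ ≫ Spec.map _ ≫ _ = o.left
      rw [← Spec.map_comp_assoc, ← CommRingCat.ofHom_comp, hcN]
      exact hc)
  exact ⟨φ', hφ'⟩

/-- For schemes affine over the base the change of monoid of attractors is an isomorphism. -/
theorem isIso_attrComap [IsAffineHom X.hom] (a : MonAct (AMonS S M) X) (f : M →+ Z) (Y : AddSubmonoid Z) :
    IsIso (attrComap a f Y) := by
  suffices h : ∀ T, IsIso ((attrComap a f Y).app T) from NatIso.isIso_of_isIso_app _
  rintro ⟨T⟩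
  rw [CategoryTheory.isIso_iff_bijective]
  refine ⟨fun φ φ' e => attrToX_injective a _ ?_, fun ψ => ?_⟩
  · rw [← attrToX_attrComap a f Y, ← attrToX_attrComap a f Y, e]
  · let x : T ⟶ X := (attrToX (a.restrict (AMonS.map S f)) Y).app (op T) ψ
    have hT : ∀ t : T.left, ∃ (U : T.left.Opens) (_ : IsAffineOpen U) (W : S.Opens) (_ : IsAffineOpen W),
        t ∈ U ∧ U ≤ T.hom ⁻¹ᵁ W := by
      intro t
      obtain ⟨W, hW, htW, -⟩ := exists_isAffineOpen_mem_and_subset (X := S) (x := T.hom t) (U := ⊤) trivial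
      obtain ⟨U, hU, htU, hUW⟩ := exists_isAffineOpen_mem_and_subset (X := T.left) (x := t) (U := T.hom ⁻¹ᵁ W) htW
      exact ⟨U, hU, W, hW, htU, hUW⟩
    choose U hU W hW htU hUW using hT
    let T' : T.left → Over S := fun t => Over.mk ((hU t).fromSpec ≫ T.hom)
    let k : ∀ t, T' t ⟶ T := fun t => Over.homMk (hU t).fromSpec rfl
    obtain ⟨φ, hφ⟩ := InAttr.of_cover (a := a) (N := Y.comap f) (x := x) T' k
      (fun t => inferInstanceAs (Flat (hU t).fromSpec))
      (fun t => inferInstanceAs (LocallyOfFinitePresentation (hU t).fromSpec))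
      (fun t => ⟨t, by
        show t ∈ Set.range (hU t).fromSpec
        rw [(hU t).range_fromSpec]
        exact htU t⟩)
      fun t => inAttr_comap_affine a f Y (hW t) _ (by
        rintro - ⟨y, rfl⟩
        refine hUW t (?_ : (hU t).fromSpec y ∈ (U t : Set T.left))
        rw [← (hU t).range_fromSpec]
        exact ⟨y, rfl⟩) _ ((show InAttr _ Y T x from ⟨ψ, rfl⟩).comp (k t))
    exact ⟨φ, attrToX_injective _ _ ((attrToX_attrComap a f Y φ).trans hφ)⟩

end Groth.L11.Magnet
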