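import Groth.Agent.L11.Magnet.Coact
import Groth.Agent.L11.Magnet.Comap
import Groth.Agent.L11.Magnet.AttrOpen

/-!
Actions on affine schemes over an affine open of the base and their attractors.
-/

set_option autoImplicit false
universe u

open CategoryTheory CategoryTheory.Limits MonoidalCategory CartesianMonoidalCategory MonObj AlgebraicGeometry Opposite

set_option backward.isDefEq.respectTransparency.types false

noncomputable section

namespace Groth.L11.Magnet

open _root_.Magnet

variable {S : Scheme.{u}} {M : Type} [AddCommGroup M] {R A : Type u} [CommRing R] [CommRing A] [Algebra R A]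
  (emb : Spec (CommRingCat.of R) ⟶ S) [IsOpenImmersion emb]

/-- The structure morphism. -/
abbrev affStr : Spec (CommRingCat.of A) ⟶ S := Spec.map (CommRingCat.ofHom (algebraMap R A)) ≫ emb

theorem affStr_isSeparated : IsSeparated (Over.mk (affStr (A := A) emb)).hom :=
  inferInstanceAs (IsSeparated (Spec.map (CommRingCat.ofHom (algebraMap R A)) ≫ emb))

theorem map_id_eq (T : Over S) (g : T ⟶ AMonS S M) : g ≫ AMonS.map S (AddMonoidHom.id M) = g := by
  apply MPts.char_injective
  refine MonoidHom.ext fun n => ?_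
  rw [MPts.char_map]
  rfl

theorem coeff_graphHom_id (y : MonoidAlgebra A (Multiplicative M)) (m : Multiplicative M) :
    (graphHom M A (AddMonoidHom.id M) y).coeff m = MonoidAlgebra.single m (y.coeff m) := by
  classical
  induction y using MonoidAlgebra.induction_linear with
  | zero => simp
  | add a b ha hb => simp [ha, hb]
  | single k r =>
    rw [graphHom_single, AddMonoidHom.id_apply, ofAdd_toAdd, MonoidAlgebra.coeff_single, MonoidAlgebra.coeff_single,
      Finsupp.single_apply, Finsupp.single_apply]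
    by_cases h : k = m
    · subst h; simp
    · rw [if_neg h, if_neg h, MonoidAlgebra.single_zero]

variable (a : MonAct (AMonS S M) (Over.mk (affStr (A := A) emb)))

/-- The orbit map of the universal point. -/
abbrev orbitMap : chartObj (affStr (A := A) emb) (mkap A M) ⟶ Over.mk (affStr (A := A) emb) :=
  chart (affStr emb) (mkap A M) (mchi A M) ≫ a.act

theorem exists_coact : ∃ 𝒜 : Coact R A M,
    Spec.map (CommRingCat.ofHom 𝒜.c.toRingHom) = (orbitMap emb a).left := by
  classical
  let s₀ := affStr (A := A) emb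
  let c₀ : A →+* MonoidAlgebra A (Multiplicative M) := (Spec.preimage (orbitMap emb a).left).hom
  have hc : Spec.map (CommRingCat.ofHom c₀) = (orbitMap emb a).left := by
    rw [CommRingCat.ofHom_hom, Spec.map_preimage]
  have hR : c₀.comp (algebraMap R A) = (mkap A M).comp (algebraMap R A) := by
    have e : Spec.map (CommRingCat.ofHom (c₀.comp (algebraMap R A))) =
        Spec.map (CommRingCat.ofHom ((mkap A M).comp (algebraMap R A))) := by
      rw [← cancel_mono emb, CommRingCat.ofHom_comp, CommRingCat.ofHom_comp, Spec.map_comp, Spec.map_comp,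
        Category.assoc, Category.assoc, hc]
      exact Over.w (orbitMap emb a)
    exact congrArg CommRingCat.Hom.hom (Spec.map_injective e)
  -- the counit
  have haug : ∀ y : A, MonoidAlgebra.lift A A (Multiplicative M) 1 (c₀ y) = y := by
    let ε : MonoidAlgebra A (Multiplicative M) →+* A := (MonoidAlgebra.lift A A (Multiplicative M) 1).toRingHom
    have hε : ε.comp (mkap A M) = RingHom.id A :=
      RingHom.ext fun r => (MonoidAlgebra.lift A A (Multiplicative M) 1).commutes r
    let d : Over.mk s₀ ⟶ chartObj s₀ (mkap A M) := Over.homMk (Spec.map (CommRingCat.ofHom ε)) (by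
      show Spec.map _ ≫ Spec.map _ ≫ s₀ = s₀
      rw [← Spec.map_comp_assoc, ← CommRingCat.ofHom_comp, hε, CommRingCat.ofHom_id, Spec.map_id, Category.id_comp])
    have hd : d ≫ chart s₀ (mkap A M) (mchi A M) = lift 1 (𝟙 _) := by
      apply CartesianMonoidalCategory.hom_ext
      · rw [lift_fst]
        apply MPts.char_injective
        refine MonoidHom.ext fun n => ?_
        rw [Category.assoc, MPts.char_comp, chart_fst_char, MPts.char_one]
        refine (appTop_specMap ε _).trans ?_
        rw [show ε (mchi A M n) = 1 by simp [ε], map_one]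
        rfl
      · rw [lift_snd, Category.assoc, chart, lift_snd]
        apply Over.OverMorphism.ext
        show Spec.map _ ≫ Spec.map _ = 𝟙 _
        rw [← Spec.map_comp, ← CommRingCat.ofHom_comp, hε, CommRingCat.ofHom_id, Spec.map_id]
    intro y
    have h : Spec.map (CommRingCat.ofHom (ε.comp c₀)) = Spec.map (CommRingCat.ofHom (RingHom.id A)) := by
      rw [CommRingCat.ofHom_comp, Spec.map_comp, hc, CommRingCat.ofHom_id, Spec.map_id]
      have := congrArg Over.Hom.left (show d ≫ orbitMap emb a = 𝟙 _ by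
        rw [orbitMap, reassoc_of% hd, MonAct.lift_one_act])
      exact this
    exact DFunLike.congr_fun (congrArg CommRingCat.Hom.hom (Spec.map_injective h)) y
  -- coassociativity
  have hassoc : (MonoidAlgebra.mapRingHom (Multiplicative M) c₀).comp c₀ =
      (graphHom M A (AddMonoidHom.id M)).comp c₀ := by
    let RM := MonoidAlgebra A (Multiplicative M)
    let s₁ : Spec (CommRingCat.of RM) ⟶ S := Spec.map (CommRingCat.ofHom (mkap A M)) ≫ s₀
    let ψ : Over.mk s₁ ⟶ Over.mk s₀ := orbitMap emb a
    obtain ⟨d, hd, hd'⟩ := chart_map (AddMonoidHom.id M) c₀ (mkap A M) (mkap RM M) (mchi A M) (mchi RM M)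
      (MonoidAlgebra.mapRingHom (Multiplicative M) c₀) (RingHom.ext fun x => by
        show MonoidAlgebra.mapRingHom (Multiplicative M) c₀ (MonoidAlgebra.single 1 x) =
          MonoidAlgebra.single 1 (c₀ x)
        simp) (fun n => by simp) s₀ s₁ ψ hc.symm
    let w : chartObj s₁ (mkap RM M) ⟶ chartObj s₀ (mkap A M) :=
      Over.homMk (Spec.map (CommRingCat.ofHom (graphHom M A (AddMonoidHom.id M)))) (by
        show Spec.map (CommRingCat.ofHom (graphHom M A (AddMonoidHom.id M))) ≫
            Spec.map (CommRingCat.ofHom (mkap A M)) ≫ s₀ =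
          Spec.map (CommRingCat.ofHom (mkap RM M)) ≫ Spec.map (CommRingCat.ofHom (mkap A M)) ≫ s₀
        rw [← Category.assoc, ← Category.assoc (Spec.map (CommRingCat.ofHom (mkap RM M))), ← Spec.map_comp,
          ← Spec.map_comp, ← CommRingCat.ofHom_comp, ← CommRingCat.ofHom_comp]
        refine congrArg (fun z : A →+* MonoidAlgebra RM (Multiplicative M) => Spec.map (CommRingCat.ofHom z) ≫ s₀) (RingHom.ext fun r => ?_)
        show graphHom M A (AddMonoidHom.id M) (MonoidAlgebra.single 1 r) =
          MonoidAlgebra.single 1 (MonoidAlgebra.single 1 r)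
        rw [graphHom_single]
        simp)
    let k₀ : Over.mk s₁ ⟶ Over.mk s₀ := chart s₀ (mkap A M) (mchi A M) ≫ snd _ _
    let g₀ : Over.mk s₁ ⟶ AMonS S M := chart s₀ (mkap A M) (mchi A M) ≫ fst _ _
    let h₁ := chart s₁ (mkap RM M) (mchi RM M) ≫ fst _ _
    let k₁ : chartObj s₁ (mkap RM M) ⟶ Over.mk s₁ := chart s₁ (mkap RM M) (mchi RM M) ≫ snd _ _
    have hw : w ≫ chart s₀ (mkap A M) (mchi A M) = lift (h₁ * (k₁ ≫ g₀)) (k₁ ≫ k₀) := by
      apply CartesianMonoidalCategory.hom_ext
      · rw [lift_fst]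
        apply MPts.char_injective
        refine MonoidHom.ext fun n => ?_
        rw [Category.assoc, MPts.char_comp, chart_fst_char, MPts.char_mul, MonoidHom.mul_apply,
          chart_fst_char, MPts.char_comp, chart_fst_char,
          show k₁.left = Spec.map (CommRingCat.ofHom (mkap RM M)) by
            simp only [k₁, chart, lift_snd]; rfl, appTop_specMap, ← map_mul]
        refine (appTop_specMap (graphHom M A (AddMonoidHom.id M)) _).trans (congrArg _ ?_)
        show graphHom M A (AddMonoidHom.id M) (MonoidAlgebra.single n 1) =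
          MonoidAlgebra.single n 1 * mkap RM M (MonoidAlgebra.single n 1)
        rw [graphHom_single]
        simp [MonoidAlgebra.single_mul_single]
      · rw [lift_snd, Category.assoc]
        apply Over.OverMorphism.ext
        simp only [k₁, k₀, chart, lift_snd]
        show Spec.map _ ≫ Spec.map _ = Spec.map _ ≫ Spec.map _
        rw [← Spec.map_comp, ← Spec.map_comp, ← CommRingCat.ofHom_comp, ← CommRingCat.ofHom_comp]
        congr 2
        refine RingHom.ext fun r => ?_
        show graphHom M A (AddMonoidHom.id M) (MonoidAlgebra.single 1 r) =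
          MonoidAlgebra.single 1 (MonoidAlgebra.single 1 r)
        rw [graphHom_single]
        simp
    have hψ : ψ = lift g₀ k₀ ≫ a.act := by
      show orbitMap emb a = _
      rw [← comp_lift, lift_fst_snd, Category.comp_id]
    have e1 : d ≫ orbitMap emb a = w ≫ orbitMap emb a := by
      rw [orbitMap, reassoc_of% hd', reassoc_of% hw]
      conv_lhs => rw [← lift_comp_fst_snd (chart s₁ (mkap RM M) (mchi RM M))]
      rw [lift_map_assoc, map_id_eq, hψ, comp_lift_assoc, ← MonAct.lift_mul_act]
    have h : d.left ≫ (orbitMap emb a).left =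
        Spec.map (CommRingCat.ofHom (graphHom M A (AddMonoidHom.id M))) ≫ (orbitMap emb a).left :=
      congrArg Over.Hom.left e1
    rw [hd, ← hc, ← Spec.map_comp, ← Spec.map_comp, ← CommRingCat.ofHom_comp, ← CommRingCat.ofHom_comp] at h
    exact congrArg CommRingCat.Hom.hom (Spec.map_injective h)
  have hsum : ∀ z : MonoidAlgebra A (Multiplicative M),
      MonoidAlgebra.lift A A (Multiplicative M) 1 z = z.coeff.sum (fun _ y => y) := fun z => by
    induction z using MonoidAlgebra.induction_linear with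
    | zero => simp
    | add x y hx hy => rw [map_add, MonoidAlgebra.coeff_add, Finsupp.sum_add_index' (by simp) (by simp), hx, hy]
    | single m r => simp [MonoidAlgebra.lift_single]
  refine ⟨⟨{ toRingHom := c₀, commutes' := fun r => DFunLike.congr_fun hR r }, fun y => (hsum _).symm.trans (haug y),
    fun y m => ?_⟩, hc⟩
  have h := congrArg (fun z => z.coeff m) (DFunLike.congr_fun hassoc y)
  simp only [RingHom.comp_apply, MonoidAlgebra.coeff_mapRingHom, coeff_graphHom_id] at h
  exact h

variable (𝒜 : Coact R A M) (h𝒜 : Spec.map (CommRingCat.ofHom 𝒜.c.toRingHom) = (orbitMap emb a).left)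
  (N : AddSubmonoid M)

/-- The structure morphism of the attractor. -/
abbrev quotStr : Spec (CommRingCat.of (A ⧸ 𝒜.ideal N)) ⟶ S :=
  Spec.map (CommRingCat.ofHom (Ideal.Quotient.mk (𝒜.ideal N))) ≫ affStr emb

/-- The inclusion of the attractor. -/
abbrev quotIncl : Over.mk (quotStr emb 𝒜 N) ⟶ Over.mk (affStr (A := A) emb) :=
  Over.homMk (Spec.map (CommRingCat.ofHom (Ideal.Quotient.mk (𝒜.ideal N)))) rfl

include h𝒜 in
theorem orbit_left {B : Type u} [CommRing B] (f : A →+* B) (s : Spec (CommRingCat.of B) ⟶ S)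
    (j : Over.mk s ⟶ Over.mk (affStr (A := A) emb)) (hj : j.left = Spec.map (CommRingCat.ofHom f)) :
    (chart s (mkap B M) (mchi B M) ≫ (AMonS S M ◁ j) ≫ a.act).left =
      Spec.map (CommRingCat.ofHom ((MonoidAlgebra.mapRingHom (Multiplicative M) f).comp 𝒜.c.toRingHom)) := by
  obtain ⟨d, hd, hd'⟩ := chart_map (AddMonoidHom.id M) f (mkap A M) (mkap B M) (mchi A M) (mchi B M)
    (MonoidAlgebra.mapRingHom (Multiplicative M) f) (RingHom.ext fun x => by simp) (fun n => by simp) _ s j hj
  have e : chart s (mkap B M) (mchi B M) ≫ (AMonS S M ◁ j) ≫ a.act = d ≫ orbitMap emb a := by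
    rw [orbitMap, reassoc_of% hd']
    congr 1
    apply _root_.Magnet.hom_ext_lift₂
    intro T' g t
    rw [lift_whiskerLeft_assoc, lift_map_assoc, map_id_eq]
  rw [e, Over.comp_left, hd, ← h𝒜, ← Spec.map_comp, ← CommRingCat.ofHom_comp]

include h𝒜 in
theorem le_ker_of_inAttr {B : Type u} [CommRing B] (f : A →+* B) (s : Spec (CommRingCat.of B) ⟶ S)
    (j : Over.mk s ⟶ Over.mk (affStr (A := A) emb)) (hj : j.left = Spec.map (CommRingCat.ofHom f))
    (h : InAttr a N (Over.mk s) j) : 𝒜.ideal N ≤ RingHom.ker f := by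
  obtain ⟨φ, hφ⟩ := h
  let F : MonoidAlgebra B (Multiplicative N) →+* MonoidAlgebra B (Multiplicative M) :=
    MonoidAlgebra.mapDomainRingHom B (AddMonoidHom.toMultiplicative N.subtype)
  obtain ⟨d, hd, hd'⟩ := chart_map N.subtype (RingHom.id B) (mkap B N) (mkap B M) (mchi B N) (mchi B M) F
    (RingHom.ext fun r => by simp [F]) (fun n => MonoidAlgebra.mapDomain_single) s s (𝟙 _) (by simp)
  let l := chart s (mkap B N) (mchi B N) ≫ φ.1
  let e : A →+* MonoidAlgebra B (Multiplicative N) := (Spec.preimage l.left).hom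
  have e1 : d ≫ l = chart s (mkap B M) (mchi B M) ≫ (AMonS S M ◁ j) ≫ a.act := by
    rw [reassoc_of% hd', tensorHom_id, orbit_eq, hφ]
  have e2 := congrArg Over.Hom.left e1
  rw [orbit_left emb a 𝒜 h𝒜 f s j hj, Over.comp_left, hd,
    show l.left = Spec.map (CommRingCat.ofHom e) by rw [CommRingCat.ofHom_hom, Spec.map_preimage],
    ← Spec.map_comp, ← CommRingCat.ofHom_comp] at e2
  have e3 := congrArg CommRingCat.Hom.hom (Spec.map_injective e2)
  refine Ideal.span_le.2 ?_
  rintro _ ⟨b, m, hm, rfl⟩
  have h4 := congrArg (fun z : A →+* MonoidAlgebra B (Multiplicative M) => (z b).coeff m) e3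
  have h5 : f ((𝒜.c b).coeff m) = (F (e b)).coeff m := by simpa using h4.symm
  show f ((𝒜.c b).coeff m) = 0
  rw [h5]
  exact coeff_mapDomain_eq_zero N _ hm

include h𝒜 in
theorem exists_universal : ∃ φ : (attr a N).obj (op (Over.mk (quotStr emb 𝒜 N))),
    (attrToX a N).app (op _) φ = quotIncl emb 𝒜 N ∧
    ((MonAct.eqvHom.evalAt (subAct S M N) a (limitPt N)).app (op _) φ).left =
      Spec.map (CommRingCat.ofHom (𝒜.proj N).toRingHom) := by
  let C := A ⧸ 𝒜.ideal N
  let sQ := quotStr emb 𝒜 N
  let l : chartObj sQ (mkap C N) ⟶ Over.mk (affStr (A := A) emb) :=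
    Over.homMk (Spec.map (CommRingCat.ofHom (𝒜.cN N).toRingHom)) (by
      show Spec.map _ ≫ Spec.map _ ≫ emb = Spec.map _ ≫ Spec.map _ ≫ Spec.map _ ≫ emb
      rw [← Spec.map_comp_assoc, ← Spec.map_comp_assoc, ← Spec.map_comp_assoc, ← CommRingCat.ofHom_comp,
        ← CommRingCat.ofHom_comp, ← CommRingCat.ofHom_comp]
      congr 3
      refine RingHom.ext fun r => ?_
      exact (𝒜.cN N).commutes r)
  have := affStr_isSeparated (A := A) emb
  obtain ⟨φ, hφ1, hφ⟩ := equivariant_of_orbit a (inv (chart sQ (mkap C N) (mchi C N)) ≫ l) (quotIncl emb 𝒜 N)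
    (N := N) (by
      obtain ⟨d, hd, hd'⟩ := chart_map N.subtype (RingHom.id C) (mkap C N) (mkap C M) (mchi C N) (mchi C M)
        (MonoidAlgebra.mapDomainRingHom C (AddMonoidHom.toMultiplicative N.subtype))
        (RingHom.ext fun r => by simp) (fun n => MonoidAlgebra.mapDomain_single) sQ sQ (𝟙 _) (by simp)
      rw [← cancel_epi (chart sQ (mkap C M) (mchi C M)), ← tensorHom_id, ← reassoc_of% hd',
        IsIso.hom_inv_id_assoc]
      apply Over.OverMorphism.ext
      rw [orbit_left emb a 𝒜 h𝒜 _ sQ (quotIncl emb 𝒜 N) rfl, Over.comp_left, hd]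
      show Spec.map _ ≫ Spec.map _ = _
      rw [← Spec.map_comp, ← CommRingCat.ofHom_comp]
      congr 2
      exact RingHom.ext fun b => 𝒜.incl_cN N b)
  refine ⟨φ, hφ, ?_⟩
  rw [MonAct.eqvHom.evalAt_app, hφ1]
  have hev : (limitEval N C).comp (mkap C N) = RingHom.id C := RingHom.ext (limitEval_mkap N C)
  let d : Over.mk sQ ⟶ chartObj sQ (mkap C N) := Over.homMk (Spec.map (CommRingCat.ofHom (limitEval N C))) (by
    show Spec.map _ ≫ Spec.map _ ≫ sQ = sQ
    rw [← Spec.map_comp_assoc, ← CommRingCat.ofHom_comp, hev, CommRingCat.ofHom_id, Spec.map_id, Category.id_comp])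
  have hd : d ≫ chart sQ (mkap C N) (mchi C N) = lift (toUnit (Over.mk sQ) ≫ limitPt N) (𝟙 _) := by
    apply CartesianMonoidalCategory.hom_ext
    · rw [lift_fst]
      apply MPts.char_injective
      refine MonoidHom.ext fun n => ?_
      obtain ⟨n', rfl⟩ : ∃ k, Multiplicative.ofAdd k = n := ⟨n.toAdd, rfl⟩
      rw [Category.assoc, MPts.char_comp, chart_fst_char, char_limitPt]
      refine (appTop_specMap (limitEval N C) _).trans ?_
      show (Scheme.ΓSpecIso (CommRingCat.of C)).inv (MonoidAlgebra.lift C C (Multiplicative (unitFace N)) 1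
        (faceAlgHom C (isFace_unitFace N) (MonoidAlgebra.single (Multiplicative.ofAdd n') 1))) = _
      split_ifs with h
      · rw [faceAlgHom_single_of_mem _ _ n' h]
        simp
      · rw [faceAlgHom_single_of_not_mem _ _ n' h, map_zero, map_zero]
    · rw [lift_snd, Category.assoc, chart, lift_snd]
      apply Over.OverMorphism.ext
      show Spec.map _ ≫ Spec.map _ = 𝟙 _
      rw [← Spec.map_comp, ← CommRingCat.ofHom_comp, hev, CommRingCat.ofHom_id, Spec.map_id]
  show (lift (toUnit (Over.mk sQ) ≫ limitPt N) (𝟙 _) ≫ inv (chart sQ (mkap C N) (mchi C N)) ≫ l).left = _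
  rw [← hd, Category.assoc, IsIso.hom_inv_id_assoc, Over.comp_left]
  show Spec.map _ ≫ Spec.map _ = _
  rw [← Spec.map_comp, ← CommRingCat.ofHom_comp]
  rfl

include h𝒜 in
/-- The attractor of an affine scheme over an affine open of the base. -/
theorem exists_repr_chart : ∃ e : (attr a N).RepresentableBy (Over.mk (quotStr emb 𝒜 N)),
    (∀ (T : Over S) (z : T ⟶ Over.mk (quotStr emb 𝒜 N)),
      (attrToX a N).app (op T) (e.homEquiv z) = z ≫ quotIncl emb 𝒜 N) ∧
    ((MonAct.eqvHom.evalAt (subAct S M N) a (limitPt N)).app (op _) (e.homEquiv (𝟙 _))).left =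
      Spec.map (CommRingCat.ofHom (𝒜.proj N).toRingHom) := by
  obtain ⟨φ₀, h₀, hlim⟩ := exists_universal emb a 𝒜 h𝒜 N
  have := affStr_isSeparated (A := A) emb
  let Q := Over.mk (quotStr emb 𝒜 N)
  let i := quotIncl emb 𝒜 N
  have : IsClosedImmersion i.left := IsClosedImmersion.spec_of_surjective _ Ideal.Quotient.mk_surjective
  have : Mono i := Over.mono_of_mono_left i
  have hev : ∀ (T : Over S) (z : T ⟶ Q), (attrToX a N).app (op T) ((attr a N).map z.op φ₀) = z ≫ i :=
    fun T z => by rw [attrToX_map, h₀]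
  have hbij : ∀ T, Function.Bijective fun z : T ⟶ Q => (attr a N).map z.op φ₀ := by
    intro T
    refine ⟨fun z z' e => ?_, fun φ => ?_⟩
    · rw [← cancel_mono i, ← hev, ← hev]
      exact congrArg _ e
    let v := (attrToX a N).app (op T) φ
    let g : A →+* Γ(T.left, ⊤) := ((Scheme.ΓSpecIso (CommRingCat.of A)).inv ≫ v.left.appTop).hom
    have hg : 𝒜.ideal N ≤ RingHom.ker g := by
      intro y hy
      refine TopCat.Sheaf.eq_of_locally_eq' T.left.sheaf (fun U : T.left.affineOpens => (U : T.left.Opens)) ⊤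
        (fun U => homOfLE le_top) (by rw [iSup_affineOpens_eq_top]) _ _ fun U => ?_
      refine Eq.trans ?_ (map_zero _).symm
      let B : Type u := Γ(T.left, U.1)
      let f : A →+* B := ((Scheme.ΓSpecIso (CommRingCat.of A)).inv ≫ (U.2.fromSpec ≫ v.left).appTop ≫
        (Scheme.ΓSpecIso (CommRingCat.of B)).hom).hom
      have hf : U.2.fromSpec ≫ v.left = Spec.map (CommRingCat.ofHom f) := by
        refine ringHom_of_hom_ext fun x => ?_
        rw [appTop_specMap]
        exact (Iso.hom_inv_id_apply (Scheme.ΓSpecIso (CommRingCat.of B)) _).symm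
      let t : Over.mk (U.2.fromSpec ≫ T.hom) ⟶ T := Over.homMk U.2.fromSpec rfl
      have e4 : f y = 0 := le_ker_of_inAttr emb a 𝒜 h𝒜 N f _ (t ≫ v) hf ((show InAttr a N T v from ⟨φ, rfl⟩).comp t) hy
      have key : ∀ x : Γ(T.left, ⊤),
          (Scheme.ΓSpecIso (CommRingCat.of B)).hom (U.2.fromSpec.appTop x) =
            T.left.presheaf.map (homOfLE (le_top : U.1 ≤ ⊤)).op x := fun x => by
        rw [Scheme.Hom.appTop, U.2.fromSpec_app_of_le ⊤ le_top]
        simp
        exact (congrArg _ (appTop_specMap (T.left.presheaf.map (homOfLE (le_top : U.1 ≤ ⊤)).op).hom x)).trans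
          (Iso.inv_hom_id_apply _ _)
      refine Eq.trans (key (g y)).symm ?_
      refine Eq.trans ?_ e4
      simp [f, g]
    let w : T.left ⟶ Spec (CommRingCat.of (A ⧸ 𝒜.ideal N)) :=
      ΓSpec.adjunction.homEquiv T.left (op (CommRingCat.of (A ⧸ 𝒜.ideal N)))
        (CommRingCat.ofHom (Ideal.Quotient.lift (𝒜.ideal N) g fun x hx => hg hx)).op
    have hw : w ≫ i.left = v.left := by
      refine ringHom_of_hom_ext fun x => ?_
      show (w ≫ Spec.map (CommRingCat.ofHom (Ideal.Quotient.mk (𝒜.ideal N)))).appTop _ = _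
      rw [GmPts.appTop_comp_apply, appTop_specMap]
      exact congrArg (fun ψ => (ConcreteCategory.hom ψ) (Ideal.Quotient.mk (𝒜.ideal N) x))
        (ΓSpecIso_inv_ΓSpec_adjunction_homEquiv
          (CommRingCat.ofHom (Ideal.Quotient.lift (𝒜.ideal N) g fun x hx => hg hx)).op.unop)
    let z : T ⟶ Q := Over.homMk w (by
      show w ≫ i.left ≫ affStr (A := A) emb = T.hom
      rw [reassoc_of% hw]
      exact Over.w v)
    exact ⟨z, attrToX_injective a N ((hev T z).trans (Over.OverMorphism.ext hw))⟩
  refine ⟨{ homEquiv := fun {T} => Equiv.ofBijective _ (hbij T)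
            homEquiv_comp := fun g z => ?_ }, hev, ?_⟩
  · show (attr a N).map (g ≫ z).op φ₀ = (attr a N).map g.op ((attr a N).map z.op φ₀)
    rw [op_comp, Functor.map_comp_apply]
  · show ((MonAct.eqvHom.evalAt (subAct S M N) a (limitPt N)).app (op _) ((attr a N).map (𝟙 Q).op φ₀)).left = _
    rw [op_id, CategoryTheory.Functor.map_id]
    exact hlim

end Groth.L11.Magnet
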