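import Groth.Prelude.Def_Magnet3
import Groth.Prelude.Def_ActBC

/-!
Base change of functors of equivariant maps.
-/

set_option autoImplicit false
universe u

open CategoryTheory CategoryTheory.Limits MonoidalCategory CartesianMonoidalCategory MonObj AlgebraicGeometry Opposite

set_option backward.isDefEq.respectTransparency.types false

noncomputable section

namespace Groth.L11.Magnet

open _root_.Magnet

variable {S : Scheme.{u}} {A B X : Over S} [MonObj A] (T : Over S) (T'' : Over T.left)

/-- adjunction bijection -/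
local notation "hE" => Adjunction.homEquiv (Over.mapPullbackAdj (Over.hom T))

/-- The product regarded over `T`. -/
def prodOver (B : Over S) : Over T.left := Over.mk ((snd B ((Over.map T.hom).obj T'')).left ≫ T''.hom)

/-- The product regarded over `T` and back is the product. -/
def prodOverIso (B : Over S) : (Over.map T.hom).obj (prodOver T T'' B) ≅ B ⊗ (Over.map T.hom).obj T'' :=
  Over.isoMk (Iso.refl _) (by
    show 𝟙 _ ≫ _ = ((snd B ((Over.map T.hom).obj T'')).left ≫ T''.hom) ≫ T.hom
    rw [Category.id_comp, Category.assoc]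
    exact (Over.w (snd B ((Over.map T.hom).obj T''))).symm)

theorem prodOverIso_hom_left (B : Over S) : (prodOverIso T T'' B).hom.left = 𝟙 _ := rfl

/-- A base-changed product regarded over the base is the product. -/
def tensorMapIso (B : Over S) :
    (Over.map T.hom).obj (Red.bc T.hom B ⊗ T'') ≅ B ⊗ (Over.map T.hom).obj T'' where
  hom := lift ((hE _ B).symm (fst _ _)) ((Over.map T.hom).map (snd _ _))
  inv := (prodOverIso T T'' B).inv ≫ (Over.map T.hom).map (lift (hE _ B ((prodOverIso T T'' B).hom ≫ fst _ _))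
    (Over.homMk (snd B ((Over.map T.hom).obj T'')).left rfl : prodOver T T'' B ⟶ T''))
  hom_inv_id := by
    let f : (Red.bc T.hom B ⊗ T'').left ⟶ _ :=
      (lift ((hE _ B).symm (fst _ _)) ((Over.map T.hom).map (snd (Red.bc T.hom B) T''))).left
    let d : Red.bc T.hom B ⊗ T'' ⟶ prodOver T T'' B :=
      Over.homMk f (by
        show f ≫ (snd B ((Over.map T.hom).obj T'')).left ≫ T''.hom = _
        rw [← Category.assoc, ← Over.comp_left, lift_snd]
        exact Over.w (snd (Red.bc T.hom B) T''))
    rw [← Category.assoc]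
    have hd : lift ((hE _ B).symm (fst _ _)) ((Over.map T.hom).map (snd (Red.bc T.hom B) T'')) ≫
        (prodOverIso T T'' B).inv = (Over.map T.hom).map d := by
      rw [Iso.comp_inv_eq]
      apply Over.OverMorphism.ext
      exact (Category.comp_id f).symm
    rw [hd]
    rw [← Functor.map_comp, ← (Over.map T.hom).map_id]
    congr 1
    rw [comp_lift]
    apply CartesianMonoidalCategory.hom_ext
    · rw [lift_fst, Category.id_comp, ← Adjunction.homEquiv_naturality_left]
      apply ((hE _ B).symm).injective
      rw [Equiv.symm_apply_apply]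
      apply Over.OverMorphism.ext
      rw [Over.comp_left, Over.comp_left, prodOverIso_hom_left]
      show f ≫ (𝟙 _ ≫ (fst B ((Over.map T.hom).obj T'')).left) = _
      rw [Category.id_comp, ← Over.comp_left, lift_fst]
    · rw [lift_snd, Category.id_comp]
      apply Over.OverMorphism.ext
      show f ≫ (snd B ((Over.map T.hom).obj T'')).left = _
      rw [← Over.comp_left, lift_snd]
      rfl
  inv_hom_id := by
    apply CartesianMonoidalCategory.hom_ext
    · rw [Category.assoc, Category.assoc, lift_fst, Category.id_comp, ← Adjunction.homEquiv_naturality_left_symm,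
        lift_fst, Equiv.symm_apply_apply, Iso.inv_hom_id_assoc]
    · rw [Category.assoc, Category.assoc, lift_snd, Category.id_comp, ← Functor.map_comp, lift_snd]
      exact Over.OverMorphism.ext (Category.id_comp _)

theorem tensorMapIso_hom_lift {P : Over T.left} (y : (Over.map T.hom).obj P ⟶ B) (t : P ⟶ T'') :
    (Over.map T.hom).map (lift (hE P B y) t) ≫ (tensorMapIso T T'' B).hom = lift y ((Over.map T.hom).map t) := by
  apply CartesianMonoidalCategory.hom_ext
  · rw [Category.assoc, tensorMapIso, lift_fst, ← Adjunction.homEquiv_naturality_left_symm, lift_fst,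
      Equiv.symm_apply_apply, lift_fst]
  · rw [Category.assoc, tensorMapIso, lift_snd, ← Functor.map_comp, lift_snd, lift_snd]

variable (ρ : MonAct A B) (a : MonAct A X)

/-- The adjunct. -/
def adj : (B ⊗ (Over.map T.hom).obj T'' ⟶ X) ≃ (Red.bc T.hom B ⊗ T'' ⟶ Red.bc T.hom X) :=
  ((tensorMapIso T T'' B).symm.homCongr (Iso.refl X)).trans (hE _ X)

theorem adj_apply (φ : B ⊗ (Over.map T.hom).obj T'' ⟶ X) :
    adj T T'' φ = hE _ X ((tensorMapIso T T'' B).hom ≫ φ) := by
  simp [adj, Iso.homCongr]

theorem lift_adj {P : Over T.left} (y : (Over.map T.hom).obj P ⟶ B) (t : P ⟶ T'')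
    (φ : B ⊗ (Over.map T.hom).obj T'' ⟶ X) :
    lift (hE P B y) t ≫ adj T T'' φ = hE P X (lift y ((Over.map T.hom).map t) ≫ φ) := by
  rw [adj_apply, ← Adjunction.homEquiv_naturality_left, ← Category.assoc, tensorMapIso_hom_lift]

theorem isEquivariant_adj_iff (φ : B ⊗ (Over.map T.hom).obj T'' ⟶ X) :
    MonAct.IsEquivariant ((ρ.bc T.hom).prod (MonAct.trivial _ T'')) (a.bc T.hom) (adj T T'' φ) ↔
      MonAct.IsEquivariant (ρ.prod (MonAct.trivial A ((Over.map T.hom).obj T''))) a φ := by
  rw [MonAct.mem_eqvHom_iff, MonAct.mem_eqvHom_iff]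
  constructor
  · intro h T' g b t
    let P : Over T.left := Over.mk (t.left ≫ T''.hom)
    let t' : P ⟶ T'' := Over.homMk t.left rfl
    let e : (Over.map T.hom).obj P ≅ T' := Over.isoMk (Iso.refl _) (by
      show 𝟙 _ ≫ T'.hom = (t.left ≫ T''.hom) ≫ T.hom
      rw [Category.id_comp, Category.assoc]
      exact (Over.w t).symm)
    have he : (Over.map T.hom).map t' = e.hom ≫ t := Over.OverMorphism.ext (Category.id_comp _).symm
    have h1 := h P (hE P A (e.hom ≫ g)) (hE P B (e.hom ≫ b)) t'
    rw [MonAct.lift_homEquiv_bc_act, lift_adj, lift_adj, MonAct.lift_homEquiv_bc_act, he] at h1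
    have h2 := (hE P X).injective h1
    rw [← comp_lift, Category.assoc, ← comp_lift, Category.assoc, ← comp_lift, Category.assoc, ← comp_lift,
      Category.assoc] at h2
    exact (cancel_epi e.hom).1 h2
  · intro h P g' b' t
    obtain ⟨g, rfl⟩ := (hE P A).surjective g'
    obtain ⟨b, rfl⟩ := (hE P B).surjective b'
    rw [MonAct.lift_homEquiv_bc_act, lift_adj, lift_adj, MonAct.lift_homEquiv_bc_act, h]

/-- Equivariant maps after base change. -/
def eqvHomBcEquiv : (MonAct.eqvHom ρ a).obj (op ((Over.map T.hom).obj T'')) ≃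
    (MonAct.eqvHom (ρ.bc T.hom) (a.bc T.hom)).obj (op T'') :=
  (adj T T'').subtypeEquiv fun φ => (isEquivariant_adj_iff T T'' ρ a φ).symm

theorem eqvHomBcEquiv_spec (φ : (MonAct.eqvHom ρ a).obj (op ((Over.map T.hom).obj T''))) :
    (eqvHomEquivBc T'' (ρ.bc T.hom) (a.bc T.hom) (eqvHomBcEquiv T T'' ρ a φ)).1 ≫
        (ActBC.bcCompIso T''.hom T.hom X rfl).hom =
      (ActBC.bcCompIso T''.hom T.hom B rfl).hom ≫
        (eqvHomEquivBc ((Over.map T.hom).obj T'') ρ a φ).1 := by
  rw [eqvHomEquivBc_apply_coe, eqvHomEquivBc_apply_coe]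
  apply Over.OverMorphism.ext
  apply pullback.hom_ext
  · rw [Over.comp_left, Over.comp_left, Category.assoc, Category.assoc]
    rw [ActBC.bcCompIso_hom_left_fst, ← Category.assoc, toBc_left_fst]
    show (adj T T'' φ.1).left ≫ pullback.fst X.hom T.hom = _ ≫ (toBc ((Over.map T.hom).obj T'') φ.1).left ≫ pullback.fst X.hom ((Over.map T.hom).obj T'').hom
    rw [toBc_left_fst, adj_apply]
    have e : ∀ (Q : Over T.left) (z : (Over.map T.hom).obj Q ⟶ X),
        (hE Q X z).left ≫ pullback.fst X.hom T.hom = z.left := fun Q z => by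
      have := congrArg CommaMorphism.left ((hE Q X).symm_apply_apply z)
      rw [Adjunction.homEquiv_counit] at this
      simpa using this
    rw [e, Over.comp_left]
    congr 1
  · exact (Over.w _).trans (Over.w _).symm

end Groth.L11.Magnet
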