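import Groth.Agent.L11.Magnet.Face
import Mathlib.GroupTheory.Finiteness
import Mathlib.LinearAlgebra.FreeModule.PID
import Mathlib.LinearAlgebra.FreeModule.Basic
import Mathlib.GroupTheory.Torsion

/-!
Weights vanishing exactly on a face, and the homotopy onto the attractor of a face.
-/

set_option autoImplicit false
universe u

open CategoryTheory CategoryTheory.Limits MonoidalCategory CartesianMonoidalCategory MonObj AlgebraicGeometry Opposite

set_option backward.isDefEq.respectTransparency.types false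

noncomputable section

namespace Groth.L11.Magnet

open _root_.Magnet

/-- An element of infinite order has a positive weight. -/
theorem exists_weight_pos {A : Type} [AddCommGroup A] [AddGroup.FG A] (v : A)
    (hv : ∀ n : ℕ, n • v = 0 → n = 0) : ∃ wl : A →+ ℤ, 0 < wl v := by
  classical
  have hfin : Module.Finite ℤ A := Module.Finite.iff_addGroup_fg.2 inferInstance
  let T := Submodule.torsion ℤ A
  have : Module.IsTorsionFree ℤ (A ⧸ T) := inferInstance
  have : Module.Free ℤ (A ⧸ T) := inferInstance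
  let b := Module.Free.chooseBasis ℤ (A ⧸ T)
  have hne : (T.mkQ v : A ⧸ T) ≠ 0 := by
    intro h
    obtain ⟨a, ha⟩ := (Submodule.mem_torsion_iff v).1 ((Submodule.Quotient.mk_eq_zero T).1 h)
    have h0 : (a : ℤ) ≠ 0 := nonZeroDivisors.coe_ne_zero a
    refine h0 (Int.natAbs_eq_zero.1 (hv _ ?_))
    have ha' : (a : ℤ) • v = 0 := ha
    rcases Int.natAbs_eq (a : ℤ) with e | e
    · rw [e, natCast_zsmul] at ha'
      exact ha'
    · rw [e, neg_zsmul, natCast_zsmul, neg_eq_zero] at ha'
      exact ha'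
  obtain ⟨i, hi⟩ : ∃ i, b.repr (T.mkQ v) i ≠ 0 := by
    by_contra h
    push_neg at h
    exact hne (b.repr.map_eq_zero_iff.1 (Finsupp.ext h))
  let wl : A →ₗ[ℤ] ℤ := (b.coord i).comp T.mkQ
  rcases lt_or_gt_of_ne hi with h | h
  · exact ⟨(-wl).toAddMonoidHom, by simpa [wl] using h⟩
  · exact ⟨wl.toAddMonoidHom, by simpa [wl] using h⟩

/-- Gordan's alternative for finitely generated abelian groups. -/
theorem exists_weight_pos_of_sharp : ∀ (k : ℕ) {A : Type} [AddCommGroup A] [AddGroup.FG A] (v : Fin k → A),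
    (∀ c : Fin k → ℕ, ∑ i, c i • v i = 0 → ∀ i, c i = 0) → ∃ wl : A →+ ℤ, ∀ i, 0 < wl (v i)
  | 0, _, _, _, _, _ => ⟨0, fun i => i.elim0⟩
  | k + 1, A, _, _, v, h => by
    classical
    let H := AddSubgroup.zmultiples (v 0)
    let w : Fin k → A := fun i => v i.succ
    have hw : ∀ c : Fin k → ℕ, ∀ t : ℕ, ∑ i, c i • w i + t • v 0 = 0 → (∀ i, c i = 0) ∧ t = 0 := by
      intro c t e
      have e' := h (Fin.cons t c) (by
        rw [Fin.sum_univ_succ]
        simpa [add_comm] using e)
      exact ⟨fun i => by simpa using e' i.succ, by simpa using e' 0⟩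
    obtain ⟨wv, hwv⟩ := exists_weight_pos (v 0) fun n e => (hw 0 n (by simpa using e)).2
    by_cases hq : ∀ c : Fin k → ℕ, ∑ i, c i • (QuotientAddGroup.mk (w i) : A ⧸ H) = 0 → ∀ i, c i = 0
    · obtain ⟨wz, hwz⟩ := exists_weight_pos_of_sharp k (fun i => (QuotientAddGroup.mk (w i) : A ⧸ H)) hq
      let C : ℤ := ∑ i, |wv (w i)| + 1
      refine ⟨C • wz.comp (QuotientAddGroup.mk' H) + wv, Fin.cases ?_ fun i => ?_⟩
      · have : (QuotientAddGroup.mk (v 0) : A ⧸ H) = 0 :=
          (QuotientAddGroup.eq_zero_iff _).2 (AddSubgroup.mem_zmultiples _)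
        simpa [this] using hwv
      · have h1 : |wv (w i)| < C := Int.lt_add_one_iff.2
          (Finset.single_le_sum (f := fun i => |wv (w i)|) (fun _ _ => abs_nonneg _) (Finset.mem_univ i))
        have h2 := hwz i
        have h3 : C ≤ C * wz (QuotientAddGroup.mk (w i)) :=
          le_mul_of_one_le_right ((abs_nonneg _).trans h1.le) h2
        show 0 < C • wz (QuotientAddGroup.mk (w i)) + wv (w i)
        rw [smul_eq_mul]
        have := neg_abs_le (wv (w i))
        linarith
    · push_neg at hq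
      obtain ⟨c, hc, i₀, hi₀⟩ := hq
      have hmem : ∑ i, c i • w i ∈ H := by
        rw [← QuotientAddGroup.eq_zero_iff]
        simpa using hc
      obtain ⟨t, ht⟩ := AddSubgroup.mem_zmultiples_iff.1 hmem
      have htpos : 0 < t := by
        by_contra htn
        obtain ⟨t', rfl⟩ : ∃ t' : ℕ, t = -(t' : ℤ) := ⟨(-t).toNat, by omega⟩
        refine hi₀ ((hw c t' ?_).1 i₀)
        rw [← ht, neg_zsmul, natCast_zsmul, neg_add_cancel]
      obtain ⟨wl, hwl⟩ := exists_weight_pos_of_sharp k w fun c' e => (hw c' 0 (by simpa using e)).1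
      refine ⟨wl, Fin.cases ?_ hwl⟩
      have e := congrArg wl ht
      rw [map_zsmul, map_sum, smul_eq_mul] at e
      have hpos : 0 < ∑ i, wl (c i • w i) := by
        refine Finset.sum_pos' (fun i _ => ?_) ⟨i₀, Finset.mem_univ _, ?_⟩
        · rw [map_nsmul, nsmul_eq_mul]; exact mul_nonneg (Int.natCast_nonneg _) (hwl i).le
        · rw [map_nsmul, nsmul_eq_mul]
          exact mul_pos (Int.natCast_pos.2 (Nat.pos_of_ne_zero hi₀)) (hwl i₀)
      exact (mul_pos_iff_of_pos_left htpos).1 (e ▸ hpos)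

variable {M : Type} [AddCommGroup M] {N F : AddSubmonoid M}

/-- A face of a finitely generated monoid is the zero set of a weight. -/
theorem exists_face_weight [AddGroup.FG M] (hN : N.FG) (hF : IsFace N F) :
    ∃ d : N →+ ℕ, ∀ n : N, d n = 0 ↔ (n : M) ∈ F := by
  classical
  obtain ⟨s, hs⟩ := hN
  let t := s.filter (· ∉ F)
  let g : Fin t.card → M := fun i => (t.equivFin.symm i : M)
  have hsN : ∀ x ∈ s, x ∈ N := fun x hx => hs ▸ AddSubmonoid.subset_closure hx
  have hg : ∀ i, g i ∈ N ∧ g i ∉ F := fun i => by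
    have := Finset.mem_filter.1 (t.equivFin.symm i).2
    exact ⟨hsN _ this.1, this.2⟩
  let H := AddSubgroup.closure (F : Set M)
  have hH : ∀ z ∈ H, ∃ a ∈ F, ∃ b ∈ F, z + b = a := by
    intro z hz
    induction hz using AddSubgroup.closure_induction with
    | mem z hz => exact ⟨z, hz, 0, F.zero_mem, add_zero z⟩
    | zero => exact ⟨0, F.zero_mem, 0, F.zero_mem, add_zero _⟩
    | add x y _ _ hx hy =>
      obtain ⟨a, ha, b, hb, e⟩ := hx
      obtain ⟨a', ha', b', hb', e'⟩ := hy
      exact ⟨a + a', F.add_mem ha ha', b + b', F.add_mem hb hb', by rw [← e, ← e']; abel⟩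
    | neg x _ hx =>
      obtain ⟨a, ha, b, hb, e⟩ := hx
      exact ⟨b, hb, a, ha, by rw [← e]; abel⟩
  obtain ⟨wl, hwl⟩ := exists_weight_pos_of_sharp _ (fun i => (QuotientAddGroup.mk (g i) : M ⧸ H)) (by
    intro c hc i
    have hmem : ∑ i, c i • g i ∈ H := by
      rw [← QuotientAddGroup.eq_zero_iff]
      simpa using hc
    obtain ⟨a, ha, b, hb, e⟩ := hH _ hmem
    have hsum : ∑ j, c j • g j ∈ N := N.sum_mem fun j _ => N.nsmul_mem (hg j).1 _
    have h1 := (hF.mem_of_add_mem _ hsum _ (hF.le hb) (e ▸ ha)).1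
    rw [← Finset.add_sum_erase _ (fun j => c j • g j) (Finset.mem_univ i)] at h1
    have h2 := (hF.mem_of_add_mem _ (N.nsmul_mem (hg i).1 _) _
      (N.sum_mem fun j _ => N.nsmul_mem (hg j).1 _) h1).1
    by_contra hne
    obtain ⟨n, hn⟩ := Nat.exists_eq_succ_of_ne_zero hne
    rw [hn, succ_nsmul'] at h2
    exact (hg i).2 (hF.mem_of_add_mem _ (hg i).1 _ (N.nsmul_mem (hg i).1 n) h2).1)
  let ν : M →+ ℤ := wl.comp (QuotientAddGroup.mk' H)
  have hνF : ∀ x ∈ F, ν x = 0 := fun x hx => by
    show wl (QuotientAddGroup.mk x) = 0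
    rw [(QuotientAddGroup.eq_zero_iff _).2 (AddSubgroup.subset_closure hx), map_zero]
  have hν : ∀ x ∈ N, 0 ≤ ν x ∧ (ν x = 0 → x ∈ F) := by
    intro x hx
    rw [← hs] at hx
    induction hx using AddSubmonoid.closure_induction with
    | mem x hx =>
      by_cases h : x ∈ F
      · exact ⟨(hνF x h).ge, fun _ => h⟩
      · have : 0 < ν x := by
          have := hwl (t.equivFin ⟨x, Finset.mem_filter.2 ⟨hx, h⟩⟩)
          simpa [g, ν] using this
        exact ⟨this.le, fun e => absurd e this.ne'⟩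
    | zero => exact ⟨(map_zero ν).ge, fun _ => F.zero_mem⟩
    | add x y _ _ hx hy =>
      rw [map_add]
      exact ⟨add_nonneg hx.1 hy.1, fun e => F.add_mem (hx.2 (by linarith [hx.1, hy.1]))
        (hy.2 (by linarith [hx.1, hy.1]))⟩
  refine ⟨{ toFun := fun n => (ν n).toNat
            map_zero' := by simp
            map_add' := fun a b => by
              rw [AddSubmonoid.coe_add, map_add, Int.toNat_add (hν _ a.2).1 (hν _ b.2).1] }, fun n => ?_⟩
  constructor
  · intro h
    have h' : (ν n).toNat = 0 := h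
    exact (hν _ n.2).2 (le_antisymm (Int.toNat_eq_zero.1 h') (hν _ n.2).1)
  · intro h
    show (ν n).toNat = 0
    rw [hνF _ h]
    rfl

variable {S : Scheme.{u}} {X : Over S} (a : MonAct (AMonS S M) X) (d : N →+ ℕ)

/-- The point of a weight and a scalar. -/
def weightPt {T : Over S} (c : Γ(T.left, ⊤)) : T ⟶ AMonS S N :=
  MPts.pt ((powersHom _ c).comp (AddMonoidHom.toMultiplicative d))

theorem char_weightPt {T : Over S} (c : Γ(T.left, ⊤)) (n : Multiplicative N) :
    MPts.char (weightPt d c : T ⟶ AMonS S N) n = c ^ d n.toAdd := by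
  rw [weightPt, MPts.char_pt]
  rfl

theorem comp_weightPt {T T' : Over S} (t : T' ⟶ T) (c : Γ(T.left, ⊤)) :
    t ≫ weightPt d c = weightPt d (t.left.appTop c) := by
  apply MPts.char_injective
  refine MonoidHom.ext fun n => ?_
  rw [MPts.char_comp, char_weightPt, char_weightPt, map_pow]

/-- Scaling a family by a scalar through a weight. -/
def homotopy (T : Over S) (x : (attr a N).obj (op T)) (c : Γ(T.left, ⊤)) : (attr a N).obj (op T) :=
  ⟨lift (fst (AMonS S N) T * (snd (AMonS S N) T ≫ weightPt d c)) (snd (AMonS S N) T) ≫ x.1, by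
    rw [MonAct.mem_eqvHom_iff]
    intro T' g b t
    have h := (MonAct.mem_eqvHom_iff x.1).1 x.2 T' g (b * (t ≫ weightPt d c)) t
    simp only [comp_lift_assoc, MonObj.comp_mul, lift_fst, lift_snd_assoc, lift_snd]
    rw [← h]
    simp only [subAct, MonAct.lift_restrict_act, MonAct.lift_regular_act, _root_.mul_assoc]⟩

theorem exists_homotopy [AddGroup.FG M] (hN : N.FG) (hF : IsFace N F) :
    ∃ δ : ∀ T : Over S, (attr a N).obj (op T) → Γ(T.left, ⊤) → (attr a N).obj (op T),
      (∀ (T T' : Over S) (t : T' ⟶ T) (x : (attr a N).obj (op T)) (c : Γ(T.left, ⊤)),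
          δ T' ((attr a N).map t.op x) (t.left.appTop c) = (attr a N).map t.op (δ T x c)) ∧
      (∀ (T : Over S) (x : (attr a N).obj (op T)),
          δ T x 0 = (attrMap a hF.le).app (op T) ((attrFace a hF).app (op T) x)) ∧
      (∀ (T : Over S) (x : (attr a N).obj (op T)), δ T x 1 = x) ∧
      (∀ (T : Over S) (y : (attr a F).obj (op T)) (c : Γ(T.left, ⊤)),
          δ T ((attrMap a hF.le).app (op T) y) c = (attrMap a hF.le).app (op T) y) := by
  classical
  obtain ⟨d, hd⟩ := exists_face_weight hN hF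
  refine ⟨homotopy a d, fun T T' t x c => Subtype.ext ?_, fun T x => Subtype.ext ?_, fun T x => Subtype.ext ?_,
    fun T y c => Subtype.ext ?_⟩
  · show lift (fst _ _ * (snd _ _ ≫ weightPt d (t.left.appTop c))) (snd _ _) ≫ (AMonS S N ◁ t) ≫ x.1 =
      (AMonS S N ◁ t) ≫ lift (fst _ _ * (snd _ _ ≫ weightPt d c)) (snd _ _) ≫ x.1
    rw [← comp_weightPt, lift_whiskerLeft_assoc, comp_lift_assoc, MonObj.comp_mul, whiskerLeft_fst,
      whiskerLeft_snd, whiskerLeft_snd_assoc]
  · show lift (fst _ _ * (snd _ _ ≫ weightPt d 0)) (snd _ _) ≫ x.1 =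
      (AMonS.map S (AddSubmonoid.inclusion hF.le) ▷ T) ≫ (AMonS.faceMap S hF ▷ T) ≫ x.1
    rw [← Category.assoc (AMonS.map S _ ▷ T)]
    congr 1
    apply CartesianMonoidalCategory.hom_ext
    · rw [lift_fst, ← comp_whiskerRight, whiskerRight_fst]
      apply MPts.char_injective
      refine MonoidHom.ext fun n => ?_
      obtain ⟨n', rfl⟩ : ∃ k, Multiplicative.ofAdd k = n := ⟨n.toAdd, rfl⟩
      rw [MPts.char_mul, MonoidHom.mul_apply, comp_weightPt, char_weightPt, map_zero, toAdd_ofAdd,
        ← Category.assoc]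
      by_cases h : (n' : M) ∈ F
      · rw [char_faceMap_of_mem hF _ n' h, MPts.char_map, (hd n').2 h, pow_zero, _root_.mul_one]
        rfl
      · rw [char_faceMap_of_not_mem hF _ n' h, zero_pow fun e => h ((hd n').1 e), mul_zero]
    · rw [lift_snd, ← comp_whiskerRight, whiskerRight_snd]
  · show lift (fst _ _ * (snd _ _ ≫ weightPt d 1)) (snd _ _) ≫ x.1 = x.1
    have : weightPt (S := S) (T := T) d 1 = 1 := by
      apply MPts.char_injective
      refine MonoidHom.ext fun n => ?_
      rw [char_weightPt, MPts.char_one, one_pow]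
      rfl
    rw [this, MonObj.comp_one, _root_.mul_one, lift_fst_snd, Category.id_comp]
  · show lift (fst _ _ * (snd _ _ ≫ weightPt d c)) (snd _ _) ≫
      (AMonS.map S (AddSubmonoid.inclusion hF.le) ▷ T) ≫ y.1 =
      (AMonS.map S (AddSubmonoid.inclusion hF.le) ▷ T) ≫ y.1
    rw [lift_whiskerRight_assoc]
    congr 1
    apply CartesianMonoidalCategory.hom_ext
    · rw [lift_fst, whiskerRight_fst]
      apply MPts.char_injective
      refine MonoidHom.ext fun n => ?_
      rw [MPts.char_map, MPts.char_map, MPts.char_mul, MonoidHom.mul_apply, comp_weightPt, char_weightPt,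
        (hd _).2 (show ((AddMonoidHom.toMultiplicative (AddSubmonoid.inclusion hF.le) n).toAdd : M) ∈ F from
          n.toAdd.2), pow_zero, _root_.mul_one]
    · rw [lift_snd, whiskerRight_snd]

end Groth.L11.Magnet
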