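import Groth.Agent.L11.Magnet.SymCore
import Groth.Agent.L11.Magnet.Homotopy
import Groth.Agent.L11.Magnet.AffineRep
import Mathlib.RingTheory.Smooth.Basic

/-!
Gradings of algebras by abelian groups: attractor algebras are symmetric over their degree-units part.
-/

set_option autoImplicit false
universe u

open _root_.Magnet

noncomputable section

namespace Groth.L11.Magnet

variable {M : Type} [AddCommGroup M]

/-- A grading, as a coaction of the monoid algebra. -/
structure Coact (R A : Type u) [CommRing R] [CommRing A] [Algebra R A] (M : Type) [AddCommGroup M] where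
  c : A →ₐ[R] MonoidAlgebra A (Multiplicative M)
  counit : ∀ a, (c a).coeff.sum (fun _ y => y) = a
  coassoc : ∀ a m, c ((c a).coeff m) = MonoidAlgebra.single m ((c a).coeff m)

namespace Coact

variable {R A : Type u} [CommRing R] [CommRing A] [Algebra R A] (𝒜 : Coact R A M)

theorem eq_sum (a : A) : a = ∑ m ∈ (𝒜.c a).coeff.support, (𝒜.c a).coeff m := (𝒜.counit a).symm

/-- Additive maps agree once they agree on homogeneous elements. -/
theorem hom_ext {D : Type*} [AddCommMonoid D] {f g : A →+ D}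
    (h : ∀ (m : Multiplicative M) (y : A), 𝒜.c y = MonoidAlgebra.single m y → f y = g y) : f = g := by
  refine AddMonoidHom.ext fun a => ?_
  rw [𝒜.eq_sum a, map_sum, map_sum]
  exact Finset.sum_congr rfl fun m _ => h m _ (𝒜.coassoc a m)

/-- The ideal of the attractor. -/
def ideal (N : AddSubmonoid M) : Ideal A :=
  Ideal.span {y | ∃ (b : A) (m : Multiplicative M), m.toAdd ∉ N ∧ (𝒜.c b).coeff m = y}

theorem mem_ideal {N : AddSubmonoid M} {y : A} {m : Multiplicative M} (hy : 𝒜.c y = MonoidAlgebra.single m y)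
    (hm : m.toAdd ∉ N) : y ∈ 𝒜.ideal N :=
  Ideal.subset_span ⟨y, m, hm, by rw [hy, MonoidAlgebra.coeff_single, Finsupp.single_eq_same]⟩

variable (N : AddSubmonoid M)

/-- The inclusion of monoid algebras. -/
abbrev incl (D : Type u) [CommRing D] [Algebra R D] :
    MonoidAlgebra D (Multiplicative N) →ₐ[R] MonoidAlgebra D (Multiplicative M) :=
  MonoidAlgebra.mapDomainAlgHom R D (AddMonoidHom.toMultiplicative N.subtype)

theorem incl_injective (D : Type u) [CommRing D] [Algebra R D] : Function.Injective (incl (R := R) N D) :=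
  MonoidAlgebra.mapDomain_injective fun _ _ e => Subtype.ext e

theorem exists_cN : ∃ cN : A →ₐ[R] MonoidAlgebra (A ⧸ 𝒜.ideal N) (Multiplicative N),
    (incl N _).comp cN = (MonoidAlgebra.mapAlgHom (Multiplicative M) (Ideal.Quotient.mkₐ R (𝒜.ideal N))).comp 𝒜.c := by
  let q := MonoidAlgebra.mapAlgHom (Multiplicative M) (Ideal.Quotient.mkₐ R (𝒜.ideal N))
  have h : ∀ a, (q.comp 𝒜.c) a ∈ (incl (R := R) N (A ⧸ 𝒜.ideal N)).range := fun a => by
    refine mem_range_mapDomain N _ fun m hm => ?_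
    show ((q.comp 𝒜.c) a).coeff m = 0
    rw [AlgHom.comp_apply, MonoidAlgebra.coeff_mapAlgHom, Ideal.Quotient.mkₐ_eq_mk,
      Ideal.Quotient.eq_zero_iff_mem]
    exact Ideal.subset_span ⟨a, m, hm, rfl⟩
  let e := AlgEquiv.ofInjective (incl (R := R) N (A ⧸ 𝒜.ideal N)) (incl_injective N _)
  exact ⟨e.symm.toAlgHom.comp ((q.comp 𝒜.c).codRestrict _ h), AlgHom.ext fun a =>
    congrArg Subtype.val (e.apply_symm_apply ⟨_, h a⟩)⟩

/-- The grading of the quotient, seen on the algebra. -/
def cN : A →ₐ[R] MonoidAlgebra (A ⧸ 𝒜.ideal N) (Multiplicative N) := (𝒜.exists_cN N).choose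

theorem incl_cN (a : A) : incl (R := R) N _ (𝒜.cN N a) =
    MonoidAlgebra.mapRingHom (Multiplicative M) (Ideal.Quotient.mk (𝒜.ideal N)) (𝒜.c a) :=
  DFunLike.congr_fun (𝒜.exists_cN N).choose_spec a

theorem cN_homog {y : A} {m : Multiplicative M} (hy : 𝒜.c y = MonoidAlgebra.single m y) (hm : m.toAdd ∈ N) :
    𝒜.cN N y = MonoidAlgebra.single (Multiplicative.ofAdd ⟨m.toAdd, hm⟩) (Ideal.Quotient.mk _ y) := by
  apply incl_injective (R := R) N
  rw [incl_cN, hy, MonoidAlgebra.mapRingHom_single]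
  exact (MonoidAlgebra.mapDomain_single (f := AddMonoidHom.toMultiplicative N.subtype)
    (a := Multiplicative.ofAdd (⟨m.toAdd, hm⟩ : N))).symm

theorem cN_homog_of_not_mem {y : A} {m : Multiplicative M} (hy : 𝒜.c y = MonoidAlgebra.single m y)
    (hm : m.toAdd ∉ N) : 𝒜.cN N y = 0 := by
  apply incl_injective (R := R) N
  rw [incl_cN, hy, MonoidAlgebra.mapRingHom_single, map_zero,
    Ideal.Quotient.eq_zero_iff_mem.2 (𝒜.mem_ideal hy hm), MonoidAlgebra.single_zero]

theorem cN_le_ker : 𝒜.ideal N ≤ RingHom.ker (𝒜.cN N).toRingHom := by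
  refine Ideal.span_le.2 ?_
  rintro _ ⟨b, m, hm, rfl⟩
  exact 𝒜.cN_homog_of_not_mem N (𝒜.coassoc b m) hm

/-- The grading of the quotient. -/
def cC : (A ⧸ 𝒜.ideal N) →ₐ[R] MonoidAlgebra (A ⧸ 𝒜.ideal N) (Multiplicative N) :=
  Ideal.Quotient.liftₐ _ (𝒜.cN N) fun _ ha => 𝒜.cN_le_ker N ha

theorem cC_mk (a : A) : 𝒜.cC N (Ideal.Quotient.mk _ a) = 𝒜.cN N a := rfl

/-- The augmentation. -/
def aug (D : Type u) [CommRing D] [Algebra R D] (G : Type) [CommMonoid G] : MonoidAlgebra D G →ₐ[R] D :=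
  (MonoidAlgebra.lift D D G 1).restrictScalars R

theorem aug_single {D : Type u} [CommRing D] [Algebra R D] {G : Type} [CommMonoid G] (g : G) (r : D) :
    aug (R := R) D G (MonoidAlgebra.single g r) = r := by
  show MonoidAlgebra.lift D D G 1 (MonoidAlgebra.single g r) = r
  rw [MonoidAlgebra.lift_single]
  simp

/-- The part of degree in the units. -/
def proj : A →ₐ[R] A ⧸ 𝒜.ideal N :=
  (aug _ _).comp (((faceAlgHom (A ⧸ 𝒜.ideal N) (isFace_unitFace N)).restrictScalars R).comp (𝒜.cN N))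

theorem proj_homog {y : A} {m : Multiplicative M} (hy : 𝒜.c y = MonoidAlgebra.single m y)
    (hm : m.toAdd ∈ unitFace N) : 𝒜.proj N y = Ideal.Quotient.mk _ y := by
  show aug (R := R) _ _ (faceAlgHom _ (isFace_unitFace N) (𝒜.cN N y)) = _
  rw [𝒜.cN_homog N hy (unitFace_le N hm), faceAlgHom_single_of_mem _ _ _ hm, aug_single]

theorem proj_homog_of_not_mem {y : A} {m : Multiplicative M} (hy : 𝒜.c y = MonoidAlgebra.single m y)
    (hm : m.toAdd ∉ unitFace N) : 𝒜.proj N y = 0 := by
  show aug (R := R) _ _ (faceAlgHom _ (isFace_unitFace N) (𝒜.cN N y)) = _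
  by_cases h : m.toAdd ∈ N
  · rw [𝒜.cN_homog N hy h, faceAlgHom_single_of_not_mem _ _ _ hm, map_zero]
  · rw [𝒜.cN_homog_of_not_mem N hy h, map_zero, map_zero]

/-- The section of the limit. -/
def sec : (A ⧸ 𝒜.ideal (unitFace N)) →ₐ[R] A ⧸ 𝒜.ideal N :=
  Ideal.Quotient.liftₐ _ (𝒜.proj N) fun _ ha => (Ideal.span_le.2 (by
    rintro _ ⟨b, m, hm, rfl⟩
    exact 𝒜.proj_homog_of_not_mem N (𝒜.coassoc b m) hm) :
      𝒜.ideal (unitFace N) ≤ RingHom.ker (𝒜.proj N).toRingHom) ha

theorem sec_mk (a : A) : 𝒜.sec N (Ideal.Quotient.mk _ a) = 𝒜.proj N a := rfl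

theorem ideal_anti {N L : AddSubmonoid M} (h : N ≤ L) : 𝒜.ideal L ≤ 𝒜.ideal N := by
  refine Ideal.span_le.2 ?_
  rintro _ ⟨b, m, hm, rfl⟩
  exact Ideal.subset_span ⟨b, m, fun h' => hm (h h'), rfl⟩

/-- The restriction to the attractor of units. -/
def res : (A ⧸ 𝒜.ideal N) →ₐ[R] A ⧸ 𝒜.ideal (unitFace N) :=
  Ideal.Quotient.factorₐ R (𝒜.ideal_anti (unitFace_le N))

theorem res_mk (a : A) : 𝒜.res N (Ideal.Quotient.mk _ a) = Ideal.Quotient.mk _ a := rfl

theorem res_sec (b : A ⧸ 𝒜.ideal (unitFace N)) : 𝒜.res N (𝒜.sec N b) = b := by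
  obtain ⟨a, rfl⟩ := Ideal.Quotient.mk_surjective b
  have h : (𝒜.res N).toRingHom.toAddMonoidHom.comp (𝒜.proj N).toRingHom.toAddMonoidHom =
      (Ideal.Quotient.mk (𝒜.ideal (unitFace N))).toAddMonoidHom := by
    refine 𝒜.hom_ext fun m y hy => ?_
    show 𝒜.res N (𝒜.proj N y) = Ideal.Quotient.mk _ y
    by_cases hm : m.toAdd ∈ unitFace N
    · rw [𝒜.proj_homog N hy hm, res_mk]
    · rw [𝒜.proj_homog_of_not_mem N hy hm, map_zero, Ideal.Quotient.eq_zero_iff_mem.2 (𝒜.mem_ideal hy hm)]
  exact DFunLike.congr_fun h a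

omit [CommRing R] in
theorem single_mul_eq_zero_of_sq {D : Type u} [CommRing D] (I : Ideal D) (hI : I ^ 2 = ⊥)
    {G : Type} [CommMonoid G] {x y : MonoidAlgebra D G} (hx : ∀ g, x.coeff g ∈ I) (hy : ∀ g, y.coeff g ∈ I) :
    x * y = 0 := by
  classical
  ext g
  rw [MonoidAlgebra.coeff_mul, MonoidAlgebra.coeff_zero, Finsupp.zero_apply]
  refine Finset.sum_eq_zero fun a _ => Finset.sum_eq_zero fun b _ => ?_
  dsimp only
  split_ifs
  · exact (Submodule.mem_bot D).1 (hI ▸ (pow_two I).symm ▸ Ideal.mul_mem_mul (hx a) (hy b))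
  · rfl

/-- Graded smooth algebras have formally smooth attractor algebras. -/
theorem formallySmooth_quotient [Algebra.FormallySmooth R A] : Algebra.FormallySmooth R (A ⧸ 𝒜.ideal N) := by
  classical
  refine Algebra.FormallySmooth.of_comp_surjective fun D _ _ I hI g => ?_
  let red : MonoidAlgebra D (Multiplicative N) →ₐ[R] MonoidAlgebra (D ⧸ I) (Multiplicative N) :=
    MonoidAlgebra.mapAlgHom _ (Ideal.Quotient.mkₐ R I)
  let gb : A →ₐ[R] MonoidAlgebra (D ⧸ I) (Multiplicative N) := (MonoidAlgebra.mapAlgHom _ g).comp (𝒜.cN N)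
  have hred : Function.Surjective red := fun z => by
    induction z using MonoidAlgebra.induction_linear with
    | zero => exact ⟨0, map_zero _⟩
    | add a b ha hb =>
      obtain ⟨a, rfl⟩ := ha
      obtain ⟨b, rfl⟩ := hb
      exact ⟨a + b, map_add _ _ _⟩
    | single m r =>
      obtain ⟨r, rfl⟩ := Ideal.Quotient.mk_surjective r
      exact ⟨MonoidAlgebra.single m r, by simp [red]⟩
  have hkerc : ∀ x, red x = 0 → ∀ n, x.coeff n ∈ I := fun x hx n => by
    have := congrArg (fun z => z.coeff n) hx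
    simpa [red, Ideal.Quotient.eq_zero_iff_mem] using this
  have hker : IsNilpotent (RingHom.ker (red : MonoidAlgebra D (Multiplicative N) →+* MonoidAlgebra (D ⧸ I) (Multiplicative N))) := by
    refine ⟨2, ?_⟩
    rw [Submodule.pow_succ, Submodule.pow_one, Ideal.zero_eq_bot, eq_bot_iff, Ideal.mul_le]
    intro x hx y hy
    rw [Ideal.mem_bot]
    exact single_mul_eq_zero_of_sq I hI (hkerc x hx) (hkerc y hy)
  let G := Algebra.FormallySmooth.liftOfSurjective gb red hred hker
  have hG : ∀ a, red (G a) = gb a := Algebra.FormallySmooth.liftOfSurjective_apply _ _ _ _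
  let GM : A →ₐ[R] MonoidAlgebra D (Multiplicative M) := (incl (R := R) N D).comp G
  have hGN : ∀ a (m : Multiplicative M), m.toAdd ∉ N → (GM a).coeff m = 0 := fun a m hm =>
    coeff_mapDomain_eq_zero N _ hm
  have hnat : ∀ x, MonoidAlgebra.mapAlgHom (Multiplicative M) (Ideal.Quotient.mkₐ R I) (incl (R := R) N D x) =
      incl (R := R) N (D ⧸ I) (red x) := fun x => by
    induction x using MonoidAlgebra.induction_linear with
    | zero => simp
    | add a b ha hb => rw [map_add, map_add, map_add, map_add, ha, hb]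
    | single k r => simp [red, MonoidAlgebra.mapDomainAlgHom]
  have hnat' : ∀ x, incl (R := R) N (D ⧸ I) (MonoidAlgebra.mapAlgHom (Multiplicative N) g x) =
      MonoidAlgebra.mapAlgHom (Multiplicative M) g (incl (R := R) N _ x) := fun x => by
    induction x using MonoidAlgebra.induction_linear with
    | zero => simp
    | add a b ha hb => simp only [map_add, ha, hb]
    | single k r => simp [MonoidAlgebra.mapDomainAlgHom]
  have hmod : ∀ a (m : Multiplicative M), Ideal.Quotient.mk I ((GM a).coeff m) =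
      g (Ideal.Quotient.mk _ ((𝒜.c a).coeff m)) := fun a m => by
    have h := congrArg (fun z => (incl (R := R) N (D ⧸ I) z).coeff m) (hG a)
    simp only [← hnat, MonoidAlgebra.coeff_mapAlgHom] at h
    refine h.trans ?_
    simp only [gb, AlgHom.comp_apply, hnat', MonoidAlgebra.coeff_mapAlgHom, incl_cN, MonoidAlgebra.coeff_mapRingHom]
  let l₀ : A →+ D := ((Finsupp.liftAddHom fun m : Multiplicative M =>
    ({ toFun := fun y => (GM y).coeff m, map_zero' := by simp, map_add' := fun x y => by simp } : A →+ D)).comp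
      (MonoidAlgebra.coeffAddEquiv).toAddMonoidHom).comp 𝒜.c.toRingHom.toAddMonoidHom
  have hl : ∀ (m : Multiplicative M) (y : A), 𝒜.c y = MonoidAlgebra.single m y → l₀ y = (GM y).coeff m := by
    intro m y hy
    show Finsupp.liftAddHom _ (𝒜.c y).coeff = _
    rw [hy, MonoidAlgebra.coeff_single, Finsupp.liftAddHom_apply_single]
    rfl
  have hres : ∀ (m : Multiplicative M) (y : A), 𝒜.c y = MonoidAlgebra.single m y →
      ∀ k, k ≠ m → (GM y).coeff k ∈ I := by
    intro m y hy k hk
    rw [← Ideal.Quotient.eq_zero_iff_mem, hmod, hy, MonoidAlgebra.coeff_single, Finsupp.single_eq_of_ne hk,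
      map_zero, map_zero]
  have hmul : ∀ (m n : Multiplicative M) (x y : A), 𝒜.c x = MonoidAlgebra.single m x →
      𝒜.c y = MonoidAlgebra.single n y → l₀ (x * y) = l₀ x * l₀ y := by
    intro m n x y hx hy
    have hxy : 𝒜.c (x * y) = MonoidAlgebra.single (m * n) (x * y) := by
      rw [map_mul, hx, hy, MonoidAlgebra.single_mul_single]
    rw [hl _ _ hxy, hl _ _ hx, hl _ _ hy, map_mul GM]
    generalize hp : GM x = p
    generalize hq : GM y = q
    let pr := p - MonoidAlgebra.single m (p.coeff m)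
    let qr := q - MonoidAlgebra.single n (q.coeff n)
    have hpr : pr * qr = 0 := by
      refine single_mul_eq_zero_of_sq I hI (fun k => ?_) (fun k => ?_)
      · by_cases h : k = m
        · subst h; simp [pr]
        · simpa [pr, Finsupp.single_eq_of_ne h] using hp ▸ hres m x hx k h
      · by_cases h : k = n
        · subst h; simp [qr]
        · simpa [qr, Finsupp.single_eq_of_ne h] using hq ▸ hres n y hy k h
    have e : p * q = MonoidAlgebra.single m (p.coeff m) * MonoidAlgebra.single n (q.coeff n) +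
        MonoidAlgebra.single m (p.coeff m) * qr + pr * MonoidAlgebra.single n (q.coeff n) := by
      have : p * q = MonoidAlgebra.single m (p.coeff m) * MonoidAlgebra.single n (q.coeff n) +
        MonoidAlgebra.single m (p.coeff m) * qr + pr * MonoidAlgebra.single n (q.coeff n) + pr * qr := by
        simp only [pr, qr]; ring
      rw [this, hpr, add_zero]
    rw [e, MonoidAlgebra.coeff_add, MonoidAlgebra.coeff_add, Finsupp.add_apply, Finsupp.add_apply,
      MonoidAlgebra.single_mul_single, MonoidAlgebra.coeff_single, Finsupp.single_eq_same,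
      MonoidAlgebra.coeff_single_mul_mul, MonoidAlgebra.coeff_mul_single_mul]
    simp [pr, qr]
  have hmul' : ∀ x y, l₀ (x * y) = l₀ x * l₀ y := fun x y => by
    rw [𝒜.eq_sum x, 𝒜.eq_sum y, Finset.sum_mul_sum, map_sum, map_sum, map_sum, Finset.sum_mul_sum]
    refine Finset.sum_congr rfl fun m _ => ?_
    rw [map_sum]
    exact Finset.sum_congr rfl fun n _ => hmul m n _ _ (𝒜.coassoc x m) (𝒜.coassoc y n)
  have hR : ∀ r, l₀ (algebraMap R A r) = algebraMap R D r := fun r => by
    rw [hl 1 _ (by rw [AlgHom.commutes]; rfl), AlgHom.commutes]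
    show (MonoidAlgebra.single 1 (algebraMap R D r)).coeff 1 = _
    simp
  let l : A →ₐ[R] D :=
    { toFun := l₀, map_one' := by simpa using hR 1, map_mul' := hmul', map_zero' := map_zero l₀,
      map_add' := map_add l₀, commutes' := hR }
  have hkill : 𝒜.ideal N ≤ RingHom.ker l.toRingHom := by
    refine Ideal.span_le.2 ?_
    rintro _ ⟨b, m, hm, rfl⟩
    show l₀ _ = 0
    rw [hl m _ (𝒜.coassoc b m), hGN _ m hm]
  refine ⟨Ideal.Quotient.liftₐ _ l fun a ha => hkill ha, Ideal.Quotient.algHom_ext _ (AlgHom.ext fun a => ?_)⟩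
  have h : (Ideal.Quotient.mk I).toAddMonoidHom.comp l₀ =
      (g.comp (Ideal.Quotient.mkₐ R (𝒜.ideal N))).toRingHom.toAddMonoidHom := by
    refine 𝒜.hom_ext fun m y hy => ?_
    show Ideal.Quotient.mk I (l₀ y) = g (Ideal.Quotient.mk _ y)
    rw [hl m y hy, hmod, hy, MonoidAlgebra.coeff_single, Finsupp.single_eq_same]
  exact DFunLike.congr_fun h a

/-- The algebra of the attractor is symmetric over the algebra of the attractor of units. -/
theorem exists_symmetricAlgebra [AddGroup.FG M] [Algebra.FormallySmooth R A] [Algebra.FiniteType R A]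
    {B' : Type u} [CommRing B'] [Algebra R B'] [Algebra B' (A ⧸ 𝒜.ideal N)] [IsScalarTower R B' (A ⧸ 𝒜.ideal N)]
    (e : B' ≃ₐ[R] A ⧸ 𝒜.ideal (unitFace N))
    (he : ∀ b, algebraMap B' (A ⧸ 𝒜.ideal N) b = 𝒜.sec N (e b)) :
    ∃ (P : Type u) (_ : AddCommGroup P) (_ : Module B' P),
      Module.Finite B' P ∧ Module.Projective B' P ∧
        Nonempty (SymmetricAlgebra B' P ≃ₐ[B'] A ⧸ 𝒜.ideal N) := by
  classical
  have := 𝒜.formallySmooth_quotient N
  have : Algebra.FiniteType R (A ⧸ 𝒜.ideal N) :=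
    Algebra.FiniteType.of_surjective (Ideal.Quotient.mkₐ R _) Ideal.Quotient.mk_surjective
  let C := A ⧸ 𝒜.ideal N
  let π : C →ₐ[B'] B' :=
    { toRingHom := e.symm.toAlgHom.toRingHom.comp (𝒜.res N).toRingHom
      commutes' := fun b => by
        show e.symm (𝒜.res N (algebraMap B' C b)) = b
        rw [he, 𝒜.res_sec, AlgEquiv.symm_apply_apply] }
  -- degrees of the generators
  obtain ⟨t, ht⟩ := Algebra.FiniteType.out (R := R) (A := C)
  let deg : Finset N := t.biUnion fun x => (𝒜.cC N x).coeff.support.image Multiplicative.toAdd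
  let N' : AddSubmonoid M := AddSubmonoid.closure ((Subtype.val : N → M) '' deg)
  have hN'N : N' ≤ N := AddSubmonoid.closure_le.2 (by rintro _ ⟨n, -, rfl⟩; exact n.2)
  have hN' : N'.FG := ⟨deg.image Subtype.val, by rw [Finset.coe_image]⟩
  have hF : IsFace N' (N' ⊓ unitFace N) :=
    ⟨inf_le_left, fun x hx y hy hxy =>
      have h := (isFace_unitFace N).mem_of_add_mem x (hN'N hx) y (hN'N hy) hxy.2
      ⟨⟨hx, h.1⟩, ⟨hy, h.2⟩⟩⟩
  obtain ⟨d, hd⟩ := exists_face_weight hN' hF
  let j : MonoidAlgebra C (Multiplicative N') →ₐ[R] MonoidAlgebra C (Multiplicative N) :=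
    MonoidAlgebra.mapDomainAlgHom R C (AddMonoidHom.toMultiplicative (AddSubmonoid.inclusion hN'N))
  have hjinj : Function.Injective j := MonoidAlgebra.mapDomain_injective fun _ _ h =>
    Multiplicative.toAdd.injective (Subtype.ext (congrArg (fun z : Multiplicative N => (z.toAdd : M)) h))
  have hjr : ∀ x, 𝒜.cC N x ∈ j.range := by
    have : (⊤ : Subalgebra R C) ≤ j.range.comap (𝒜.cC N) := by
      rw [← ht]
      refine Algebra.adjoin_le fun x hx => ?_
      show 𝒜.cC N x ∈ j.range
      rw [← MonoidAlgebra.sum_single (𝒜.cC N x), Finsupp.sum]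
      refine Subalgebra.sum_mem _ fun n hn => ⟨MonoidAlgebra.single (Multiplicative.ofAdd
        ⟨n.toAdd, AddSubmonoid.subset_closure ⟨n.toAdd, Finset.mem_biUnion.2 ⟨x, hx,
          Finset.mem_image_of_mem _ hn⟩, rfl⟩⟩) ((𝒜.cC N x).coeff n), MonoidAlgebra.mapDomain_single⟩
    exact fun x => this trivial
  let eN' := AlgEquiv.ofInjective j hjinj
  let c' : C →ₐ[R] MonoidAlgebra C (Multiplicative N') :=
    eN'.symm.toAlgHom.comp ((𝒜.cC N).codRestrict _ hjr)
  have hc' : ∀ x, j (c' x) = 𝒜.cC N x := fun x => congrArg Subtype.val (eN'.apply_symm_apply ⟨_, hjr x⟩)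
  let w : Multiplicative N' →* Polynomial C :=
    { toFun := fun n => Polynomial.X ^ d n.toAdd
      map_one' := by simp
      map_mul' := fun a b => by simp [pow_add] }
  let δ : C →+* Polynomial C :=
    (MonoidAlgebra.lift C (Polynomial C) (Multiplicative N') w).toRingHom.comp c'.toRingHom
  -- homogeneous elements
  have hhom : ∀ (m : Multiplicative M) (y : A), 𝒜.c y = MonoidAlgebra.single m y →
      Ideal.Quotient.mk (𝒜.ideal N) y ≠ 0 → ∃ h : m.toAdd ∈ N',
        δ (Ideal.Quotient.mk _ y) = Polynomial.monomial (d ⟨m.toAdd, h⟩) (Ideal.Quotient.mk _ y) := by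
    intro m y hy hne
    have hm : m.toAdd ∈ N := by
      by_contra h
      exact hne (Ideal.Quotient.eq_zero_iff_mem.2 (𝒜.mem_ideal hy h))
    have e0 : j (c' (Ideal.Quotient.mk _ y)) =
        MonoidAlgebra.single (Multiplicative.ofAdd (⟨m.toAdd, hm⟩ : N)) (Ideal.Quotient.mk _ y) := by
      rw [hc', cC_mk, 𝒜.cN_homog N hy hm]
    have h' : m.toAdd ∈ N' := by
      by_contra h
      have h1 := congrArg (fun z => z.coeff (Multiplicative.ofAdd (⟨m.toAdd, hm⟩ : N))) e0
      simp only [MonoidAlgebra.coeff_single, Finsupp.single_eq_same] at h1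
      refine hne (h1.symm.trans ?_)
      refine Finsupp.mapDomain_of_notMem_range _ _ fun ⟨n, hn⟩ => h ?_
      rw [show m.toAdd = (n.toAdd : M) from (congrArg (fun z : Multiplicative N => (z.toAdd : M)) hn).symm]
      exact n.toAdd.2
    refine ⟨h', ?_⟩
    have e1 : c' (Ideal.Quotient.mk _ y) =
        MonoidAlgebra.single (Multiplicative.ofAdd (⟨m.toAdd, h'⟩ : N')) (Ideal.Quotient.mk _ y) := by
      apply hjinj
      rw [e0]
      simp only [j]
      erw [MonoidAlgebra.mapDomainAlgHom_apply, MonoidAlgebra.mapDomain_single]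
      rfl
    show MonoidAlgebra.lift C (Polynomial C) (Multiplicative N') w (c' (Ideal.Quotient.mk _ y)) = _
    rw [e1, MonoidAlgebra.lift_single]
    show _ • Polynomial.X ^ _ = _
    rw [Polynomial.smul_eq_C_mul, Polynomial.C_mul_X_pow_eq_monomial]
    rfl
  have ext : ∀ {D : Type u} [AddCommMonoid D] (f g : C →+ D),
      (∀ (m : Multiplicative M) (y : A), 𝒜.c y = MonoidAlgebra.single m y →
        Ideal.Quotient.mk (𝒜.ideal N) y ≠ 0 → f (Ideal.Quotient.mk _ y) = g (Ideal.Quotient.mk _ y)) → f = g := by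
    intro D _ f g h
    refine AddMonoidHom.ext fun x => ?_
    obtain ⟨a, rfl⟩ := Ideal.Quotient.mk_surjective x
    refine DFunLike.congr_fun (𝒜.hom_ext (f := f.comp (Ideal.Quotient.mk _).toAddMonoidHom)
      (g := g.comp (Ideal.Quotient.mk _).toAddMonoidHom) fun m y hy => ?_) a
    by_cases h0 : Ideal.Quotient.mk (𝒜.ideal N) y = 0
    · show f (Ideal.Quotient.mk _ y) = g (Ideal.Quotient.mk _ y)
      rw [h0, map_zero, map_zero]
    · exact h m y hy h0
  have hπ : ∀ x, algebraMap B' C (π x) = 𝒜.sec N (𝒜.res N x) := fun x => by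
    rw [he]
    exact congrArg (𝒜.sec N) (e.apply_symm_apply _)
  have hgr : PosGrading π δ := by
    have h0 : ∀ x, (δ x).coeff 0 = algebraMap B' C (π x) := by
      intro x
      rw [hπ]
      refine DFunLike.congr_fun (ext ((Polynomial.lcoeff C 0).toAddMonoidHom.comp δ.toAddMonoidHom)
        ((𝒜.sec N).comp (𝒜.res N)).toRingHom.toAddMonoidHom fun m y hy hne => ?_) x
      obtain ⟨h, e1⟩ := hhom m y hy hne
      show (δ (Ideal.Quotient.mk (𝒜.ideal N) y)).coeff 0 = 𝒜.sec N (𝒜.res N (Ideal.Quotient.mk (𝒜.ideal N) y))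
      rw [e1, Polynomial.coeff_monomial, res_mk, sec_mk]
      by_cases hm : m.toAdd ∈ unitFace N
      · rw [if_pos ((hd ⟨_, h⟩).2 ⟨h, hm⟩), 𝒜.proj_homog N hy hm]
      · rw [if_neg fun e => hm ((hd ⟨_, h⟩).1 e).2, 𝒜.proj_homog_of_not_mem N hy hm]
    have hidem : ∀ x k, δ ((δ x).coeff k) = Polynomial.monomial k ((δ x).coeff k) := by
      intro x k
      refine DFunLike.congr_fun (ext (δ.toAddMonoidHom.comp ((Polynomial.lcoeff C k).toAddMonoidHom.comp δ.toAddMonoidHom))
        ((Polynomial.monomial k).toAddMonoidHom.comp ((Polynomial.lcoeff C k).toAddMonoidHom.comp δ.toAddMonoidHom))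
        fun m y hy hne => ?_) x
      obtain ⟨h, e1⟩ := hhom m y hy hne
      show δ ((δ (Ideal.Quotient.mk (𝒜.ideal N) y)).coeff k) =
        Polynomial.monomial k ((δ (Ideal.Quotient.mk (𝒜.ideal N) y)).coeff k)
      rw [e1, Polynomial.coeff_monomial]
      split_ifs with hk
      · rw [e1, hk]
      · rw [map_zero, map_zero]
    refine ⟨h0, fun x => ?_, hidem, fun b => ?_⟩
    · refine DFunLike.congr_fun (ext ((Polynomial.evalRingHom (1 : C)).toAddMonoidHom.comp δ.toAddMonoidHom)
        (AddMonoidHom.id C) fun m y hy hne => ?_) x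
      obtain ⟨h, e1⟩ := hhom m y hy hne
      show (δ (Ideal.Quotient.mk (𝒜.ideal N) y)).eval 1 = _
      rw [e1, Polynomial.eval_monomial, one_pow, _root_.mul_one]
      rfl
    · have h1 := h0 (algebraMap B' C b)
      rw [AlgHom.commutes] at h1
      have h2 := hidem (algebraMap B' C b) 0
      rw [h1, Polynomial.monomial_zero_left] at h2
      exact h2
  exact hgr.exists_equiv_symmetricAlgebra (R := R)

end Coact

end Groth.L11.Magnet
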