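import Groth.Agent.L11.Magnet.Subgroup
import Groth.Agent.L11.Magnet.Pts
import Groth.Agent.L20.SchDesc.Cov
import Mathlib.Algebra.Group.Subgroup.Map

/-!
Change of group for attractors.
-/

set_option autoImplicit false
universe u

open CategoryTheory CategoryTheory.Limits MonoidalCategory CartesianMonoidalCategory MonObj AlgebraicGeometry Opposite

set_option backward.isDefEq.respectTransparency.types false

noncomputable section

namespace Groth.L11.Magnet

open _root_.Magnet

variable {M Z : Type} [AddCommGroup M] [AddCommGroup Z] (f : M →+ Z) (Y : AddSubmonoid Z)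

/-- The restriction of the homomorphism. -/
abbrev resHom : (Y.comap f) →+ Y := (f.comp (Y.comap f).subtype).codRestrict Y (fun x => x.2)

/-- The graph of the homomorphism on the preimage. -/
abbrev graphMon : (Y.comap f) →+ M × Y := (Y.comap f).subtype.prod (resHom f Y)

variable (hY : Y ≤ AddMonoidHom.mrange f)

include hY in
/-- The algebra of the product is free over the algebra of the preimage. -/
theorem faithfullyFlat_mapDomain_graph (R : Type u) [CommRing R] [Nontrivial R] :
    (MonoidAlgebra.mapDomainRingHom R (AddMonoidHom.toMultiplicative (graphMon f Y))).FaithfullyFlat := by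
  classical
  let C := MonoidAlgebra R (Multiplicative (Y.comap f))
  let D := MonoidAlgebra R (Multiplicative (M × Y))
  let F : C →+* D := MonoidAlgebra.mapDomainRingHom R (AddMonoidHom.toMultiplicative (graphMon f Y))
  let : Algebra C D := F.toAlgebra
  show Module.FaithfullyFlat C D
  let rep : f.range → M := fun c => c.2.choose
  have hrep : ∀ c, f (rep c) = c := fun c => c.2.choose_spec
  let cls : M × Y → f.range := fun p => ⟨f p.1 - p.2, by
    obtain ⟨x, hx⟩ := hY p.2.2
    exact ⟨p.1 - x, by rw [map_sub, hx]⟩⟩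
  have hcls : ∀ p : M × Y, f (p.1 - rep (cls p)) = p.2 := fun p => by
    rw [map_sub, hrep]
    exact sub_sub_cancel _ _
  let z₀ : M × Y → Multiplicative (Y.comap f) := fun p =>
    Multiplicative.ofAdd ⟨p.1 - rep (cls p), by rw [AddSubmonoid.mem_comap, hcls]; exact p.2.2⟩
  have hcls' : ∀ (n : Y.comap f) (c : f.range), cls (graphMon f Y n + (rep c, 0)) = c := fun n c => by
    apply Subtype.ext
    show f ((n : M) + rep c) - ((f (n : M) : Z) + 0) = c
    rw [map_add, hrep]
    abel
  let Φ : (f.range →₀ C) →ₗ[C] D :=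
    Finsupp.linearCombination C fun c => (MonoidAlgebra.single (Multiplicative.ofAdd (rep c, (0 : Y))) 1 : D)
  have hΦ : ∀ (c : f.range) (n : Multiplicative (Y.comap f)) (r : R),
      Φ (Finsupp.single c (MonoidAlgebra.single n r)) =
        MonoidAlgebra.single (Multiplicative.ofAdd (graphMon f Y n.toAdd + (rep c, 0))) r := by
    intro c n r
    rw [Finsupp.linearCombination_single, Algebra.smul_def]
    show F _ * _ = _
    rw [show F (MonoidAlgebra.single n r) = _ from MonoidAlgebra.mapDomain_single,
      MonoidAlgebra.single_mul_single, _root_.mul_one]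
    rfl
  let Ψ : D →+ (f.range →₀ C) :=
    (Finsupp.liftAddHom fun p : Multiplicative (M × Y) =>
      (Finsupp.singleAddHom (cls p.toAdd)).comp
        (MonoidAlgebra.singleAddHom (z₀ p.toAdd))).comp (MonoidAlgebra.coeffAddEquiv).toAddMonoidHom
  have hΨ : ∀ (p : Multiplicative (M × Y)) (r : R), Ψ (MonoidAlgebra.single p r) =
      Finsupp.single (cls p.toAdd) (MonoidAlgebra.single (z₀ p.toAdd) r) := by
    intro p r
    show Finsupp.liftAddHom _ (Finsupp.single p r) = _
    simp
  have h1 : ∀ x, Φ (Ψ x) = x := by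
    intro x
    induction x using MonoidAlgebra.induction_linear with
    | zero => simp
    | add x y hx hy => rw [map_add, map_add, hx, hy]
    | single p r =>
      rw [hΨ, hΦ]
      congr 1
      apply Multiplicative.toAdd.injective
      refine Prod.ext ?_ (Subtype.ext ?_)
      · exact sub_add_cancel _ _
      · show f (p.toAdd.1 - rep (cls p.toAdd)) + 0 = _
        rw [hcls, add_zero]
  have h2 : ∀ x, Ψ (Φ x) = x := by
    intro x
    induction x using Finsupp.induction_linear with
    | zero => simp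
    | add x y hx hy => rw [map_add, map_add, hx, hy]
    | single c y =>
      induction y using MonoidAlgebra.induction_linear with
      | zero => simp
      | add x y hx hy => rw [Finsupp.single_add, map_add, map_add, hx, hy]
      | single n r =>
        rw [hΦ, hΨ, toAdd_ofAdd, hcls']
        congr 2
        apply Multiplicative.toAdd.injective
        apply Subtype.ext
        show (n.toAdd : M) + rep c - rep (cls (graphMon f Y n.toAdd + (rep c, 0))) = n.toAdd
        rw [hcls']
        abel
  let E : (f.range →₀ C) ≃ₗ[C] D := LinearEquiv.ofBijective Φ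
    ⟨Function.LeftInverse.injective h2, Function.RightInverse.surjective h1⟩
  have : Nonempty f.range := ⟨0⟩
  exact Module.FaithfullyFlat.of_linearEquiv _ _ E.symm

variable {S : Scheme.{u}}

/-- Products of monoid schemes. -/
def prodMonIso (M N : Type) [AddCommMonoid M] [AddCommMonoid N] :
    AMonS S M ⊗ AMonS S N ≅ AMonS S (M × N) where
  hom := MPts.pt
    (((MPts.char (fst (AMonS S M) (AMonS S N))).comp (AddMonoidHom.toMultiplicative (AddMonoidHom.fst M N))) *
      ((MPts.char (snd (AMonS S M) (AMonS S N))).comp (AddMonoidHom.toMultiplicative (AddMonoidHom.snd M N))))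
  inv := lift (AMonS.map S (AddMonoidHom.inl M N)) (AMonS.map S (AddMonoidHom.inr M N))
  hom_inv_id := by
    apply CartesianMonoidalCategory.hom_ext
    · rw [Category.assoc, lift_fst, Category.id_comp]
      apply MPts.char_injective
      refine MonoidHom.ext fun m => ?_
      rw [MPts.char_map, MPts.char_pt, MonoidHom.mul_apply, MonoidHom.comp_apply, MonoidHom.comp_apply]
      exact (congrArg₂ (· * ·) rfl (map_one _)).trans (_root_.mul_one _)
    · rw [Category.assoc, lift_snd, Category.id_comp]
      apply MPts.char_injective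
      refine MonoidHom.ext fun m => ?_
      rw [MPts.char_map, MPts.char_pt, MonoidHom.mul_apply, MonoidHom.comp_apply, MonoidHom.comp_apply]
      exact (congrArg₂ (· * ·) (map_one _) rfl).trans (_root_.one_mul _)
  inv_hom_id := by
    apply MPts.char_injective
    refine MonoidHom.ext fun p => ?_
    rw [MPts.char_comp, MPts.char_pt, MonoidHom.mul_apply, map_mul, MonoidHom.comp_apply, MonoidHom.comp_apply,
      ← MPts.char_comp, ← MPts.char_comp, lift_fst, lift_snd, ← Category.id_comp (AMonS.map S (AddMonoidHom.inl M N)),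
      ← Category.id_comp (AMonS.map S (AddMonoidHom.inr M N)), MPts.char_map, MPts.char_map, ← map_mul]
    congr 1
    apply Multiplicative.toAdd.injective
    exact Prod.ext (add_zero _) (zero_add _)

/-- The cover of the monoid scheme of the preimage. -/
def cover : AMonS S M ⊗ AMonS S Y ⟶ AMonS S (Y.comap f) :=
  (prodMonIso M Y).hom ≫ AMonS.map S (graphMon f Y)

theorem lift_cover {T : Over S} (g : T ⟶ AMonS S M) (y : T ⟶ AMonS S Y) :
    lift g y ≫ cover f Y = lift g (y ≫ AMonS.map S (resHom f Y)) ≫ (subAct S M (Y.comap f)).act := by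
  apply MPts.char_injective
  refine MonoidHom.ext fun n => ?_
  rw [cover, ← Category.assoc, MPts.char_map, MPts.char_comp, prodMonIso, MPts.char_pt, subAct,
    MonAct.lift_restrict_act, MonAct.lift_regular_act, MPts.char_mul, MonoidHom.mul_apply, MonoidHom.mul_apply,
    map_mul, MonoidHom.comp_apply, MonoidHom.comp_apply, ← MPts.char_comp, ← MPts.char_comp, lift_fst, lift_snd,
    MPts.char_map, MPts.char_map]
  rfl

include hY in
theorem props_cover (T : Over S) :
    Flat (cover f Y ▷ T).left ∧ Surjective (cover f Y ▷ T).left ∧ QuasiCompact (cover f Y ▷ T).left := by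
  have h := faithfullyFlat_mapDomain_graph f Y hY (ULift.{u} ℤ)
  obtain ⟨hf, hs, hq⟩ : Flat (AMon.map (ULift.{u} ℤ) (graphMon f Y)).left ∧
      Surjective (AMon.map (ULift.{u} ℤ) (graphMon f Y)).left ∧
      QuasiCompact (AMon.map (ULift.{u} ℤ) (graphMon f Y)).left := by
    rw [AMon.map_left]
    obtain ⟨h1, h2⟩ := (flat_and_surjective_SpecMap_iff (CommRingCat.ofHom
      (MonoidAlgebra.mapDomainRingHom (ULift.{u} ℤ) (AddMonoidHom.toMultiplicative (graphMon f Y))))).2 h
    have hq : QuasiCompact (Spec.map (CommRingCat.ofHom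
        (MonoidAlgebra.mapDomainRingHom (ULift.{u} ℤ) (AddMonoidHom.toMultiplicative (graphMon f Y))))) :=
      inferInstance
    exact ⟨h1, h2, hq⟩
  have key : ∀ (P : MorphismProperty Scheme.{u}) [P.IsStableUnderBaseChange] [P.RespectsIso],
      P (AMon.map (ULift.{u} ℤ) (graphMon f Y)).left → P (cover f Y ▷ T).left := by
    intro P _ _ hP
    refine whiskerRight_left_of _ _ P ?_
    rw [cover, Over.comp_left]
    have : IsIso (prodMonIso (S := S) M Y).hom.left :=
      inferInstanceAs (IsIso ((Over.forget S).map (prodMonIso (S := S) M Y).hom))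
    exact (MorphismProperty.cancel_left_of_respectsIso P _ _).2 (pullback_map_left_of _ _ P hP)
  exact ⟨key @Flat hf, key @Surjective hs, key @QuasiCompact hq⟩

include hY in
theorem epi_cover (T : Over S) : Epi (cover f Y ▷ T) := by
  obtain ⟨hf, hs, -⟩ := props_cover (S := S) f Y hY T
  have : Epi (cover f Y ▷ T).left := Flat.epi_of_flat_of_surjective _
  exact Over.epi_of_epi_left _

include hY in
/-- Points with the same image differ locally by a point of the larger group. -/
theorem cover_fibre {T : Over S} (g₁ g₂ : T ⟶ AMonS S M) (y₁ y₂ : T ⟶ AMonS S Y)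
    (e : lift g₁ y₁ ≫ cover f Y = lift g₂ y₂ ≫ cover f Y) :
    ∃ (T' : Over S) (u : T' ⟶ T) (h : T' ⟶ AMonS S Z), Epi u ∧ u ≫ g₁ = (u ≫ g₂) * (h ≫ AMonS.map S f) ∧
      lift h (u ≫ y₁) ≫ (subAct S Z Y).act = u ≫ y₂ := by
  classical
  have hchar : ∀ n : Y.comap f,
      MPts.char g₁ (Multiplicative.ofAdd (n : M)) * MPts.char y₁ (Multiplicative.ofAdd (resHom f Y n)) =
        MPts.char g₂ (Multiplicative.ofAdd (n : M)) * MPts.char y₂ (Multiplicative.ofAdd (resHom f Y n)) := by
    intro n
    have h := DFunLike.congr_fun (congrArg MPts.char e) (Multiplicative.ofAdd n)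
    simp only [lift_cover, subAct, MonAct.lift_restrict_act, MonAct.lift_regular_act, MPts.char_mul,
      MonoidHom.mul_apply, MPts.char_map] at h
    exact h
  let d : Multiplicative M →* Γ(T.left, ⊤) :=
    MPts.char g₁ * (MPts.char g₂).comp (invMonoidHom : Multiplicative M →* Multiplicative M)
  have hdm : ∀ m : Multiplicative M, MPts.char g₂ m * d m = MPts.char g₁ m := by
    intro m
    show MPts.char g₂ m * (MPts.char g₁ m * MPts.char g₂ m⁻¹) = _
    rw [mul_left_comm, ← map_mul, mul_inv_cancel, map_one, _root_.mul_one]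
  have hdn : ∀ n : Y.comap f, d (Multiplicative.ofAdd (n : M)) * MPts.char y₁ (Multiplicative.ofAdd (resHom f Y n)) =
      MPts.char y₂ (Multiplicative.ofAdd (resHom f Y n)) := by
    intro n
    show MPts.char g₁ _ * MPts.char g₂ (Multiplicative.ofAdd (n : M))⁻¹ * _ = _
    rw [mul_right_comm, hchar, mul_right_comm, ← map_mul, mul_inv_cancel, map_one, _root_.one_mul]
  have hker : ∀ m : M, f m = 0 → d (Multiplicative.ofAdd m) = 1 := by
    intro m hm
    have h := hdn ⟨m, by rw [AddSubmonoid.mem_comap, hm]; exact Y.zero_mem⟩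
    rw [show resHom f Y ⟨m, _⟩ = 0 from Subtype.ext hm, ofAdd_zero, map_one, map_one, _root_.mul_one] at h
    exact h
  have hwd : ∀ m m' : M, f m = f m' → d (Multiplicative.ofAdd m) = d (Multiplicative.ofAdd m') := by
    intro m m' h
    rw [show Multiplicative.ofAdd m = Multiplicative.ofAdd (m - m') * Multiplicative.ofAdd m' by
      rw [← ofAdd_add, sub_add_cancel], map_mul, hker _ (by rw [map_sub, h, sub_self]), _root_.one_mul]
  let χ : Multiplicative f.range.toAddSubmonoid →* Γ(T.left, ⊤) :=
    { toFun := fun z => d (Multiplicative.ofAdd (z.toAdd.2).choose)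
      map_one' := (hwd _ 0 (by rw [map_zero]; exact (0 : f.range).2.choose_spec)).trans (map_one d)
      map_mul' := fun a b => by
        rw [← map_mul, ← ofAdd_add]
        refine hwd _ _ ?_
        rw [map_add, a.toAdd.2.choose_spec, b.toAdd.2.choose_spec]
        exact ((a * b).toAdd.2).choose_spec }
  let hP : T ⟶ AMonS S f.range.toAddSubmonoid := MPts.pt χ
  let p := AMonS.map S f.range.toAddSubmonoid.subtype
  obtain ⟨hf, hs, -⟩ := props_map_subgroup.{u} f.range
  have hpf : Flat p.left := pullback_map_left_of _ _ @Flat hf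
  have hps : Surjective p.left := pullback_map_left_of _ _ @Surjective hs
  let T' : Over S := Over.mk (pullback.fst hP.left p.left ≫ T.hom)
  let u : T' ⟶ T := Over.homMk (pullback.fst hP.left p.left) rfl
  let h : T' ⟶ AMonS S Z := Over.homMk (pullback.snd hP.left p.left) (by
    show pullback.snd hP.left p.left ≫ _ = pullback.fst hP.left p.left ≫ T.hom
    rw [← Over.w hP, ← Over.w p, pullback.condition_assoc])
  have hu : u ≫ hP = h ≫ p := Over.OverMorphism.ext pullback.condition
  refine ⟨T', u, h, ?_, ?_, ?_⟩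
  · have : Flat u.left := inferInstanceAs (Flat (pullback.fst hP.left p.left))
    have : Surjective u.left := inferInstanceAs (Surjective (pullback.fst hP.left p.left))
    have : Epi u.left := Flat.epi_of_flat_of_surjective _
    exact Over.epi_of_epi_left _
  · apply MPts.char_injective
    refine MonoidHom.ext fun m => ?_
    rw [MPts.char_mul, MonoidHom.mul_apply, MPts.char_map, MPts.char_comp, MPts.char_comp]
    have := DFunLike.congr_fun (congrArg MPts.char hu) (Multiplicative.ofAdd ⟨f m.toAdd, m.toAdd, rfl⟩)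
    rw [MPts.char_map, MPts.char_comp, MPts.char_pt] at this
    refine Eq.trans ?_ (congrArg _ this)
    rw [← map_mul]
    congr 1
    refine (hdm m).symm.trans (congrArg _ (hwd _ _ ?_))
    exact (((⟨f m.toAdd, m.toAdd, rfl⟩ : f.range).2).choose_spec).symm
  · apply MPts.char_injective
    refine MonoidHom.ext fun y => ?_
    obtain ⟨n, hn⟩ := hY y.toAdd.2
    rw [subAct, MonAct.lift_restrict_act, MonAct.lift_regular_act, MPts.char_mul, MonoidHom.mul_apply, MPts.char_map,
      MPts.char_comp, MPts.char_comp]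
    have := DFunLike.congr_fun (congrArg MPts.char hu) (Multiplicative.ofAdd ⟨f n, n, rfl⟩)
    rw [MPts.char_map, MPts.char_comp, MPts.char_pt] at this
    let n' : Y.comap f := ⟨n, by rw [AddSubmonoid.mem_comap, hn]; exact y.toAdd.2⟩
    have hy : Multiplicative.ofAdd (resHom f Y n') = y := congrArg Multiplicative.ofAdd (Subtype.ext hn)
    rw [show AddMonoidHom.toMultiplicative Y.subtype y =
      AddMonoidHom.toMultiplicative f.range.toAddSubmonoid.subtype (Multiplicative.ofAdd ⟨f n, n, rfl⟩) from
        congrArg Multiplicative.ofAdd hn.symm, ← this, ← map_mul]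
    congr 1
    conv_rhs => rw [← hy, ← hdn n']
    rw [← hy]
    refine congrArg (· * _) (hwd _ _ ?_)
    exact ((⟨f n, n, rfl⟩ : f.range).2).choose_spec

variable {X : Over S} (a : MonAct (AMonS S M) X)

theorem cover_attrComap {T : Over S} (φ : (attr a (Y.comap f)).obj (op T)) {T' : Over S} (g : T' ⟶ AMonS S M)
    (y : T' ⟶ AMonS S Y) (t : T' ⟶ T) :
    lift (lift g y ≫ cover f Y) t ≫ φ.1 = lift g (lift y t ≫ ((attrComap a f Y).app (op T) φ).1) ≫ a.act := by
  have h := (MonAct.mem_eqvHom_iff φ.1).1 φ.2 T' g (y ≫ AMonS.map S (resHom f Y)) t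
  refine (congrArg (fun w => lift w t ≫ φ.1) (lift_cover f Y g y)).trans (h.trans ?_)
  rw [attrComap_app_coe, lift_whiskerRight_assoc]

include hY in
/-- The change of group of attractors is an isomorphism. -/
theorem isIso_attrComap_group : IsIso (attrComap a f Y) := by
  suffices h : ∀ T, IsIso ((attrComap a f Y).app T) from NatIso.isIso_of_isIso_app _
  rintro ⟨T⟩
  rw [CategoryTheory.isIso_iff_bijective]
  obtain ⟨hf, hs, hq⟩ := props_cover (S := S) f Y hY T
  have := epi_cover (S := S) f Y hY T
  refine ⟨fun φ φ' e => Subtype.ext ((cancel_epi (cover f Y ▷ T)).1 ?_), fun ψ => ?_⟩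
  · apply _root_.Magnet.hom_ext_lift₂
    intro T' p t
    rw [lift_whiskerRight_assoc, lift_whiskerRight_assoc, ← lift_comp_fst_snd p, cover_attrComap, cover_attrComap, e]
  · let o : (AMonS S M ⊗ AMonS S Y) ⊗ T ⟶ X :=
      lift (fst _ _ ≫ fst _ _) (lift (fst _ _ ≫ snd _ _) (snd _ _) ≫ ψ.1) ≫ a.act
    have ho : ∀ (T' : Over S) (g : T' ⟶ AMonS S M) (y : T' ⟶ AMonS S Y) (t : T' ⟶ T),
        lift (lift g y) t ≫ o = lift g (lift y t ≫ ψ.1) ≫ a.act := fun T' g y t => by
      simp [o, comp_lift_assoc]
    let p := cover f Y ▷ T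
    have hinv : ∀ (T' : Over S) (q₁ q₂ : T' ⟶ (AMonS S M ⊗ AMonS S Y) ⊗ T), q₁ ≫ p = q₂ ≫ p → q₁ ≫ o = q₂ ≫ o := by
      intro T' q₁ q₂ e
      have e1 := congrArg (· ≫ fst _ _) e
      have e2 := congrArg (· ≫ snd _ _) e
      simp only [p, Category.assoc, whiskerRight_fst, whiskerRight_snd] at e1 e2
      rw [← lift_comp_fst_snd q₁, ← lift_comp_fst_snd q₂, e2, ← lift_comp_fst_snd (q₁ ≫ fst _ _),
        ← lift_comp_fst_snd (q₂ ≫ fst _ _), ho, ho]
      generalize q₂ ≫ snd _ _ = t
      obtain ⟨T'', u, h, hu, hg, hy⟩ := cover_fibre f Y hY ((q₁ ≫ fst _ _) ≫ fst _ _) ((q₂ ≫ fst _ _) ≫ fst _ _)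
        ((q₁ ≫ fst _ _) ≫ snd _ _) ((q₂ ≫ fst _ _) ≫ snd _ _) (by
          rw [← comp_lift, ← comp_lift, lift_fst_snd, Category.comp_id, Category.comp_id, Category.assoc,
            Category.assoc, e1])
      rw [← cancel_epi u]
      simp only [comp_lift_assoc, comp_lift]
      rw [hg, ← hy, MonAct.lift_mul_act, ← MonAct.lift_restrict_act (AMonS.map S f) a,
        ← (MonAct.mem_eqvHom_iff ψ.1).1 ψ.2]
    have : Groth.L20.SchDesc.Cov p.left := by
      have : Flat p.left := hf
      have : Surjective p.left := hs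
      have : QuasiCompact p.left := hq
      infer_instance
    obtain ⟨m, hm⟩ := Groth.L20.SchDesc.Cov.exists_desc (p := p.left) o.left fun {T'} g₁ g₂ e => by
      let G₁ : Over.mk (g₁ ≫ ((AMonS S M ⊗ AMonS S Y) ⊗ T).hom) ⟶ (AMonS S M ⊗ AMonS S Y) ⊗ T :=
        Over.homMk g₁ rfl
      let G₂ : Over.mk (g₁ ≫ ((AMonS S M ⊗ AMonS S Y) ⊗ T).hom) ⟶ (AMonS S M ⊗ AMonS S Y) ⊗ T :=
        Over.homMk g₂ (by
          show g₂ ≫ _ = g₁ ≫ _
          rw [← Over.w p, reassoc_of% e])
      exact congrArg CommaMorphism.left (hinv _ G₁ G₂ (Over.OverMorphism.ext e))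
    have : Epi p.left := (have : Flat p.left := hf; have : Surjective p.left := hs; Flat.epi_of_flat_of_surjective p.left)
    let φ : AMonS S (Y.comap f) ⊗ T ⟶ X := Over.homMk m (by
      rw [← cancel_epi p.left, ← Category.assoc, hm, Over.w p]
      exact Over.w o)
    have hφ : p ≫ φ = o := Over.OverMorphism.ext hm
    have hp : ∀ (T' : Over S) (g : T' ⟶ AMonS S M) (y : T' ⟶ AMonS S Y) (t : T' ⟶ T),
        lift (lift g y ≫ cover f Y) t ≫ φ = lift g (lift y t ≫ ψ.1) ≫ a.act := fun T' g y t => by
      rw [← ho, ← hφ, lift_whiskerRight_assoc]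
    have hφe : MonAct.IsEquivariant ((subAct S M (Y.comap f)).prod (MonAct.trivial (AMonS S M) T)) a φ := by
      rw [MonAct.mem_eqvHom_iff]
      let N := Y.comap f
      let ψ₁ : AMonS S N ⊗ (AMonS S M ⊗ T) ⟶ X :=
        lift (lift (snd _ _ ≫ fst _ _) (fst _ _) ≫ (subAct S M N).act) (snd _ _ ≫ snd _ _) ≫ φ
      let ψ₂ : AMonS S N ⊗ (AMonS S M ⊗ T) ⟶ X :=
        lift (snd _ _ ≫ fst _ _) (lift (fst _ _) (snd _ _ ≫ snd _ _) ≫ φ) ≫ a.act
      have hψ : ψ₁ = ψ₂ := by
        have := epi_cover (S := S) f Y hY (AMonS S M ⊗ T)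
        refine (cancel_epi (cover f Y ▷ (AMonS S M ⊗ T))).1 ?_
        apply _root_.Magnet.hom_ext_lift₂
        intro T' k q
        rw [← lift_comp_fst_snd k, lift_whiskerRight_assoc, lift_whiskerRight_assoc]
        simp only [ψ₁, ψ₂, N, comp_lift_assoc, comp_lift, lift_fst, lift_snd, lift_fst_assoc, lift_snd_assoc]
        generalize k ≫ fst _ _ = h
        generalize k ≫ snd _ _ = y
        generalize q ≫ fst _ _ = g
        generalize q ≫ snd _ _ = t
        have e : lift g (lift h y ≫ cover f Y) ≫ (subAct S M (Y.comap f)).act = lift (g * h) y ≫ cover f Y := by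
          rw [lift_cover f Y h y, lift_cover f Y (g * h) y, MonAct.lift_mul_act]
        rw [e, hp, hp, MonAct.lift_mul_act]
      intro T' g b t
      have := congrArg (lift b (lift g t) ≫ ·) hψ
      simpa [ψ₁, ψ₂, N, comp_lift_assoc] using this
    refine ⟨⟨φ, hφe⟩, Subtype.ext ?_⟩
    apply _root_.Magnet.hom_ext_lift₂
    intro T' y t
    have h1 := hp T' 1 y t
    have e : lift (1 : T' ⟶ AMonS S M) y ≫ cover f Y = y ≫ AMonS.map S (resHom f Y) := by
      rw [lift_cover f Y (1 : T' ⟶ AMonS S M) y, MonAct.lift_one_act]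
    rw [e, MonAct.lift_one_act] at h1
    rw [attrComap_app_coe, lift_whiskerRight_assoc]
    exact h1

end Groth.L11.Magnet
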