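import Groth.Agent.L11.Magnet.Chart
import Mathlib.AlgebraicGeometry.Morphisms.ClosedImmersion
import Mathlib.AlgebraicGeometry.Cover.Open

/-!
Morphisms from monoid schemes to separated schemes are determined on dominant monoid schemes.
-/

set_option autoImplicit false
universe u

open CategoryTheory CategoryTheory.Limits MonoidalCategory CartesianMonoidalCategory MonObj AlgebraicGeometry Opposite

set_option backward.isDefEq.respectTransparency.types false

noncomputable section

namespace Groth.L11.Magnet

variable {S : Scheme.{u}}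

/-- Morphisms out of a product are determined on affine opens of the second factor. -/
theorem tensor_hom_ext {A T X : Over S} {φ φ' : A ⊗ T ⟶ X}
    (h : ∀ (R : Type u) [CommRing R] (t : Spec (CommRingCat.of R) ⟶ T.left) [IsOpenImmersion t],
      (A ◁ (Over.homMk t rfl : Over.mk (t ≫ T.hom) ⟶ T)) ≫ φ =
        (A ◁ (Over.homMk t rfl : Over.mk (t ≫ T.hom) ⟶ T)) ≫ φ') : φ = φ' := by
  apply Over.OverMorphism.ext
  refine Scheme.Cover.hom_ext (T.left.affineCover.pullback₁ (snd A T).left) _ _ fun i => ?_
  let t := T.left.affineCover.f i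
  have : IsOpenImmersion t := T.left.affineCover.map_prop i
  let Ti : Over S := Over.mk (t ≫ T.hom)
  let j : Ti ⟶ T := Over.homMk t rfl
  let Q : Over S := Over.mk (pullback.fst (snd A T).left t ≫ (A ⊗ T).hom)
  let p : Q ⟶ A ⊗ T := Over.homMk (pullback.fst (snd A T).left t) rfl
  let q : Q ⟶ Ti := Over.homMk (pullback.snd (snd A T).left t) (by
    show pullback.snd (snd A T).left t ≫ t ≫ T.hom = _
    rw [← Category.assoc, ← pullback.condition, Category.assoc, Over.w (snd A T)]
    rfl)
  have hp : lift (p ≫ fst A T) q ≫ (A ◁ j) = p := by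
    apply CartesianMonoidalCategory.hom_ext
    · simp
    · rw [Category.assoc, whiskerLeft_snd, lift_snd_assoc]
      exact Over.OverMorphism.ext pullback.condition.symm
  show p.left ≫ φ.left = p.left ≫ φ'.left
  rw [← Over.comp_left, ← Over.comp_left, ← hp, Category.assoc, Category.assoc,
    show (A ◁ j) ≫ φ = (A ◁ j) ≫ φ' from @h _ _ t this]

theorem eq_of_dominant {B C : Type u} [CommRing B] [CommRing C] {Y Z : Scheme.{u}} (F : B →+* C)
    (hF : Function.Injective F) (p : Y ⟶ Z) [IsSeparated p] (g g' : Spec (CommRingCat.of B) ⟶ Y)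
    (hw : g ≫ p = g' ≫ p)
    (h : Spec.map (CommRingCat.ofHom F) ≫ g = Spec.map (CommRingCat.ofHom F) ≫ g') : g = g' := by
  let d := pullback.diagonal p
  let w := pullback.lift g g' hw
  let i := pullback.fst w d
  let j : Spec (CommRingCat.of C) ⟶ pullback w d :=
    pullback.lift (Spec.map (CommRingCat.ofHom F)) (Spec.map (CommRingCat.ofHom F) ≫ g) (by
      apply pullback.hom_ext
      · simp only [w, d, Category.assoc, pullback.lift_fst, pullback.diagonal_fst, Category.comp_id]
      · simp only [w, d, Category.assoc, pullback.lift_snd, pullback.diagonal_snd, Category.comp_id]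
        exact h.symm)
  have hj : j ≫ i = Spec.map (CommRingCat.ofHom F) := pullback.lift_fst _ _ _
  have : IsClosedImmersion i := inferInstance
  have : IsAffine (pullback w d) := isAffine_of_isAffineHom i
  have hsur : Function.Surjective i.appTop := i.app_surjective ⊤ (isAffineOpen_top _)
  have hinj : Function.Injective i.appTop := by
    have e : Function.Injective (j ≫ i).appTop := by
      rw [hj]
      intro x y hxy
      apply (Scheme.ΓSpecIso (CommRingCat.of B)).commRingCatIsoToRingEquiv.injective
      apply hF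
      have hnat := fun z => congrArg (fun ψ => (ConcreteCategory.hom ψ) z)
        (Scheme.ΓSpecIso_naturality (CommRingCat.ofHom F))
      exact ((hnat x).symm.trans (congrArg (fun z => (Scheme.ΓSpecIso (CommRingCat.of C)).hom z) hxy)).trans (hnat y)
    intro x y hxy
    refine e ?_
    rw [Scheme.Hom.comp_appTop]
    exact congrArg (fun z => j.appTop z) hxy
  have : IsIso i.appTop := (ConcreteCategory.isIso_iff_bijective _).2 ⟨hinj, hsur⟩
  have : IsIso (i ≫ (Spec (CommRingCat.of B)).toSpecΓ) := by
    rw [Scheme.toSpecΓ_naturality]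
    infer_instance
  have : IsIso i := IsIso.of_isIso_comp_right i (Spec (CommRingCat.of B)).toSpecΓ
  have e := pullback.condition (f := w) (g := d)
  have e1 : i ≫ g = pullback.snd w d := by
    have := congrArg (· ≫ pullback.fst p p) e
    simp only [w, d, Category.assoc, pullback.diagonal_fst, Category.comp_id] at this
    erw [pullback.lift_fst] at this
    exact this
  have e2 : i ≫ g' = pullback.snd w d := by
    have := congrArg (· ≫ pullback.snd p p) e
    simp only [w, d, Category.assoc, pullback.diagonal_snd, Category.comp_id] at this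
    erw [pullback.lift_snd] at this
    exact this
  exact (cancel_epi i).1 (e1.trans e2.symm)

variable {M N : Type} [AddCommMonoid M] [AddCommMonoid N]

/-- Morphisms to separated schemes agreeing on a dominant monoid scheme agree. -/
theorem cancel_map (f : N →+ M) (hf : Function.Injective f) {T X : Over S} [IsSeparated X.hom]
    {φ φ' : Magnet.AMonS S N ⊗ T ⟶ X}
    (h : (Magnet.AMonS.map S f ▷ T) ≫ φ = (Magnet.AMonS.map S f ▷ T) ≫ φ') : φ = φ' := by
  refine tensor_hom_ext fun R _ t _ => ?_
  let j : Over.mk (t ≫ T.hom) ⟶ T := Over.homMk t rfl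
  let κN := algebraMap R (MonoidAlgebra R (Multiplicative N))
  let κM := algebraMap R (MonoidAlgebra R (Multiplicative M))
  let χN : Multiplicative N →* MonoidAlgebra R (Multiplicative N) := MonoidAlgebra.of R (Multiplicative N)
  let χM : Multiplicative M →* MonoidAlgebra R (Multiplicative M) := MonoidAlgebra.of R (Multiplicative M)
  have := chart_isIso (t ≫ T.hom) κN χN (isMonAlg_monoidAlgebra R)
  rw [← cancel_epi (chart (t ≫ T.hom) κN χN)]
  let F : MonoidAlgebra R (Multiplicative N) →+* MonoidAlgebra R (Multiplicative M) :=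
    MonoidAlgebra.mapDomainRingHom R (AddMonoidHom.toMultiplicative f)
  have hF : Function.Injective F := MonoidAlgebra.mapDomain_injective (fun a b e => hf e)
  have hFκ : F.comp κN = κM := RingHom.ext fun r => by simp [F, κN, κM]
  let d : chartObj (t ≫ T.hom) κM ⟶ chartObj (t ≫ T.hom) κN :=
    Over.homMk (Spec.map (CommRingCat.ofHom F)) (by
      show _ ≫ Spec.map _ ≫ _ = Spec.map (CommRingCat.ofHom κM) ≫ _
      rw [← Spec.map_comp_assoc, ← CommRingCat.ofHom_comp, hFκ])
  have hd : d ≫ chart (t ≫ T.hom) κN χN =
      chart (t ≫ T.hom) κM χM ≫ (Magnet.AMonS.map S f ▷ _) := by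
    apply CartesianMonoidalCategory.hom_ext
    · apply MPts.char_injective
      refine MonoidHom.ext fun n => ?_
      rw [Category.assoc, MPts.char_comp, chart_fst_char, Category.assoc, whiskerRight_fst, ← Category.assoc,
        MPts.char_map, chart_fst_char]
      refine (appTop_specMap F _).trans (congrArg _ ?_)
      exact MonoidAlgebra.mapDomain_single
    · rw [Category.assoc, Category.assoc, whiskerRight_snd, chart, chart, lift_snd, lift_snd]
      apply Over.OverMorphism.ext
      show Spec.map (CommRingCat.ofHom F) ≫ Spec.map _ = Spec.map (CommRingCat.ofHom κM)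
      rw [← Spec.map_comp, ← CommRingCat.ofHom_comp, hFκ]
  apply Over.OverMorphism.ext
  refine eq_of_dominant F hF X.hom _ _ ((Over.w _).trans (Over.w _).symm) ?_
  show d.left ≫ _ = d.left ≫ _
  simp only [← Over.comp_left, reassoc_of% hd]
  have e : ∀ ψ : Magnet.AMonS S N ⊗ T ⟶ X, (Magnet.AMonS.map S f ▷ Over.mk (t ≫ T.hom)) ≫
      (Magnet.AMonS S N ◁ j) ≫ ψ = (Magnet.AMonS S M ◁ j) ≫ (Magnet.AMonS.map S f ▷ T) ≫ ψ := fun ψ => by
    rw [← Category.assoc, ← Category.assoc, whisker_exchange]
  exact congrArg (fun z : _ ⟶ X => (chart (t ≫ T.hom) κM χM ≫ z).left) ((e φ).trans ((congrArg _ h).trans (e φ').symm))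

end Groth.L11.Magnet

namespace Groth.L11.Magnet

variable {S : Scheme.{u}} {M : Type} [AddCommMonoid M]

/-- On the image of the acting monoid scheme an element of the attractor is the orbit of its value at one. -/
theorem orbit_eq {X : Over S} {a : _root_.Magnet.MonAct (_root_.Magnet.AMonS S M) X} {N : AddSubmonoid M} {T : Over S}
    (φ : (_root_.Magnet.attr a N).obj (op T)) :
    (_root_.Magnet.AMonS.map S N.subtype ▷ T) ≫ φ.1 =
      (_root_.Magnet.AMonS S M ◁ ((_root_.Magnet.attrToX a N).app (op T) φ)) ≫ a.act := by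
  apply _root_.Magnet.hom_ext_lift₂
  intro T' g t
  rw [lift_whiskerRight_assoc, lift_whiskerLeft_assoc, _root_.Magnet.MonAct.eqvHom.evalAt_app]
  have h := (_root_.Magnet.MonAct.mem_eqvHom_iff φ.1).1 φ.2 T' g 1 t
  rw [show lift g (1 : T' ⟶ _root_.Magnet.AMonS S N) ≫ (_root_.Magnet.subAct S M N).act =
      g ≫ _root_.Magnet.AMonS.map S N.subtype by
    rw [_root_.Magnet.subAct, _root_.Magnet.MonAct.lift_restrict_act, _root_.Magnet.MonAct.lift_regular_act,
      _root_.mul_one]] at h
  refine h.trans (congrArg (fun z => lift g z ≫ a.act) ?_)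
  rw [comp_lift_assoc, Category.comp_id, Hom.one_def, ← Category.assoc t, comp_toUnit]

end Groth.L11.Magnet
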