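import Groth.Agent.L11.Magnet.Dom
import Mathlib.CategoryTheory.Limits.Types.Pullbacks

/-!
Factorisation of attractor points through closed subschemes.
-/

set_option autoImplicit false
universe u

open CategoryTheory CategoryTheory.Limits MonoidalCategory CartesianMonoidalCategory MonObj AlgebraicGeometry Opposite

set_option backward.isDefEq.respectTransparency.types false

noncomputable section

namespace Groth.L11.Magnet

open _root_.Magnet

variable {S : Scheme.{u}}

/-- Lifts along monomorphisms exist if they exist over affine opens of the second factor. -/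
theorem exists_lift_of_cover {A T X Z : Over S} (j : Z ⟶ X) [Mono j.left] (φ : A ⊗ T ⟶ X)
    (h : ∀ (R : Type u) [CommRing R] (t : Spec (CommRingCat.of R) ⟶ T.left) [IsOpenImmersion t],
      ∃ l, l ≫ j = (A ◁ (Over.homMk t rfl : Over.mk (t ≫ T.hom) ⟶ T)) ≫ φ) :
    ∃ l : A ⊗ T ⟶ Z, l ≫ j = φ := by
  let 𝒰 := T.left.affineCover.pullback₁ (snd A T).left
  have hl : ∀ i, ∃ l : 𝒰.X i ⟶ Z.left, l ≫ j.left = 𝒰.f i ≫ φ.left := fun i => by
    let t := T.left.affineCover.f i
    have : IsOpenImmersion t := T.left.affineCover.map_prop i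
    obtain ⟨l, hl⟩ := @h _ _ t this
    let Q : Over S := Over.mk (pullback.fst (snd A T).left t ≫ (A ⊗ T).hom)
    let p : Q ⟶ A ⊗ T := Over.homMk (pullback.fst (snd A T).left t) rfl
    let q : Q ⟶ Over.mk (t ≫ T.hom) := Over.homMk (pullback.snd (snd A T).left t) (by
      show pullback.snd (snd A T).left t ≫ t ≫ T.hom = _
      rw [← Category.assoc, ← pullback.condition, Category.assoc, Over.w (snd A T)]
      rfl)
    have hp : lift (p ≫ fst A T) q ≫ (A ◁ (Over.homMk t rfl : Over.mk (t ≫ T.hom) ⟶ T)) = p := by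
      apply CartesianMonoidalCategory.hom_ext
      · simp
      · rw [Category.assoc, whiskerLeft_snd, lift_snd_assoc]
        exact Over.OverMorphism.ext pullback.condition.symm
    refine ⟨(lift (p ≫ fst A T) q ≫ l).left, ?_⟩
    show _ = p.left ≫ φ.left
    exact congrArg CommaMorphism.left ((Category.assoc _ _ _).trans ((congrArg (_ ≫ ·) hl).trans
      ((Category.assoc _ _ _).symm.trans (congrArg (· ≫ φ) hp))))
  choose l hl using hl
  have hc : ∀ i k, pullback.fst (𝒰.f i) (𝒰.f k) ≫ l i = pullback.snd (𝒰.f i) (𝒰.f k) ≫ l k := fun i k => by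
    rw [← cancel_mono j.left, Category.assoc, Category.assoc, hl, hl, pullback.condition_assoc]
  refine ⟨Over.homMk (Scheme.Cover.glueMorphisms 𝒰 l hc) ?_, ?_⟩
  · refine Scheme.Cover.hom_ext 𝒰 _ _ fun i => ?_
    rw [← Category.assoc, Scheme.Cover.ι_glueMorphisms 𝒰 l hc i, ← Over.w j, ← Category.assoc, hl, Category.assoc, Over.w φ]
  · refine Over.OverMorphism.ext (Scheme.Cover.hom_ext 𝒰 _ _ fun i => ?_)
    show 𝒰.f i ≫ Scheme.Cover.glueMorphisms 𝒰 l hc ≫ j.left = _
    rw [← Category.assoc, Scheme.Cover.ι_glueMorphisms 𝒰 l hc i, hl]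

/-- Factor through a closed subscheme along an injective ring map. -/
theorem exists_factor_of_dominant {B C : Type u} [CommRing B] [CommRing C] {Y Z : Scheme.{u}} (F : B →+* C)
    (hF : Function.Injective F) (j : Z ⟶ Y) [IsClosedImmersion j] (g : Spec (CommRingCat.of B) ⟶ Y)
    (l : Spec (CommRingCat.of C) ⟶ Z) (hl : l ≫ j = Spec.map (CommRingCat.ofHom F) ≫ g) :
    ∃ g' : Spec (CommRingCat.of B) ⟶ Z, g' ≫ j = g := by
  let i := pullback.fst g j
  have e : pullback.lift (Spec.map (CommRingCat.ofHom F)) l hl.symm ≫ i = Spec.map (CommRingCat.ofHom F) :=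
    pullback.lift_fst _ _ _
  have hinj : Function.Injective i.appTop := by
    intro x y hxy
    apply (Scheme.ΓSpecIso (CommRingCat.of B)).commRingCatIsoToRingEquiv.injective
    apply hF
    have e' : (Spec.map (CommRingCat.ofHom F)).appTop x = (Spec.map (CommRingCat.ofHom F)).appTop y := by
      rw [← e, Scheme.Hom.comp_appTop]
      exact congrArg (fun z => Scheme.Hom.appTop (pullback.lift (Spec.map (CommRingCat.ofHom F)) l hl.symm) z) hxy
    have hnat := fun z => congrArg (fun ψ => (ConcreteCategory.hom ψ) z)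
      (Scheme.ΓSpecIso_naturality (CommRingCat.ofHom F))
    exact ((hnat x).symm.trans (congrArg (fun z => (Scheme.ΓSpecIso (CommRingCat.of C)).hom z) e')).trans (hnat y)
  have : IsIso i := IsClosedImmersion.isIso_of_injective_of_isAffine hinj
  exact ⟨inv i ≫ pullback.snd g j, by rw [Category.assoc, ← pullback.condition, IsIso.inv_hom_id_assoc]⟩

variable {M N : Type} [AddCommMonoid M] [AddCommMonoid N]

/-- Families factoring on a dominant monoid scheme factor. -/
theorem exists_factor_map (f : N →+ M) (hf : Function.Injective f) {T X Z : Over S} (j : Z ⟶ X)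
    [IsClosedImmersion j.left] (φ : AMonS S N ⊗ T ⟶ X) (l : AMonS S M ⊗ T ⟶ Z)
    (hl : l ≫ j = (AMonS.map S f ▷ T) ≫ φ) : ∃ φ', φ' ≫ j = φ := by
  refine exists_lift_of_cover j φ fun R _ t _ => ?_
  let s := t ≫ T.hom
  let jt : Over.mk s ⟶ T := Over.homMk t rfl
  let κN := algebraMap R (MonoidAlgebra R (Multiplicative N))
  let κM := algebraMap R (MonoidAlgebra R (Multiplicative M))
  let χN : Multiplicative N →* MonoidAlgebra R (Multiplicative N) := MonoidAlgebra.of R (Multiplicative N)
  let χM : Multiplicative M →* MonoidAlgebra R (Multiplicative M) := MonoidAlgebra.of R (Multiplicative M)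
  have := chart_isIso s κN χN (isMonAlg_monoidAlgebra R)
  let F : MonoidAlgebra R (Multiplicative N) →+* MonoidAlgebra R (Multiplicative M) :=
    MonoidAlgebra.mapDomainRingHom R (AddMonoidHom.toMultiplicative f)
  have hF : Function.Injective F := MonoidAlgebra.mapDomain_injective (fun a b e => hf e)
  have hFκ : F.comp κN = κM := RingHom.ext fun r => by simp [F, κN, κM]
  let d : chartObj s κM ⟶ chartObj s κN :=
    Over.homMk (Spec.map (CommRingCat.ofHom F)) (by
      show _ ≫ Spec.map _ ≫ _ = Spec.map (CommRingCat.ofHom κM) ≫ _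
      rw [← Spec.map_comp_assoc, ← CommRingCat.ofHom_comp, hFκ])
  have hd : d ≫ chart s κN χN = chart s κM χM ≫ (AMonS.map S f ▷ _) := by
    apply CartesianMonoidalCategory.hom_ext
    · apply MPts.char_injective
      refine MonoidHom.ext fun n => ?_
      rw [Category.assoc, MPts.char_comp, chart_fst_char, Category.assoc, whiskerRight_fst, ← Category.assoc,
        MPts.char_map, chart_fst_char]
      refine (appTop_specMap F _).trans (congrArg _ ?_)
      exact MonoidAlgebra.mapDomain_single
    · rw [Category.assoc, Category.assoc, whiskerRight_snd, chart, chart, lift_snd, lift_snd]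
      apply Over.OverMorphism.ext
      show Spec.map (CommRingCat.ofHom F) ≫ Spec.map _ = Spec.map (CommRingCat.ofHom κM)
      rw [← Spec.map_comp, ← CommRingCat.ofHom_comp, hFκ]
  have e : (chart s κM χM ≫ (AMonS S M ◁ jt) ≫ l) ≫ j = d ≫ chart s κN χN ≫ (AMonS S N ◁ jt) ≫ φ := by
    rw [Category.assoc, Category.assoc, hl, reassoc_of% hd, ← whisker_exchange_assoc]
  obtain ⟨g', hg'⟩ := exists_factor_of_dominant F hF j.left (chart s κN χN ≫ (AMonS S N ◁ jt) ≫ φ).left
    (chart s κM χM ≫ (AMonS S M ◁ jt) ≫ l).left (congrArg CommaMorphism.left e)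
  let g : chartObj s κN ⟶ Z := Over.homMk g' (by
    rw [← Over.w j, ← Category.assoc, hg']
    exact Over.w (chart s κN χN ≫ (AMonS S N ◁ jt) ≫ φ))
  refine ⟨inv (chart s κN χN) ≫ g, ?_⟩
  rw [Category.assoc, show g ≫ j = chart s κN χN ≫ (AMonS S N ◁ jt) ≫ φ from Over.OverMorphism.ext hg',
    IsIso.inv_hom_id_assoc]

theorem isPullback_attrToX_closed (N : AddSubmonoid M) {Y Z : Over S} (aY : MonAct (AMonS S M) Y)
    (aZ : MonAct (AMonS S M) Z) (f : Z ⟶ Y) [IsClosedImmersion f.left] (hf : MonAct.IsEquivariant aZ aY f) :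
    IsPullback (MonAct.eqvHom.postcomp (subAct S M N) f hf) (attrToX aZ N) (attrToX aY N) (yoneda.map f) := by
  have : Mono f := Over.mono_of_mono_left f
  refine IsPullback.of_forall_isPullback_app fun T => ?_
  rw [Limits.Types.isPullback_iff]
  refine ⟨?_, ?_, ?_⟩
  · ext φ
    exact (Category.assoc _ _ _).symm
  · rintro φ ψ ⟨e1, -⟩
    exact Subtype.ext ((cancel_mono f).1 (congrArg Subtype.val e1))
  · intro φ z e
    have e' : (attrToX aY N).app (op (unop T)) φ = z ≫ f := e
    have hl : ((AMonS S M ◁ z) ≫ aZ.act) ≫ f = (AMonS.map S N.subtype ▷ unop T) ≫ φ.1 := by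
      rw [orbit_eq (T := unop T) φ, e', Category.assoc, show aZ.act ≫ f = _ from hf, MonoidalCategory.whiskerLeft_comp,
        Category.assoc]
    obtain ⟨ψ, hψ⟩ := exists_factor_map N.subtype (fun a b h => Subtype.ext h) f φ.1 _ hl
    have hψe : MonAct.IsEquivariant ((subAct S M N).prod (MonAct.trivial _ (unop T))) aZ ψ := by
      rw [MonAct.mem_eqvHom_iff]
      intro T' g b t
      rw [← cancel_mono f, Category.assoc, hψ, Category.assoc, show aZ.act ≫ f = _ from hf, lift_whiskerLeft_assoc,
        Category.assoc, hψ]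
      exact (MonAct.mem_eqvHom_iff φ.1).1 φ.2 T' g b t
    refine ⟨⟨ψ, hψe⟩, Subtype.ext hψ, ?_⟩
    show lift (toUnit (unop T) ≫ η) (𝟙 (unop T)) ≫ ψ = z
    rw [← cancel_mono f, Category.assoc, hψ]
    exact e

end Groth.L11.Magnet
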