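import Groth.Agent.L11.Magnet.Face
import Groth.Agent.L11.Magnet.AffineRep
import Groth.Agent.L23.InfLift
import Mathlib.AlgebraicGeometry.Morphisms.Immersion
import Mathlib.AlgebraicGeometry.Morphisms.Etale
import Mathlib.RingTheory.Nilpotent.Lemmas
import Mathlib.RingTheory.Spectrum.Prime.Topology

/-!
Translations on affine charts of monoid schemes, lifting along thickenings, and agreement near faces.
-/

set_option autoImplicit false
universe u

open CategoryTheory CategoryTheory.Limits MonoidalCategory CartesianMonoidalCategory AlgebraicGeometry Opposite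

set_option backward.isDefEq.respectTransparency.types false

noncomputable section

namespace Groth.L11.Magnet

open _root_.Magnet

section Translate

variable {S : Scheme.{u}} {M : Type} [AddCommMonoid M] {R : Type u} [CommRing R]

/-- The translation map of monoid algebras. -/
def delta (R : Type u) [CommRing R] (L : AddSubmonoid M) :
    MonoidAlgebra R (Multiplicative L) →+*
      MonoidAlgebra (MonoidAlgebra R (Multiplicative L)) (Multiplicative M) :=
  (MonoidAlgebra.lift R (MonoidAlgebra (MonoidAlgebra R (Multiplicative L)) (Multiplicative M)) (Multiplicative L)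
    { toFun := fun n => MonoidAlgebra.single (Multiplicative.ofAdd (n.toAdd : M)) (MonoidAlgebra.single n 1)
      map_one' := rfl
      map_mul' := fun a b => by
        rw [MonoidAlgebra.single_mul_single, MonoidAlgebra.single_mul_single, _root_.mul_one]
        rfl }).toRingHom

theorem delta_single (L : AddSubmonoid M) (n : Multiplicative L) (r : R) :
    delta R L (MonoidAlgebra.single n r) =
      MonoidAlgebra.single (Multiplicative.ofAdd (n.toAdd : M)) (MonoidAlgebra.single n r) := by
  show MonoidAlgebra.lift R _ (Multiplicative L) _ (MonoidAlgebra.single n r) = _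
  rw [MonoidAlgebra.lift_single]
  show r • MonoidAlgebra.single _ (MonoidAlgebra.single n (1 : R)) = _
  rw [MonoidAlgebra.smul_single, MonoidAlgebra.smul_single, smul_eq_mul, _root_.mul_one]

theorem delta_mkap (L : AddSubmonoid M) (r : R) :
    delta R L (mkap R L r) = mkap (MonoidAlgebra R (Multiplicative L)) M (mkap R L r) := by
  simp only [mkap, MonoidAlgebra.coe_algebraMap, Function.comp_apply, delta_single]
  rfl

theorem coeff_delta (L : AddSubmonoid M) (y : MonoidAlgebra R (Multiplicative L)) (n : L) :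
    (delta R L y).coeff (Multiplicative.ofAdd (n : M)) =
      MonoidAlgebra.single (Multiplicative.ofAdd n) (y.coeff (Multiplicative.ofAdd n)) := by
  classical
  induction y using MonoidAlgebra.induction_linear with
  | zero => simp
  | add a b ha hb => simp [ha, hb]
  | single k r =>
    rw [delta_single, MonoidAlgebra.coeff_single, MonoidAlgebra.coeff_single, Finsupp.single_apply,
      Finsupp.single_apply]
    by_cases h : k = Multiplicative.ofAdd n
    · rw [if_pos h, if_pos (by rw [h]; rfl), h]
    · rw [if_neg h, if_neg fun e => h (congrArg Multiplicative.ofAdd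
        (Subtype.ext (Multiplicative.ofAdd.injective e) : k.toAdd = n)), MonoidAlgebra.single_zero]

theorem coeff_delta_of_not_mem (L : AddSubmonoid M) (y : MonoidAlgebra R (Multiplicative L)) (m : M) (hm : m ∉ L) :
    (delta R L y).coeff (Multiplicative.ofAdd m) = 0 := by
  classical
  induction y using MonoidAlgebra.induction_linear with
  | zero => simp
  | add a b ha hb => simp [ha, hb]
  | single k r =>
    rw [delta_single, MonoidAlgebra.coeff_single, Finsupp.single_apply,
      if_neg fun e => hm (by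
        have h := congrArg Multiplicative.toAdd e
        simp only [toAdd_ofAdd] at h
        rw [← h]; exact k.toAdd.2)]

variable (s : Spec (CommRingCat.of R) ⟶ S) (L : AddSubmonoid M)

/-- The structure morphism of a chart. -/
abbrev chartStr : Spec (CommRingCat.of (MonoidAlgebra R (Multiplicative L))) ⟶ S :=
  Spec.map (CommRingCat.ofHom (mkap R L)) ≫ s

/-- The translated chart point. -/
def deltaMap : chartObj (chartStr s L) (mkap (MonoidAlgebra R (Multiplicative L)) M) ⟶
    chartObj s (mkap R L) :=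
  Over.homMk (Spec.map (CommRingCat.ofHom (delta R L))) (by
    show _ ≫ Spec.map _ ≫ s = Spec.map _ ≫ Spec.map _ ≫ s
    rw [← Spec.map_comp_assoc, ← Spec.map_comp_assoc, ← CommRingCat.ofHom_comp, ← CommRingCat.ofHom_comp]
    congr 3
    exact RingHom.ext (delta_mkap L))

/-- The universal pair of a group element and a chart point. -/
abbrev pairMap : chartObj (chartStr s L) (mkap (MonoidAlgebra R (Multiplicative L)) M) ⟶
    AMonS S M ⊗ Over.mk (chartStr s L) :=
  chart (chartStr s L) (mkap (MonoidAlgebra R (Multiplicative L)) M)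
    (mchi (MonoidAlgebra R (Multiplicative L)) M)

theorem deltaMap_chart :
    deltaMap s L ≫ chart s (mkap R L) (mchi R L) =
      lift (lift (pairMap s L ≫ fst _ _) (pairMap s L ≫ snd _ _ ≫ chart s (mkap R L) (mchi R L) ≫ fst _ _) ≫
        (subAct S M L).act) (pairMap s L ≫ snd _ _ ≫ chart s (mkap R L) (mchi R L) ≫ snd _ _) := by
  have hsnd : (pairMap s L ≫ snd _ _).left =
      Spec.map (CommRingCat.ofHom (mkap (MonoidAlgebra R (Multiplicative L)) M)) := by
    rw [pairMap, chart, lift_snd]; rfl
  apply CartesianMonoidalCategory.hom_ext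
  · rw [lift_fst]
    apply MPts.char_injective
    refine MonoidHom.ext fun n => ?_
    rw [Category.assoc, MPts.char_comp, chart_fst_char, subAct, MonAct.lift_restrict_act, MonAct.lift_regular_act,
      MPts.char_mul, MonoidHom.mul_apply, MPts.char_map, chart_fst_char, ← Category.assoc (pairMap s L),
      MPts.char_comp, chart_fst_char, hsnd, appTop_specMap, ← map_mul]
    refine (appTop_specMap (delta R L) _).trans (congrArg _ ?_)
    show delta R L (MonoidAlgebra.single n 1) =
      MonoidAlgebra.single (Multiplicative.ofAdd (n.toAdd : M)) 1 *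
        MonoidAlgebra.single 1 (MonoidAlgebra.single n (1 : R))
    rw [delta_single, MonoidAlgebra.single_mul_single, _root_.mul_one, _root_.one_mul]
  · rw [lift_snd, Category.assoc, chart, lift_snd, ← Category.assoc (pairMap s L)]
    apply Over.OverMorphism.ext
    rw [Over.comp_left, Over.comp_left, hsnd]
    show Spec.map (CommRingCat.ofHom (delta R L)) ≫ Spec.map _ = Spec.map _ ≫ Spec.map _
    rw [← Spec.map_comp, ← Spec.map_comp, ← CommRingCat.ofHom_comp, ← CommRingCat.ofHom_comp]
    congr 2
    exact RingHom.ext (delta_mkap L)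

/-- Equivariance is an identity on the chart. -/
theorem isEquivariant_iff_chart {X : Over S} (a : MonAct (AMonS S M) X) (φ : AMonS S L ⊗ Over.mk s ⟶ X) :
    MonAct.IsEquivariant ((subAct S M L).prod (MonAct.trivial (AMonS S M) (Over.mk s))) a φ ↔
      deltaMap s L ≫ chart s (mkap R L) (mchi R L) ≫ φ =
        pairMap s L ≫ (AMonS S M ◁ (chart s (mkap R L) (mchi R L) ≫ φ)) ≫ a.act := by
  let c := chart s (mkap R L) (mchi R L)
  let G := pairMap s L
  have h1 : deltaMap s L ≫ c = G ≫ (AMonS S M ◁ c) ≫
      ((subAct S M L).prod (MonAct.trivial (AMonS S M) (Over.mk s))).act := by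
    rw [deltaMap_chart]
    conv_rhs => rw [← lift_comp_fst_snd G, lift_whiskerLeft_assoc,
      ← lift_comp_fst_snd ((G ≫ snd _ _) ≫ c)]
    rw [MonAct.lift_prod_act, MonAct.lift_trivial_act]
    simp only [Category.assoc, G, c]
  rw [← Category.assoc, h1]
  simp only [Category.assoc, MonoidalCategory.whiskerLeft_comp]
  refine ⟨fun h => ?_, fun h => ?_⟩
  · rw [show ((subAct S M L).prod (MonAct.trivial (AMonS S M) (Over.mk s))).act ≫ φ = _ from h]
  · exact (cancel_epi (AMonS S M ◁ c)).1 ((cancel_epi G).1 h)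

end Translate

section Thick

/-- Quotient maps by nilpotent elements give thickenings. -/
theorem isThickening_specMap {C D : Type u} [CommRing C] [CommRing D] (F : C →+* D)
    (hF : Function.Surjective F) (hn : ∀ x ∈ RingHom.ker F, IsNilpotent x) :
    MoreMor.IsThickening (Spec.map (CommRingCat.ofHom F)) := by
  have key : ∀ p : PrimeSpectrum C, p ∈ Set.range (PrimeSpectrum.comap F) := fun p => by
    rw [range_comap_of_surjective _ F hF, PrimeSpectrum.mem_zeroLocus]
    exact fun x hx => p.isPrime.radical_le_iff.2 bot_le (by simpa [Ideal.mem_radical_iff, IsNilpotent] using hn x hx)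
  exact ⟨IsClosedImmersion.spec_of_surjective _ hF, ⟨fun p => key p⟩⟩

/-- A map with nilpotent kernel keeps that on monoid algebras. -/
theorem isThickening_specMap_mapRingHom {C D : Type u} [CommRing C] [CommRing D] (F : C →+* D) (G : Type)
    [CommMonoid G] (hF : Function.Surjective F) (hn : ∀ x ∈ RingHom.ker F, IsNilpotent x) :
    MoreMor.IsThickening (Spec.map (CommRingCat.ofHom (MonoidAlgebra.mapRingHom G F))) := by
  refine isThickening_specMap _ (fun z => ?_) fun x hx => ?_
  · induction z using MonoidAlgebra.induction_linear with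
    | zero => exact ⟨0, map_zero _⟩
    | add a b ha hb =>
      obtain ⟨a, rfl⟩ := ha
      obtain ⟨b, rfl⟩ := hb
      exact ⟨a + b, map_add _ _ _⟩
    | single m r =>
      obtain ⟨r, rfl⟩ := hF r
      exact ⟨MonoidAlgebra.single m r, by simp⟩
  · rw [← mem_nilradical, ← MonoidAlgebra.sum_single x, Finsupp.sum]
    refine Ideal.sum_mem _ fun m _ => ?_
    rw [mem_nilradical]
    obtain ⟨k, hk⟩ := hn (x.coeff m) (by
      have := congrArg (fun w => w.coeff m) (RingHom.mem_ker.1 hx)
      simpa using this)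
    exact ⟨k, by rw [MonoidAlgebra.single_pow, hk, MonoidAlgebra.single_zero]⟩

/-- Morphisms into an etale scheme lift uniquely along thickenings. -/
theorem existsUnique_lift {U X T T' : Scheme.{u}} (f : U ⟶ X) [Etale f] (j : T ⟶ T')
    (hj : MoreMor.IsThickening j) (σ : T ⟶ U) (x : T' ⟶ X) (w : σ ≫ f = j ≫ x) :
    ∃! τ : T' ⟶ U, τ ≫ f = x ∧ j ≫ τ = σ := by
  obtain ⟨τ, ⟨hτ₁, hτ₂⟩, hu⟩ := Groth.L23.existsUnique_section (pullback.fst x f) j hj
    (pullback.lift j σ w.symm) (pullback.lift_fst _ _ _)
  refine ⟨τ ≫ pullback.snd x f, ⟨?_, ?_⟩, ?_⟩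
  · rw [Category.assoc, ← pullback.condition, reassoc_of% hτ₁]
  · rw [reassoc_of% hτ₂, pullback.lift_snd]
  · rintro τ' ⟨h₁, h₂⟩
    rw [← hu (pullback.lift (𝟙 T') τ' (by rw [Category.id_comp, h₁])) ⟨pullback.lift_fst _ _ _, by
      apply pullback.hom_ext
      · rw [Category.assoc, pullback.lift_fst, pullback.lift_fst, Category.comp_id]
      · rw [Category.assoc, pullback.lift_snd, pullback.lift_snd, h₂]⟩, pullback.lift_snd]

theorem eq_of_thickening {U X T T' : Scheme.{u}} (f : U ⟶ X) [Etale f] (j : T ⟶ T')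
    (hj : MoreMor.IsThickening j) (τ τ' : T' ⟶ U) (h : τ ≫ f = τ' ≫ f) (hj' : j ≫ τ = j ≫ τ') : τ = τ' :=
  (existsUnique_lift f j hj (j ≫ τ) (τ ≫ f) (Category.assoc _ _ _)).unique ⟨rfl, rfl⟩ ⟨h.symm, hj'.symm⟩

end Thick

section Agree

/-- The translates of a point outside an open stable set stay outside. -/
theorem zeroLocus_ker_subset {C : Type u} [CommRing C] {G : Type} [CommMonoid G]
    (Δ : C →+* MonoidAlgebra C G) (O : Set (PrimeSpectrum C)) (hO : IsOpen O)
    (hst : ∀ P : PrimeSpectrum (MonoidAlgebra C G), PrimeSpectrum.comap Δ P ∈ O →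
      PrimeSpectrum.comap (algebraMap C (MonoidAlgebra C G)) P ∈ O)
    (p : PrimeSpectrum C) (hp : p ∉ O) :
    PrimeSpectrum.zeroLocus ((RingHom.ker ((MonoidAlgebra.mapRingHom G (Ideal.Quotient.mk p.asIdeal)).comp Δ) :
      Ideal C) : Set C) ⊆ Oᶜ := by
  rw [← PrimeSpectrum.closure_range_comap]
  refine closure_minimal ?_ hO.isClosed_compl
  rintro _ ⟨P', rfl⟩ hP
  let P := PrimeSpectrum.comap (MonoidAlgebra.mapRingHom G (Ideal.Quotient.mk p.asIdeal)) P'
  have h2 : PrimeSpectrum.comap (algebraMap C (MonoidAlgebra C G)) P ∈ O := hst P hP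
  refine hp (((PrimeSpectrum.le_iff_specializes _ _).1 ?_).mem_open hO h2)
  intro y hy
  show MonoidAlgebra.mapRingHom G (Ideal.Quotient.mk p.asIdeal) (algebraMap C (MonoidAlgebra C G) y) ∈ P'.asIdeal
  rw [show MonoidAlgebra.mapRingHom G (Ideal.Quotient.mk p.asIdeal) (algebraMap C (MonoidAlgebra C G) y) =
      algebraMap _ _ (Ideal.Quotient.mk p.asIdeal y) by simp,
    Ideal.Quotient.eq_zero_iff_mem.2 hy, map_zero]
  exact zero_mem _

variable {S : Scheme.{u}} {M : Type} [AddCommGroup M] {R : Type u} [CommRing R]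
  (s : Spec (CommRingCat.of R) ⟶ S) {N Q : AddSubmonoid M} (hQ : IsFace N Q)

include hQ in
/-- An open set stable under translations containing the face is everything. -/
theorem eq_univ_of_stable (O : Set (PrimeSpectrum (MonoidAlgebra R (Multiplicative N)))) (hO : IsOpen O)
    (hface : PrimeSpectrum.zeroLocus (faceIdeal R hQ : Set (MonoidAlgebra R (Multiplicative N))) ⊆ O)
    (hst : ∀ P : PrimeSpectrum (MonoidAlgebra (MonoidAlgebra R (Multiplicative N)) (Multiplicative M)),
      PrimeSpectrum.comap (delta R N) P ∈ O →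
        PrimeSpectrum.comap (mkap (MonoidAlgebra R (Multiplicative N)) M) P ∈ O) : O = Set.univ := by
  classical
  refine Set.eq_univ_of_forall fun p => by_contra fun hp => ?_
  let q := Ideal.Quotient.mk p.asIdeal
  let F : MonoidAlgebra R (Multiplicative N) →+*
      MonoidAlgebra (MonoidAlgebra R (Multiplicative N) ⧸ p.asIdeal) (Multiplicative M) :=
    (MonoidAlgebra.mapRingHom (Multiplicative M) q).comp (delta R N)
  have h3 : PrimeSpectrum.zeroLocus ((RingHom.ker F : Ideal (MonoidAlgebra R (Multiplicative N))) : Set _) ⊆ Oᶜ :=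
    zeroLocus_ker_subset (delta R N) O hO hst p hp
  have h4 : RingHom.ker F ⊔ faceIdeal R hQ ≠ ⊤ := by
    intro h
    obtain ⟨a, ha, b, hb, hab⟩ := Submodule.mem_sup.1 ((Ideal.eq_top_iff_one _).1 h)
    have h0 : b.coeff (Multiplicative.ofAdd (0 : N)) = 0 :=
      (mem_faceIdeal_iff R hQ b).1 hb 0 Q.zero_mem
    have ha0 : a.coeff (Multiplicative.ofAdd (0 : N)) = 1 := by
      have := congrArg (fun z => z.coeff (Multiplicative.ofAdd (0 : N))) hab
      rw [MonoidAlgebra.coeff_add, Finsupp.add_apply, h0, add_zero] at this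
      simpa [MonoidAlgebra.one_def] using this
    have h5 := congrArg (fun z => z.coeff (Multiplicative.ofAdd ((0 : N) : M))) (RingHom.mem_ker.1 ha)
    simp only [F, RingHom.comp_apply, MonoidAlgebra.coeff_mapRingHom, coeff_delta, ha0, MonoidAlgebra.coeff_zero,
      Finsupp.zero_apply] at h5
    exact p.isPrime.ne_top ((Ideal.eq_top_iff_one _).2 (Ideal.Quotient.eq_zero_iff_mem.1 h5))
  obtain ⟨m, hm, hle⟩ := Ideal.exists_le_maximal _ h4
  exact h3 (show (⟨m, hm.isPrime⟩ : PrimeSpectrum _) ∈ PrimeSpectrum.zeroLocus _ from fun x hx => hle (Ideal.mem_sup_left hx))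
    (hface fun x hx => hle (Ideal.mem_sup_right hx))

/-- Translation-compatible morphisms agreeing on all thickenings of the face agree. -/
theorem eq_of_forall_thick (hN : N.FG) {X : Over S} (g₁ g₂ : chartObj s (mkap R N) ⟶ X)
    (hk : ∀ k, Spec.map (CommRingCat.ofHom (Ideal.Quotient.mk (faceIdeal R hQ ^ k))) ≫ g₁.left =
      Spec.map (CommRingCat.ofHom (Ideal.Quotient.mk (faceIdeal R hQ ^ k))) ≫ g₂.left)
    (hst : ∀ {W : Over S} (w : W ⟶ chartObj (chartStr s N) (mkap (MonoidAlgebra R (Multiplicative N)) M)),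
      w ≫ deltaMap s N ≫ g₁ = w ≫ deltaMap s N ≫ g₂ →
        w ≫ pairMap s N ≫ snd _ _ ≫ g₁ = w ≫ pairMap s N ≫ snd _ _ ≫ g₂) : g₁ = g₂ := by
  let C := MonoidAlgebra R (Multiplicative N)
  let g : Spec (CommRingCat.of C) ⟶ pullback X.hom X.hom :=
    pullback.lift g₁.left g₂.left ((Over.w g₁).trans (Over.w g₂).symm)
  let ι₀ := pullback.fst g (pullback.diagonal X.hom)
  have hfac : ∀ {W : Scheme.{u}} (h : W ⟶ Spec (CommRingCat.of C)), h ≫ g₁.left = h ≫ g₂.left →
      ∃ l, l ≫ ι₀ = h := fun h e => by
    refine ⟨pullback.lift h (h ≫ g₁.left) ?_, pullback.lift_fst _ _ _⟩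
    apply pullback.hom_ext
    · simp only [g, Category.assoc, pullback.lift_fst, pullback.diagonal_fst, Category.comp_id]
    · simp only [g, Category.assoc, pullback.lift_snd, pullback.diagonal_snd, Category.comp_id, e]
  have hι₀ : ι₀ ≫ g₁.left = ι₀ ≫ g₂.left := by
    have h := (pullback.condition : ι₀ ≫ g = pullback.snd g (pullback.diagonal X.hom) ≫ pullback.diagonal X.hom)
    have ha := congrArg (· ≫ pullback.fst X.hom X.hom) h
    have hb := congrArg (· ≫ pullback.snd X.hom X.hom) h
    simp only [g, Category.assoc, pullback.lift_fst, pullback.lift_snd, pullback.diagonal_fst,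
      pullback.diagonal_snd, Category.comp_id] at ha hb
    rw [ha, hb]
  let 𝔈 : Set (PrimeSpectrum C) := Set.range ι₀
  let O := ι₀.coborderRange
  have hlc : IsClosedImmersion ι₀.liftCoborder := inferInstance
  have hface : PrimeSpectrum.zeroLocus (faceIdeal R hQ : Set C) ⊆ 𝔈 := by
    intro q hq
    obtain ⟨l, hl⟩ := hfac _ (hk 1)
    have : q ∈ Set.range (PrimeSpectrum.comap (Ideal.Quotient.mk (faceIdeal R hQ ^ 1))) := by
      rw [range_comap_of_surjective _ _ Ideal.Quotient.mk_surjective, Ideal.mk_ker, pow_one]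
      exact hq
    obtain ⟨q', rfl⟩ := this
    exact ⟨l q', congrArg (fun k => k q') hl⟩
  -- the agreement locus is dense
  have hdense : closure 𝔈 = Set.univ := by
    obtain ⟨O', hO', hfaceO, hO'O⟩ : ∃ O' : (Spec (CommRingCat.of C)).Opens, IsCompact (SetLike.coe O') ∧
        PrimeSpectrum.zeroLocus (faceIdeal R hQ : Set C) ⊆ SetLike.coe O' ∧ O' ≤ O := by
      have hbas := (Spec (CommRingCat.of C)).isBasis_affineOpens
      have hcov : ∀ q ∈ PrimeSpectrum.zeroLocus (faceIdeal R hQ : Set C), ∃ W : (Spec (CommRingCat.of C)).Opens,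
          IsAffineOpen W ∧ q ∈ W ∧ W ≤ O := fun q hq => by
        obtain ⟨W, hW, hqW, hle⟩ := exists_isAffineOpen_mem_and_subset (X := Spec (CommRingCat.of C)) (x := q) (U := O)
          (by exact subset_coborder (hface hq))
        exact ⟨W, hW, hqW, hle⟩
      choose W hW hqW hWO using hcov
      obtain ⟨t, ht⟩ := (PrimeSpectrum.isClosed_zeroLocus (faceIdeal R hQ : Set C)).isCompact.elim_finite_subcover
        (fun q : PrimeSpectrum.zeroLocus (faceIdeal R hQ : Set C) => (SetLike.coe (W q.1 q.2) : Set (PrimeSpectrum C)))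
        (fun q => (W q.1 q.2).2) (fun q hq => Set.mem_iUnion.2 ⟨⟨q, hq⟩, hqW q hq⟩)
      refine ⟨⨆ q ∈ t, W q.1 q.2, ?_, ?_, iSup₂_le fun q _ => hWO q.1 q.2⟩
      · rw [TopologicalSpace.Opens.coe_iSup]
        simp only [TopologicalSpace.Opens.coe_iSup]
        exact t.isCompact_biUnion fun q _ => (hW q.1 q.2).isCompact
      · intro x hx
        obtain ⟨q, hq, hx'⟩ := Set.mem_iUnion₂.1 (ht hx)
        exact TopologicalSpace.Opens.mem_iSup.2 ⟨q, TopologicalSpace.Opens.mem_iSup.2 ⟨hq, hx'⟩⟩
    let j : pullback ι₀.liftCoborder ((Spec (CommRingCat.of C)).homOfLE hO'O) ⟶ Spec (CommRingCat.of C) :=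
      pullback.snd _ _ ≫ O'.ι
    have : CompactSpace O' := isCompact_iff_compactSpace.mp hO'
    have : QuasiCompact O'.ι := quasiCompact_iff_compactSpace _ |>.2 inferInstance
    have : QuasiCompact j := inferInstance
    have hj : j.ker = ⊥ := by
      refine Scheme.IdealSheafData.ext_of_isAffine ?_
      rw [Scheme.IdealSheafData.ideal_bot, Pi.bot_apply, Scheme.Hom.ker_apply, eq_bot_iff]
      intro z (hz : j.appTop z = 0)
      have hz0 : (Scheme.ΓSpecIso (CommRingCat.of C)).hom z = 0 := by
        refine eq_zero_of_forall_mem_pow R hN hQ fun k => ?_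
        refine Ideal.pow_le_pow_right (Nat.le_succ k) (Ideal.Quotient.eq_zero_iff_mem.1 ?_)
        let q := Ideal.Quotient.mk (faceIdeal R hQ ^ (k + 1))
        have hrange : Set.range (Spec.map (CommRingCat.ofHom q)) ⊆ SetLike.coe O' := by
          rintro _ ⟨P, rfl⟩
          refine hfaceO fun x hx => P.isPrime.mem_of_pow_mem (k + 1) ?_
          show q x ^ (k + 1) ∈ P.asIdeal
          rw [← map_pow, show q (x ^ (k + 1)) = 0 from Ideal.Quotient.eq_zero_iff_mem.2 (Ideal.pow_mem_pow hx _)]
          exact zero_mem _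
        obtain ⟨l, hl⟩ := hfac _ (hk (k + 1))
        let l' := IsOpenImmersion.lift O'.ι (Spec.map (CommRingCat.ofHom q)) (by rwa [Scheme.Opens.range_ι])
        have hl' : l ≫ ι₀.liftCoborder = l' ≫ (Spec (CommRingCat.of C)).homOfLE hO'O := by
          rw [← cancel_mono O.ι, Category.assoc, Category.assoc, Scheme.Hom.liftCoborder_ι, hl, Scheme.homOfLE_ι,
            IsOpenImmersion.lift_fac]
        have he : pullback.lift l l' hl' ≫ j = Spec.map (CommRingCat.ofHom q) := by
          rw [pullback.lift_snd_assoc, IsOpenImmersion.lift_fac]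
        have h6 := congrArg (fun k => k.appTop z) he
        rw [GmPts.appTop_comp_apply, hz, map_zero] at h6
        have h7 := appTop_specMap q ((Scheme.ΓSpecIso (CommRingCat.of C)).hom z)
        rw [Iso.hom_inv_id_apply, ← h6] at h7
        exact ((ConcreteCategory.bijective_of_isIso (Scheme.ΓSpecIso (CommRingCat.of _)).inv).1
          (h7.symm.trans (map_zero _).symm))
      exact (ConcreteCategory.bijective_of_isIso (Scheme.ΓSpecIso (CommRingCat.of C)).hom).1
        (hz0.trans (map_zero _).symm)
    have h := Scheme.Hom.support_ker j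
    rw [hj, Scheme.IdealSheafData.support_bot] at h
    refine Set.eq_univ_of_univ_subset ?_
    have h' : closure (Set.range j) = Set.univ := by
      simpa using h.symm
    refine h'.ge.trans (closure_mono ?_)
    rintro _ ⟨x, rfl⟩
    refine ⟨(pullback.fst ι₀.liftCoborder ((Spec (CommRingCat.of C)).homOfLE hO'O)) x, ?_⟩
    show ((pullback.fst ι₀.liftCoborder _) ≫ ι₀) x = j x
    congr 1
    have e : pullback.fst ι₀.liftCoborder ((Spec (CommRingCat.of C)).homOfLE hO'O) ≫
        ι₀.liftCoborder ≫ O.ι = pullback.fst ι₀.liftCoborder ((Spec (CommRingCat.of C)).homOfLE hO'O) ≫ ι₀ := by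
      rw [Scheme.Hom.liftCoborder_ι]
    rw [← e, pullback.condition_assoc, Scheme.homOfLE_ι]
  -- the agreement locus is open
  have h𝔈 : 𝔈 = (SetLike.coe O : Set (PrimeSpectrum C)) := by
    refine Set.Subset.antisymm subset_coborder fun x hx => ?_
    by_contra h
    exact hx ⟨hdense ▸ Set.mem_univ x, h⟩
  have hstab : 𝔈 = Set.univ := by
    refine eq_univ_of_stable hQ 𝔈 (h𝔈 ▸ O.2) hface fun P hP => ?_
    let D := Spec.map (CommRingCat.ofHom (delta R N))
    obtain ⟨e, he⟩ := hP
    obtain ⟨z, hz, -⟩ := Scheme.Pullback.exists_preimage_pullback (f := D) (g := ι₀) P e he.symm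
    let W : Over S := Over.mk (pullback.fst D ι₀ ≫
      (chartObj (chartStr s N) (mkap (MonoidAlgebra R (Multiplicative N)) M)).hom)
    let w : W ⟶ chartObj (chartStr s N) (mkap (MonoidAlgebra R (Multiplicative N)) M) :=
      Over.homMk (pullback.fst D ι₀) rfl
    have hw : w ≫ deltaMap s N ≫ g₁ = w ≫ deltaMap s N ≫ g₂ := Over.OverMorphism.ext (by
      show pullback.fst D ι₀ ≫ D ≫ g₁.left = pullback.fst D ι₀ ≫ D ≫ g₂.left
      rw [pullback.condition_assoc, pullback.condition_assoc, hι₀])
    have h2 := congrArg Over.Hom.left (hst w hw)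
    have hsnd : (pairMap s N ≫ snd _ _).left =
        Spec.map (CommRingCat.ofHom (mkap (MonoidAlgebra R (Multiplicative N)) M)) := by
      rw [pairMap, chart, lift_snd]; rfl
    simp only [Over.comp_left, Category.assoc] at h2
    obtain ⟨l, hl⟩ := hfac
      (pullback.fst D ι₀ ≫ Spec.map (CommRingCat.ofHom (mkap (MonoidAlgebra R (Multiplicative N)) M))) (by
        rw [← hsnd, Over.comp_left]
        simp only [Category.assoc]
        exact h2)
    refine ⟨l z, ?_⟩
    rw [← hz]
    exact congrArg (fun k => k z) hl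
  have : Surjective ι₀ := ⟨fun x => (hstab.symm ▸ Set.mem_univ x : x ∈ 𝔈)⟩
  have : IsClosedImmersion ι₀ := IsClosedImmersion.of_isPreimmersion _ (by
    show IsClosed 𝔈
    rw [hstab]; exact isClosed_univ)
  have hker : ι₀.ker = ⊥ := by
    refine Scheme.IdealSheafData.ext_of_isAffine ?_
    rw [Scheme.IdealSheafData.ideal_bot, Pi.bot_apply, Scheme.Hom.ker_apply, eq_bot_iff]
    intro z (hz : ι₀.appTop z = 0)
    refine (ConcreteCategory.bijective_of_isIso (Scheme.ΓSpecIso (CommRingCat.of C)).hom).1
      (Eq.trans ?_ (map_zero _).symm)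
    refine eq_zero_of_forall_mem_pow R hN hQ fun k => Ideal.Quotient.eq_zero_iff_mem.1 ?_
    obtain ⟨l, hl⟩ := hfac _ (hk k)
    have h6 := congrArg (fun f => f.appTop z) hl
    rw [GmPts.appTop_comp_apply, hz, map_zero] at h6
    have h7 := appTop_specMap (Ideal.Quotient.mk (faceIdeal R hQ ^ k)) ((Scheme.ΓSpecIso (CommRingCat.of C)).hom z)
    rw [Iso.hom_inv_id_apply, ← h6] at h7
    exact ((ConcreteCategory.bijective_of_isIso (Scheme.ΓSpecIso (CommRingCat.of _)).inv).1
      (h7.symm.trans (map_zero _).symm))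
  have : IsIso ι₀ := IsClosedImmersion.isIso_iff_ker_eq_bot.2 hker
  exact Over.OverMorphism.ext ((cancel_epi ι₀).1 hι₀)

end Agree

end Groth.L11.Magnet
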