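import Groth.Agent.L11.Magnet.Dom
import Mathlib.AlgebraicGeometry.Morphisms.Flat
import Mathlib.RingTheory.Polynomial.Basic
import Mathlib.RingTheory.Localization.FractionRing

/-!
Attractor points of the affine line with the multiplicative group are determined on nilpotent points.
-/

set_option autoImplicit false
universe u

open CategoryTheory CategoryTheory.Limits MonoidalCategory CartesianMonoidalCategory MonObj AlgebraicGeometry Opposite

set_option backward.isDefEq.respectTransparency.types false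

noncomputable section

namespace Groth.L11.Magnet

open Polynomial (X C)

variable {S : Scheme.{u}}

/-- Morphisms out of a product are determined near each point of the second factor. -/
theorem tensor_hom_ext_local {A T X' : Over S} {φ φ' : A ⊗ T ⟶ X'}
    (h : ∀ y : T.left, ∃ (U : Scheme.{u}) (t : U ⟶ T.left) (_ : IsOpenImmersion t), y ∈ Set.range t ∧
      (A ◁ (Over.homMk t rfl : Over.mk (t ≫ T.hom) ⟶ T)) ≫ φ =
        (A ◁ (Over.homMk t rfl : Over.mk (t ≫ T.hom) ⟶ T)) ≫ φ') : φ = φ' := by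
  choose U t ht hy he using h
  let 𝒰 : T.left.OpenCover := Scheme.Cover.mkOfCovers T.left U t (fun y => ⟨y, hy y⟩) ht
  apply Over.OverMorphism.ext
  refine Scheme.Cover.hom_ext (𝒰.pullback₁ (snd A T).left) _ _ fun i => ?_
  let Ti : Over S := Over.mk (t i ≫ T.hom)
  let j : Ti ⟶ T := Over.homMk (t i) rfl
  let Q : Over S := Over.mk (pullback.fst (snd A T).left (t i) ≫ (A ⊗ T).hom)
  let p : Q ⟶ A ⊗ T := Over.homMk (pullback.fst (snd A T).left (t i)) rfl
  let q : Q ⟶ Ti := Over.homMk (pullback.snd (snd A T).left (t i)) (by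
    show pullback.snd (snd A T).left (t i) ≫ t i ≫ T.hom = _
    rw [← Category.assoc, ← pullback.condition, Category.assoc, Over.w (snd A T)]
    rfl)
  have hp : lift (p ≫ fst A T) q ≫ (A ◁ j) = p := by
    apply CartesianMonoidalCategory.hom_ext
    · simp
    · rw [Category.assoc, whiskerLeft_snd, lift_snd_assoc]
      exact Over.OverMorphism.ext pullback.condition.symm
  show p.left ≫ φ.left = p.left ≫ φ'.left
  rw [← Over.comp_left, ← Over.comp_left, ← hp, Category.assoc, Category.assoc,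
    show (A ◁ j) ≫ φ = (A ◁ j) ≫ φ' from he i]

/-- The magnet of the non-negative integers. -/
abbrev NatM : AddSubmonoid ℤ := AddSubmonoid.multiples (1 : ℤ)

theorem natM_nonneg (m : NatM) : 0 ≤ (m : ℤ) := by
  obtain ⟨k, hk⟩ := m.2
  rw [← hk]; simp

/-- Monomials of the polynomial ring. -/
def polyChar (R : Type u) [CommRing R] : Multiplicative NatM →* Polynomial R where
  toFun m := X ^ ((m.toAdd : ℤ).toNat)
  map_one' := by simp
  map_mul' a b := by
    rw [toAdd_mul, AddSubmonoid.coe_add, Int.toNat_add (natM_nonneg _) (natM_nonneg _), pow_add]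

theorem polyChar_apply (R : Type u) [CommRing R] (m : Multiplicative NatM) :
    polyChar R m = X ^ ((m.toAdd : ℤ).toNat) := rfl

theorem char_natM {B : Type u} [CommMonoid B] (c : Multiplicative NatM →* B) (m : Multiplicative NatM) :
    c m = c (Multiplicative.ofAdd ⟨1, AddSubmonoid.mem_multiples 1⟩) ^ ((m.toAdd : ℤ).toNat) := by
  rw [← map_pow, ← ofAdd_nsmul]
  congr 1
  apply Multiplicative.toAdd.injective
  apply Subtype.ext
  simpa using (Int.toNat_of_nonneg (natM_nonneg m.toAdd)).symm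

theorem isMonAlg_poly (R : Type u) [CommRing R] : IsMonAlg (C : R →+* Polynomial R) (polyChar R) where
  ex {B} _ a c := by
    refine ⟨Polynomial.eval₂RingHom a (c (Multiplicative.ofAdd ⟨1, AddSubmonoid.mem_multiples 1⟩)),
      RingHom.ext fun r => by simp, MonoidHom.ext fun m => ?_⟩
    rw [char_natM c m]
    simp [polyChar_apply]
  uniq L L' h h' := by
    refine Polynomial.ringHom_ext (fun r => DFunLike.congr_fun h r) ?_
    simpa [polyChar_apply] using h' (Multiplicative.ofAdd ⟨1, AddSubmonoid.mem_multiples 1⟩)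

/-- The affine line over an affine scheme. -/
abbrev line {R : Type u} [CommRing R] (s : Spec (CommRingCat.of R) ⟶ S) :
    chartObj s (C : R →+* Polynomial R) ⟶ _root_.Magnet.AMonS S NatM ⊗ Over.mk s :=
  chart s C (polyChar R)

theorem line_natural {R R' : Type u} [CommRing R] [CommRing R'] (φ : R →+* R')
    (s : Spec (CommRingCat.of R) ⟶ S) (s' : Spec (CommRingCat.of R') ⟶ S)
    (h : s' = Spec.map (CommRingCat.ofHom φ) ≫ s) :
    ∃ d : chartObj s' (C : R' →+* Polynomial R') ⟶ chartObj s (C : R →+* Polynomial R),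
      d.left = Spec.map (CommRingCat.ofHom (Polynomial.mapRingHom φ)) ∧
      d ≫ line s = line s' ≫
        (_root_.Magnet.AMonS S NatM ◁ (Over.homMk (Spec.map (CommRingCat.ofHom φ)) h.symm : Over.mk s' ⟶ Over.mk s)) := by
  have e : CommRingCat.ofHom (C : R →+* Polynomial R) ≫ CommRingCat.ofHom (Polynomial.mapRingHom φ) =
      CommRingCat.ofHom φ ≫ CommRingCat.ofHom (C : R' →+* Polynomial R') := by
    ext r : 2
    simp
  refine ⟨Over.homMk (Spec.map (CommRingCat.ofHom (Polynomial.mapRingHom φ))) (by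
    show _ ≫ Spec.map _ ≫ s = Spec.map (CommRingCat.ofHom (C : R' →+* Polynomial R')) ≫ s'
    rw [h, ← Spec.map_comp_assoc, ← Spec.map_comp_assoc, e]), rfl, ?_⟩
  apply CartesianMonoidalCategory.hom_ext
  · apply MPts.char_injective
    refine MonoidHom.ext fun k => ?_
    rw [Category.assoc, MPts.char_comp, chart_fst_char, Category.assoc, whiskerLeft_fst, chart_fst_char]
    refine (appTop_specMap _ _).trans (congrArg _ ?_)
    simp [polyChar_apply]
  · simp only [line, chart, Category.assoc, whiskerLeft_snd, lift_snd, lift_snd_assoc]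
    apply Over.OverMorphism.ext
    show Spec.map _ ≫ Spec.map _ = Spec.map _ ≫ Spec.map _
    rw [← Spec.map_comp, ← Spec.map_comp, e]

section Affine

variable {R : Type u} [CommRing R] {f : Polynomial R}

theorem eq_of_forall_trunc (hf : IsUnit (f.coeff 0)) {B : Type u} [CommRing B] [Algebra (Polynomial R) B]
    [IsLocalization.Away f B] (b b' : B)
    (h : ∀ n (ψ : B →+* Polynomial R ⧸ Ideal.span {(X : Polynomial R) ^ (n + 1)}),
      ψ.comp (algebraMap (Polynomial R) B) = Ideal.Quotient.mk _ → ψ b = ψ b') : b = b' := by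
  have hu : ∀ n, IsUnit (Ideal.Quotient.mk (Ideal.span {(X : Polynomial R) ^ (n + 1)}) f) := fun n => by
    obtain ⟨w, hw⟩ := Polynomial.X_dvd_iff.2 (show (f - C (f.coeff 0)).coeff 0 = 0 by simp)
    have e : f = C (f.coeff 0) + X * w := by rw [← hw]; ring
    rw [e, map_add]
    refine IsNilpotent.isUnit_add_left_of_commute ?_ ((hf.map C).map _) (Commute.all _ _)
    exact ⟨n + 1, by
      rw [← map_pow, Ideal.Quotient.eq_zero_iff_mem, Ideal.mem_span_singleton, mul_pow]
      exact dvd_mul_right _ _⟩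
  obtain ⟨⟨a, m⟩, ha⟩ := IsLocalization.surj (Submonoid.powers f) (b - b')
  have ha' : a = 0 := by
    refine Polynomial.ext fun i => ?_
    let ψ : B →+* Polynomial R ⧸ Ideal.span {(X : Polynomial R) ^ (i + 1)} := IsLocalization.Away.lift f (hu i)
    have e := congrArg ψ ha
    have e' : ψ.comp (algebraMap (Polynomial R) B) = Ideal.Quotient.mk _ :=
      IsLocalization.Away.lift_comp f (hu i)
    rw [map_mul, map_sub, h i ψ e', sub_self, zero_mul,
      show ψ (algebraMap _ _ a) = _ from DFunLike.congr_fun e' a, eq_comm, Ideal.Quotient.eq_zero_iff_mem,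
      Ideal.mem_span_singleton, Polynomial.X_pow_dvd_iff] at e
    simpa using e i (Nat.lt_succ_self i)
  rw [ha', map_zero] at ha
  exact sub_eq_zero.1 ((IsLocalization.map_units B m).mul_left_eq_zero.1 ha)

theorem flat_away (f : Polynomial R) (B : Type u) [CommRing B] [Algebra (Polynomial R) B]
    [IsLocalization.Away f B] : ((algebraMap (Polynomial R) B).comp C).Flat := by
  refine RingHom.Flat.comp ?_ (RingHom.flat_algebraMap_iff.2 (IsLocalization.flat B (Submonoid.powers f)))
  exact RingHom.flat_algebraMap_iff.2 (inferInstanceAs (Module.Flat R (Polynomial R)))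

theorem comap_surjective_away (hf : ∀ p : PrimeSpectrum R, f.map (algebraMap R p.asIdeal.ResidueField) ≠ 0)
    (B : Type u) [CommRing B] [Algebra (Polynomial R) B] [IsLocalization.Away f B] :
    Function.Surjective (PrimeSpectrum.comap ((algebraMap (Polynomial R) B).comp C)) := fun p => by
  let K := FractionRing (Polynomial p.asIdeal.ResidueField)
  let e : Polynomial R →+* K := (algebraMap _ K).comp (Polynomial.mapRingHom (algebraMap R p.asIdeal.ResidueField))
  have he : IsUnit (e f) := (IsUnit.mk0 _ (by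
    intro h0
    exact hf p (IsFractionRing.injective (Polynomial p.asIdeal.ResidueField) K (h0.trans (map_zero _).symm))))
  let E : B →+* K := IsLocalization.Away.lift f he
  refine ⟨⟨RingHom.ker E, RingHom.ker_isPrime E⟩, PrimeSpectrum.ext ?_⟩
  ext r
  show E (algebraMap _ B (C r)) = 0 ↔ r ∈ p.asIdeal
  rw [IsLocalization.Away.lift_eq]
  show algebraMap (Polynomial p.asIdeal.ResidueField) K (Polynomial.map (algebraMap R p.asIdeal.ResidueField) (C r)) = 0 ↔ _
  rw [IsFractionRing.to_map_eq_zero_iff, Polynomial.map_C, Polynomial.C_eq_zero,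
    Ideal.algebraMap_residueField_eq_zero]

end Affine

section Main

variable {Xs' : Over S} {a : _root_.Magnet.MonAct (_root_.Magnet.AMonS S ℤ) Xs'}

/-- Agreement on all nilpotent points. -/
def NilAgree {Y : Over S} (γ₁ γ₂ : _root_.Magnet.AMonS S NatM ⊗ Y ⟶ Xs') : Prop :=
  ∀ (T : Over S) (m : T ⟶ _root_.Magnet.AMonS S NatM) (t : T ⟶ Y),
    (∃ n : ℕ, ∀ m' : T ⟶ _root_.Magnet.AMonS S NatM, m ^ (n + 1) * m' = m ^ (n + 1)) →
      lift m t ≫ γ₁ = lift m t ≫ γ₂

theorem NilAgree.comp {Y Y' : Over S} {γ₁ γ₂ : _root_.Magnet.AMonS S NatM ⊗ Y ⟶ Xs'} (h : NilAgree γ₁ γ₂)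
    (j : Y' ⟶ Y) : NilAgree ((_root_.Magnet.AMonS S NatM ◁ j) ≫ γ₁) ((_root_.Magnet.AMonS S NatM ◁ j) ≫ γ₂) :=
  fun T m t hm => by
    rw [lift_whiskerLeft_assoc, lift_whiskerLeft_assoc]
    exact h T m (t ≫ j) hm

theorem char_pow {M : Type} [AddCommMonoid M] {T : Over S} (t : T ⟶ _root_.Magnet.AMonS S M) (n : ℕ) :
    MPts.char (t ^ n) = MPts.char t ^ n := by
  induction n with
  | zero => rw [_root_.pow_zero, _root_.pow_zero, MPts.char_one]
  | succ n ih => rw [_root_.pow_succ, _root_.pow_succ, MPts.char_mul, ih]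

variable {R : Type u} [CommRing R] {s : Spec (CommRingCat.of R) ⟶ S}

/-- Agreement modulo every power of the coordinate. -/
theorem NilAgree.trunc {γ₁ γ₂ : _root_.Magnet.AMonS S NatM ⊗ Over.mk s ⟶ Xs'} (h : NilAgree γ₁ γ₂) (n : ℕ) :
    Spec.map (CommRingCat.ofHom (Ideal.Quotient.mk (Ideal.span {(X : Polynomial R) ^ (n + 1)}))) ≫
        (line s ≫ γ₁).left =
      Spec.map (CommRingCat.ofHom (Ideal.Quotient.mk (Ideal.span {(X : Polynomial R) ^ (n + 1)}))) ≫
        (line s ≫ γ₂).left := by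
  let J := Ideal.span {(X : Polynomial R) ^ (n + 1)}
  let T : Over S := Over.mk (Spec.map (CommRingCat.ofHom (Ideal.Quotient.mk J)) ≫
    (chartObj s (C : R →+* Polynomial R)).hom)
  let v : T ⟶ chartObj s (C : R →+* Polynomial R) :=
    Over.homMk (Spec.map (CommRingCat.ofHom (Ideal.Quotient.mk J))) rfl
  have hT := h T (v ≫ line s ≫ fst _ _) (v ≫ line s ≫ snd _ _) ⟨n, fun m' => ?_⟩
  · rw [← comp_lift, ← comp_lift, lift_fst_snd, Category.comp_id, Category.assoc, Category.assoc] at hT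
    exact congrArg CommaMorphism.left hT
  · apply MPts.char_injective
    rw [MPts.char_mul, char_pow]
    refine MonoidHom.ext fun k => ?_
    rw [MonoidHom.mul_apply, MonoidHom.pow_apply]
    have e : MPts.char (v ≫ line s ≫ fst _ _) k =
        (Scheme.ΓSpecIso (CommRingCat.of (Polynomial R ⧸ J))).inv (Ideal.Quotient.mk J (polyChar R k)) := by
      rw [MPts.char_comp, chart_fst_char]
      exact appTop_specMap _ _
    rw [e]
    by_cases hk : (k.toAdd : ℤ).toNat = 0
    · have : k = 1 := Multiplicative.toAdd.injective (Subtype.ext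
        (le_antisymm (Int.toNat_eq_zero.1 hk) (natM_nonneg _)))
      subst this
      simp only [map_one, _root_.one_pow, _root_.mul_one]
    · rw [polyChar_apply, ← map_pow, ← map_pow, ← pow_mul]
      have : Ideal.Quotient.mk J (X ^ ((k.toAdd : ℤ).toNat * (n + 1))) = 0 :=
        Ideal.Quotient.eq_zero_iff_mem.2 (Ideal.mem_span_singleton.2
          (pow_dvd_pow _ (Nat.le_mul_of_pos_left _ (Nat.pos_of_ne_zero hk))))
      rw [this, map_zero]
      exact zero_mul _

/-- Where the coordinate is invertible an attractor point is an orbit. -/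
theorem line_eq_orbit (B : Type u) [CommRing B]
    [Algebra (Polynomial R) B] (hX : IsUnit (algebraMap (Polynomial R) B X)) :
    let P : Over S := Over.mk (Spec.map (CommRingCat.ofHom (algebraMap (Polynomial R) B)) ≫
      (chartObj s (C : R →+* Polynomial R)).hom)
    let v : P ⟶ chartObj s (C : R →+* Polynomial R) :=
      Over.homMk (Spec.map (CommRingCat.ofHom (algebraMap (Polynomial R) B))) rfl
    ∃ g g' : P ⟶ _root_.Magnet.AMonS S ℤ, g' * g = 1 ∧
      ∀ ψ : (_root_.Magnet.attr a NatM).obj (op (Over.mk s)),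
        v ≫ line s ≫ ψ.1 =
          lift g ((v ≫ line s ≫ snd _ _) ≫ (_root_.Magnet.attrToX a NatM).app (op (Over.mk s)) ψ) ≫ a.act := by
  intro P v
  have hv : v.left = Spec.map (CommRingCat.ofHom (algebraMap (Polynomial R) B)) := rfl
  let w : (Γ(P.left, ⊤))ˣ := Units.map (Scheme.ΓSpecIso (CommRingCat.of B)).inv.hom.toMonoidHom hX.unit
  let χ : Multiplicative ℤ →* Γ(P.left, ⊤) := (Units.coeHom _).comp (zpowersHom _ w)
  let χ' : Multiplicative ℤ →* Γ(P.left, ⊤) := (Units.coeHom _).comp (zpowersHom _ w⁻¹)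
  refine ⟨MPts.pt (T := P) χ, MPts.pt (T := P) χ', ?_, fun ψ => ?_⟩
  · rw [← MPts.pt_mul, show χ' * χ = 1 from MonoidHom.ext fun k => by simp [χ, χ', ← Units.val_mul], MPts.pt_one]
  · have hg : MPts.pt (T := P) χ ≫ _root_.Magnet.AMonS.map S (AddSubmonoid.subtype NatM) = v ≫ line s ≫ fst _ _ := by
      apply MPts.char_injective
      refine MonoidHom.ext fun k => ?_
      rw [MPts.char_map, MPts.char_pt, MPts.char_comp, chart_fst_char, hv]
      refine Eq.trans ?_ (appTop_specMap _ _).symm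
      rw [polyChar_apply, map_pow, map_pow]
      show ((w ^ (k.toAdd : ℤ) : (Γ(P.left, ⊤))ˣ) : Γ(P.left, ⊤)) = _
      conv_lhs => rw [← Int.toNat_of_nonneg (natM_nonneg k.toAdd), zpow_natCast, Units.val_pow_eq_pow_val]
      rfl
    have e1 : v ≫ line s = lift (MPts.pt (T := P) χ) (v ≫ line s ≫ snd _ _) ≫
        (_root_.Magnet.AMonS.map S (AddSubmonoid.subtype NatM) ▷ Over.mk s) := by
      rw [lift_whiskerRight, hg, ← comp_lift, ← comp_lift, lift_fst_snd, Category.comp_id]
    rw [← Category.assoc, e1, Category.assoc, orbit_eq, lift_whiskerLeft_assoc]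

/-- The affine case, near the zero section. -/
theorem eq_of_nilAgree_affine (φ₁ φ₂ : (_root_.Magnet.attr a NatM).obj (op (Over.mk s)))
    (h : NilAgree φ₁.1 φ₂.1) {f : Polynomial R} (hf : IsUnit (f.coeff 0)) {W : Xs'.left.Opens} (hW : IsAffineOpen W)
    (h₁ : PrimeSpectrum.basicOpen f ≤ (line s ≫ φ₁.1).left ⁻¹ᵁ W)
    (h₂ : PrimeSpectrum.basicOpen f ≤ (line s ≫ φ₂.1).left ⁻¹ᵁ W) : φ₁ = φ₂ := by
  let B := Localization.Away f
  let vf : Spec (CommRingCat.of B) ⟶ Spec (CommRingCat.of (Polynomial R)) :=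
    Spec.map (CommRingCat.ofHom (algebraMap (Polynomial R) B))
  have hr : ∀ x, vf x ∈ (PrimeSpectrum.basicOpen f : Set (PrimeSpectrum (Polynomial R))) := fun x => by
    rw [← PrimeSpectrum.localization_away_comap_range B f]
    exact ⟨x, rfl⟩
  have lifts : ∀ g : Spec (CommRingCat.of (Polynomial R)) ⟶ Xs'.left, PrimeSpectrum.basicOpen f ≤ g ⁻¹ᵁ W →
      ∃ q, q ≫ W.ι = vf ≫ g := fun g hg => ⟨IsOpenImmersion.lift W.ι (vf ≫ g) (by
        rintro - ⟨x, rfl⟩
        rw [Scheme.Opens.range_ι]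
        exact hg (hr x)), IsOpenImmersion.lift_fac _ _ _⟩
  obtain ⟨q₁, hq₁⟩ := lifts (line s ≫ φ₁.1).left h₁
  obtain ⟨q₂, hq₂⟩ := lifts (line s ≫ φ₂.1).left h₂
  have : IsAffine W.toScheme := hW
  have hD : vf ≫ (line s ≫ φ₁.1).left = vf ≫ (line s ≫ φ₂.1).left := by
    rw [← hq₁, ← hq₂]
    congr 1
    refine ext_of_isAffine (CommRingCat.hom_ext (RingHom.ext fun z => ?_))
    apply (Scheme.ΓSpecIso (CommRingCat.of B)).commRingCatIsoToRingEquiv.injective
    refine eq_of_forall_trunc hf _ _ fun n ψ hψ => ?_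
    have e : Spec.map (CommRingCat.ofHom ψ) ≫ q₁ = Spec.map (CommRingCat.ofHom ψ) ≫ q₂ := by
      rw [← cancel_mono W.ι, Category.assoc, Category.assoc, hq₁, hq₂, ← Category.assoc, ← Category.assoc,
        ← Spec.map_comp, ← CommRingCat.ofHom_comp, hψ]
      exact h.trunc n
    have e' := congrArg (fun k => (Scheme.ΓSpecIso (CommRingCat.of _)).hom (k.appTop z)) e
    simp only [GmPts.appTop_comp_apply] at e'
    have hnat := fun y => congrArg (fun k => (ConcreteCategory.hom k) y)
      (Scheme.ΓSpecIso_naturality (CommRingCat.ofHom ψ))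
    exact ((hnat _).symm.trans e').trans (hnat _)
  let B₁ := Localization.Away (X * f)
  let P : Over S := Over.mk (Spec.map (CommRingCat.ofHom (algebraMap (Polynomial R) B₁)) ≫
    (chartObj s (C : R →+* Polynomial R)).hom)
  let v : P ⟶ chartObj s (C : R →+* Polynomial R) :=
    Over.homMk (Spec.map (CommRingCat.ofHom (algebraMap (Polynomial R) B₁))) rfl
  have hXf : IsUnit (algebraMap (Polynomial R) B₁ (X * f)) := IsLocalization.Away.algebraMap_isUnit _
  rw [map_mul, IsUnit.mul_iff] at hXf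
  obtain ⟨g, g', hgg, hψ⟩ := line_eq_orbit (a := a) (s := s) B₁ hXf.1
  have hv : v ≫ line s ≫ φ₁.1 = v ≫ line s ≫ φ₂.1 := by
    apply Over.OverMorphism.ext
    have e : Spec.map (CommRingCat.ofHom (algebraMap (Polynomial R) B₁)) =
        Spec.map (CommRingCat.ofHom (IsLocalization.Away.lift f hXf.2 : B →+* B₁)) ≫ vf := by
      rw [← Spec.map_comp, ← CommRingCat.ofHom_comp, IsLocalization.Away.lift_comp]
    show Spec.map _ ≫ (line s ≫ φ₁.1).left = Spec.map _ ≫ (line s ≫ φ₂.1).left
    rw [e, Category.assoc, Category.assoc, hD]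
  have hc : (_root_.Magnet.attrToX a NatM).app (op (Over.mk s)) φ₁ =
      (_root_.Magnet.attrToX a NatM).app (op (Over.mk s)) φ₂ := by
    have e : ∀ x : P ⟶ Xs', lift g' (lift g x ≫ a.act) ≫ a.act = x := fun x => by
      rw [← a.lift_mul_act, hgg, a.lift_one_act]
    have e2 := congrArg (fun z => lift g' z ≫ a.act) (((hψ φ₁).symm.trans hv).trans (hψ φ₂))
    rw [e, e] at e2
    let π := (v ≫ line s ≫ snd _ _).left
    have hπ : π = Spec.map (CommRingCat.ofHom ((algebraMap (Polynomial R) B₁).comp C)) := by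
      show (v ≫ chart s C (polyChar R) ≫ snd _ _).left = _
      rw [chart, lift_snd, CommRingCat.ofHom_comp, Spec.map_comp]
      rfl
    have : Flat π := by
      rw [hπ, HasRingHomProperty.Spec_iff (P := @Flat)]
      exact flat_away (X * f) B₁
    have : Surjective π := by
      rw [hπ]
      refine ⟨comap_surjective_away (f := X * f) (fun p h0 => ?_) B₁⟩
      have e0 := congrArg (fun q => Polynomial.coeff q 1) h0
      rw [Polynomial.coeff_map, Polynomial.coeff_X_mul, Polynomial.coeff_zero] at e0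
      exact (hf.map (algebraMap R p.asIdeal.ResidueField)).ne_zero e0
    have : QuasiCompact π := by
      have : IsAffine P.left := isAffine_Spec _
      have : IsAffine (Over.mk s).left := isAffine_Spec _
      exact inferInstance
    have : Epi π := Flat.epi_of_flat_of_surjective _
    apply Over.OverMorphism.ext
    exact (cancel_epi π).1 (congrArg CommaMorphism.left e2)
  apply Subtype.ext
  have := chart_isIso s C (polyChar R) (isMonAlg_poly R)
  rw [← cancel_epi (line s)]
  apply Over.OverMorphism.ext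
  let 𝒰 := Scheme.affineOpenCoverOfSpanRangeEqTop (R := CommRingCat.of (Polynomial R))
    (fun b : ULift.{u} Bool => if b.down then f else X) (by
      rw [Ideal.eq_top_iff_one]
      obtain ⟨w, hw⟩ := Polynomial.X_dvd_iff.2 (show (f - C (f.coeff 0)).coeff 0 = 0 by simp)
      have hm : f - X * w ∈ Ideal.span (Set.range fun b : ULift.{u} Bool => if b.down then f else (X : Polynomial R)) :=
        Submodule.sub_mem _ (Ideal.subset_span ⟨⟨true⟩, rfl⟩)
          (Ideal.mul_mem_right _ _ (Ideal.subset_span ⟨⟨false⟩, rfl⟩))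
      rw [← hw, sub_sub_cancel] at hm
      exact (Ideal.eq_top_iff_one _).1 (Ideal.eq_top_of_isUnit_mem _ hm (hf.map C)))
  refine Scheme.Cover.hom_ext 𝒰.openCover _ _ fun b => ?_
  rcases b with ⟨_ | _⟩
  · let B₂ := Localization.Away (X : Polynomial R)
    let P₂ : Over S := Over.mk (Spec.map (CommRingCat.ofHom (algebraMap (Polynomial R) B₂)) ≫
      (chartObj s (C : R →+* Polynomial R)).hom)
    let v₂ : P₂ ⟶ chartObj s (C : R →+* Polynomial R) :=
      Over.homMk (Spec.map (CommRingCat.ofHom (algebraMap (Polynomial R) B₂))) rfl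
    obtain ⟨g₂, -, -, hψ₂⟩ :=
      line_eq_orbit (a := a) (s := s) B₂ (IsLocalization.Away.algebraMap_isUnit (X : Polynomial R))
    exact congrArg CommaMorphism.left (((hψ₂ φ₁).trans (by rw [hc])).trans (hψ₂ φ₂).symm)
  · exact hD

/-- Attractor points agreeing on nilpotent points agree. -/
theorem eq_of_nilAgree {Y : Over S} (γ₁ γ₂ : (_root_.Magnet.attr a NatM).obj (op Y))
    (h : NilAgree γ₁.1 γ₂.1) : γ₁ = γ₂ := by
  apply Subtype.ext
  refine tensor_hom_ext_local fun y => ?_
  obtain ⟨R, t, ht, hy⟩ := show ∃ (R : CommRingCat.{u}) (t : Spec R ⟶ Y.left),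
      IsOpenImmersion t ∧ y ∈ Set.range t from by
    obtain ⟨_, ⟨V, hV, rfl⟩, hyV, -⟩ :=
      Y.left.isBasis_affineOpens.exists_subset_of_mem_open (Set.mem_univ y) isOpen_univ
    exact ⟨_, hV.fromSpec, inferInstance, by rwa [hV.range_fromSpec]⟩
  obtain ⟨p, rfl⟩ := hy
  let jt : Over.mk (t ≫ Y.hom) ⟶ Y := Over.homMk t rfl
  let g₁ := (line (t ≫ Y.hom) ≫ (_root_.Magnet.AMonS S NatM ◁ jt) ≫ γ₁.1).left
  let g₂ := (line (t ≫ Y.hom) ≫ (_root_.Magnet.AMonS S NatM ◁ jt) ≫ γ₂.1).left
  let z : Spec R ⟶ Spec (CommRingCat.of (Polynomial R)) :=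
    Spec.map (CommRingCat.ofHom (Polynomial.evalRingHom (0 : R)))
  have hz : z ≫ g₁ = z ≫ g₂ := by
    have e := (h.comp jt).trunc (R := R) 0
    let q : Polynomial R ⧸ Ideal.span {(X : Polynomial R) ^ (0 + 1)} →+* R :=
      Ideal.Quotient.lift _ (Polynomial.evalRingHom 0) (fun w hw => by
        obtain ⟨d, rfl⟩ := Ideal.mem_span_singleton.1 hw
        simp)
    have e2 : z = Spec.map (CommRingCat.ofHom q) ≫ Spec.map (CommRingCat.ofHom (Ideal.Quotient.mk _)) := by
      rw [← Spec.map_comp, ← CommRingCat.ofHom_comp]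
      rfl
    rw [e2, Category.assoc, Category.assoc]
    exact congrArg (_ ≫ ·) e
  obtain ⟨_, ⟨W, hW, rfl⟩, hwW, -⟩ :=
    Xs'.left.isBasis_affineOpens.exists_subset_of_mem_open (Set.mem_univ ((z ≫ g₁) p)) isOpen_univ
  obtain ⟨_, ⟨f, rfl⟩, hfp, hfW⟩ := PrimeSpectrum.isTopologicalBasis_basic_opens.exists_subset_of_mem_open
    (show z p ∈ ((g₁ ⁻¹ᵁ W ⊓ g₂ ⁻¹ᵁ W : (Spec (CommRingCat.of (Polynomial R))).Opens) : Set _) from
      ⟨hwW, show (z ≫ g₂) p ∈ W from hz ▸ hwW⟩)
    (g₁ ⁻¹ᵁ W ⊓ g₂ ⁻¹ᵁ W).2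
  have hf0 : f.coeff 0 ∉ p.asIdeal := fun hm => hfp (by
    show f.eval 0 ∈ p.asIdeal
    rwa [← Polynomial.coeff_zero_eq_eval_zero])
  let R' := Localization.Away (f.coeff 0)
  let l : Spec (CommRingCat.of R') ⟶ Spec R := Spec.map (CommRingCat.ofHom (algebraMap R R'))
  have : IsOpenImmersion l := IsOpenImmersion.of_isLocalization (f.coeff 0)
  refine ⟨_, l ≫ t, inferInstance, ?_, ?_⟩
  · have hp : p ∈ Set.range (PrimeSpectrum.comap (algebraMap R R')) := by
      rw [PrimeSpectrum.localization_away_comap_range R' (f.coeff 0)]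
      exact hf0
    obtain ⟨q, hq⟩ := hp
    exact ⟨q, congrArg t hq⟩
  · let jl : Over.mk ((l ≫ t) ≫ Y.hom) ⟶ Y := Over.homMk (l ≫ t) rfl
    let jR : Over.mk ((l ≫ t) ≫ Y.hom) ⟶ Over.mk (t ≫ Y.hom) := Over.homMk l (Category.assoc _ _ _).symm
    let mR : Polynomial R →+* Polynomial R' := Polynomial.mapRingHom (algebraMap R R')
    obtain ⟨d, hd', hd⟩ : ∃ d : chartObj ((l ≫ t) ≫ Y.hom) (C : R' →+* Polynomial R') ⟶
        chartObj (t ≫ Y.hom) (C : R →+* Polynomial R),
        d.left = Spec.map (CommRingCat.ofHom mR) ∧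
          d ≫ line (t ≫ Y.hom) = line ((l ≫ t) ≫ Y.hom) ≫ (_root_.Magnet.AMonS S NatM ◁ jR) :=
      line_natural (algebraMap R R') (t ≫ Y.hom) ((l ≫ t) ≫ Y.hom) (Category.assoc _ _ _)
    have hle : ∀ γ : _root_.Magnet.AMonS S NatM ⊗ Y ⟶ Xs',
        PrimeSpectrum.basicOpen f ≤ (line (t ≫ Y.hom) ≫ (_root_.Magnet.AMonS S NatM ◁ jt) ≫ γ).left ⁻¹ᵁ W →
        PrimeSpectrum.basicOpen (mR f) ≤
          (line ((l ≫ t) ≫ Y.hom) ≫ (_root_.Magnet.AMonS S NatM ◁ jl) ≫ γ).left ⁻¹ᵁ W := fun γ hγ x hx => by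
      have e : jR ≫ jt = jl := rfl
      show (line ((l ≫ t) ≫ Y.hom) ≫ (_root_.Magnet.AMonS S NatM ◁ jl) ≫ γ).left x ∈ W
      have e2 : line ((l ≫ t) ≫ Y.hom) ≫ (_root_.Magnet.AMonS S NatM ◁ jl) ≫ γ =
          d ≫ line (t ≫ Y.hom) ≫ (_root_.Magnet.AMonS S NatM ◁ jt) ≫ γ := by
        rw [reassoc_of% hd]
        simp only [← e, MonoidalCategory.whiskerLeft_comp, Category.assoc]
      rw [e2, Over.comp_left, hd']
      exact hγ (show f ∉ Ideal.comap mR x.asIdeal from hx)
    have key := eq_of_nilAgree_affine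
      ((_root_.Magnet.attr a NatM).map jl.op γ₁) ((_root_.Magnet.attr a NatM).map jl.op γ₂) (h.comp jl)
      (f := mR f) (by
        rw [show (mR f).coeff 0 = algebraMap R R' (f.coeff 0) from Polynomial.coeff_map _ _]
        exact IsLocalization.Away.algebraMap_isUnit _)
      hW (hle _ fun x hx => (hfW hx).1) (hle _ fun x hx => (hfW hx).2)
    exact congrArg Subtype.val key

end Main

end Groth.L11.Magnet
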