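import Groth.Prelude.Def_Magnet3
import Groth.Prelude.Def_QuotSh
import Mathlib.AlgebraicGeometry.Sites.Fpqc
import Mathlib.AlgebraicGeometry.Sites.BigZariski
import Mathlib.CategoryTheory.Sites.Over

/-!
Functors of equivariant maps and fixed points are sheaves for subcanonical topologies.
-/

set_option autoImplicit false
universe v₁ u₁ u

open CategoryTheory CategoryTheory.Limits MonoidalCategory CartesianMonoidalCategory MonObj Opposite

set_option backward.isDefEq.respectTransparency.types false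

noncomputable section

namespace Groth.L11.Magnet

/-- The slice of a subcanonical topology is subcanonical. -/
theorem subcanonical_over {C : Type u₁} [Category.{v₁} C] (J : GrothendieckTopology C) [J.Subcanonical] (X : C) :
    (J.over X).Subcanonical := by
  refine GrothendieckTopology.Subcanonical.of_isSheaf_yoneda_obj _ fun W Y R hR => ?_
  intro x hx
  have hS : Sieve.overEquiv Y R ∈ J Y.left := hR
  let y : Presieve.FamilyOfElements (yoneda.obj W.left) (Sieve.overEquiv Y R : Presieve Y.left) := fun Z g hg =>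
    (x (Over.homMk g : Over.mk (g ≫ Y.hom) ⟶ Y) ((Sieve.overEquiv_iff R g).1 hg)).left
  have hy : y.Compatible := by
    intro Z₁ Z₂ V g₁ g₂ f₁ f₂ h₁ h₂ e
    have := hx (Over.homMk g₁ rfl : Over.mk (g₁ ≫ f₁ ≫ Y.hom) ⟶ Over.mk (f₁ ≫ Y.hom))
      (Over.homMk g₂ (by simp [reassoc_of% e]) : Over.mk (g₁ ≫ f₁ ≫ Y.hom) ⟶ Over.mk (f₂ ≫ Y.hom))
      ((Sieve.overEquiv_iff R f₁).1 h₁) ((Sieve.overEquiv_iff R f₂).1 h₂) (Over.OverMorphism.ext e)
    exact congrArg CommaMorphism.left this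
  obtain ⟨m, hm, hu⟩ := (GrothendieckTopology.Subcanonical.isSheaf_of_isRepresentable (J := J) (yoneda.obj W.left))
    _ hS y hy
  have hw : m ≫ W.hom = Y.hom := by
    refine ((GrothendieckTopology.Subcanonical.isSheaf_of_isRepresentable (J := J) (yoneda.obj X)) _ hS).isSeparatedFor.ext
      fun Z g hg => ?_
    show g ≫ m ≫ W.hom = g ≫ Y.hom
    rw [← Category.assoc, show g ≫ m = y g hg from hm g hg]
    exact Over.w (x (Over.homMk g : Over.mk (g ≫ Y.hom) ⟶ Y) ((Sieve.overEquiv_iff R g).1 hg))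
  refine ⟨Over.homMk m hw, fun Z f hf => ?_, fun t ht => ?_⟩
  · apply Over.OverMorphism.ext
    show f.left ≫ m = (x f hf).left
    have hg : Sieve.overEquiv Y R f.left := by
      rw [Sieve.overEquiv_iff]
      have e : (Over.homMk f.left : Over.mk (f.left ≫ Y.hom) ⟶ Y) =
          (Over.homMk (U := Over.mk (f.left ≫ Y.hom)) (𝟙 Z.left) (by simp) : _ ⟶ Z) ≫ f :=
        Over.OverMorphism.ext (Category.id_comp _).symm
      rw [e]
      exact R.downward_closed hf _
    rw [show f.left ≫ m = y f.left hg from hm f.left hg]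
    have := hx (𝟙 _) (Over.homMk (U := Over.mk (f.left ≫ Y.hom)) (𝟙 Z.left) (by simp) : _ ⟶ Z)
      ((Sieve.overEquiv_iff R f.left).1 hg) hf (Over.OverMorphism.ext rfl)
    exact (Category.id_comp _).symm.trans ((congrArg CommaMorphism.left this).trans (Category.id_comp _))
  · apply Over.OverMorphism.ext
    refine hu t.left fun Z g hg => ?_
    exact congrArg CommaMorphism.left (ht (Over.homMk g : Over.mk (g ≫ Y.hom) ⟶ Y) ((Sieve.overEquiv_iff R g).1 hg))

open _root_.Magnet

variable {C : Type u₁} [Category.{v₁} C] [CartesianMonoidalCategory C] (J : GrothendieckTopology C) [J.Subcanonical]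
variable {A B X : C} [MonObj A]

theorem hom_ext_cover {W Z : C} {R : Sieve W} (hR : R ∈ J W) {f g : W ⟶ Z}
    (h : ∀ (V : C) (k : V ⟶ W), R k → k ≫ f = k ≫ g) : f = g :=
  ((GrothendieckTopology.Subcanonical.isSheaf_of_isRepresentable (J := J) (yoneda.obj Z)) _ hR).isSeparatedFor.ext
    fun V k hk => h V k hk

theorem isSheaf_eqvHom (ρ : MonAct A B) (a : MonAct A X) : Presieve.IsSheaf J (MonAct.eqvHom ρ a) := by
  intro T R hR x hx
  let R' : Sieve (B ⊗ T) := R.pullback (snd B T)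
  have hR' : R' ∈ J (B ⊗ T) := J.pullback_stable _ hR
  let y : Presieve.FamilyOfElements (yoneda.obj X) (R' : Presieve (B ⊗ T)) := fun Z h hh =>
    lift (h ≫ fst B T) (𝟙 Z) ≫ (x (h ≫ snd B T) hh).1
  have hy : y.Compatible := by
    rw [Presieve.compatible_iff_sieveCompatible]
    intro Z V h g hh
    show lift ((g ≫ h) ≫ fst B T) (𝟙 V) ≫ (x ((g ≫ h) ≫ snd B T) (R'.downward_closed hh g)).1 =
      g ≫ lift (h ≫ fst B T) (𝟙 Z) ≫ (x (h ≫ snd B T) hh).1
    have e : (B ◁ g) ≫ (x (h ≫ snd B T) hh).1 = (x ((g ≫ h) ≫ snd B T) (R'.downward_closed hh g)).1 := by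
      have := hx g (𝟙 V) hh (R'.downward_closed hh g) (by simp)
      simpa using congrArg Subtype.val this
    rw [← e, lift_whiskerLeft_assoc, comp_lift_assoc, Category.assoc, Category.comp_id, Category.id_comp]
  obtain ⟨m, hm, hu⟩ := (GrothendieckTopology.Subcanonical.isSheaf_of_isRepresentable (J := J) (yoneda.obj X))
    _ hR' y hy
  have key : ∀ ⦃Z : C⦄ (f : Z ⟶ T) (hf : R f), (B ◁ f) ≫ m = (x f hf).1 := by
    intro Z f hf
    have hh : R' (B ◁ f) := by
      show R ((B ◁ f) ≫ snd B T)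
      rw [whiskerLeft_snd]
      exact R.downward_closed hf _
    rw [show (B ◁ f) ≫ m = lift ((B ◁ f) ≫ fst B T) (𝟙 _) ≫ (x ((B ◁ f) ≫ snd B T) hh).1 from hm _ hh]
    have e : (B ◁ snd B Z) ≫ (x f hf).1 = (x ((B ◁ f) ≫ snd B T) hh).1 := by
      have := hx (snd B Z) (𝟙 _) hf hh (by simp)
      simpa using congrArg Subtype.val this
    rw [← e, whiskerLeft_fst, lift_whiskerLeft_assoc, Category.id_comp, lift_fst_snd, Category.id_comp]
  have hm' : MonAct.IsEquivariant (ρ.prod (MonAct.trivial A T)) a m := by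
    rw [MonAct.mem_eqvHom_iff]
    intro T' g b t
    refine hom_ext_cover J (J.pullback_stable t hR) fun V k hk => ?_
    have h1 := (MonAct.mem_eqvHom_iff (x (k ≫ t) hk).1).1 (x (k ≫ t) hk).2 V (k ≫ g) (k ≫ b) (𝟙 V)
    rw [← key (k ≫ t) hk, lift_whiskerLeft_assoc, Category.id_comp, lift_whiskerLeft_assoc, Category.id_comp] at h1
    simpa only [comp_lift_assoc, comp_lift, Category.assoc] using h1
  refine ⟨⟨m, hm'⟩, fun Z f hf => Subtype.ext (key f hf), fun t ht => Subtype.ext (hu t.1 fun Z h hh => ?_)⟩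
  show h ≫ t.1 = lift (h ≫ fst B T) (𝟙 Z) ≫ (x (h ≫ snd B T) hh).1
  rw [← ht (h ≫ snd B T) hh]
  show _ = lift (h ≫ fst B T) (𝟙 Z) ≫ (B ◁ (h ≫ snd B T)) ≫ t.1
  rw [lift_whiskerLeft_assoc, Category.id_comp, lift_comp_fst_snd]

theorem isSheaf_fixedPsh (a : MonAct A X) : Presieve.IsSheaf J (MonAct.fixedPsh a) := by
  intro T R hR x hx
  let y : Presieve.FamilyOfElements (yoneda.obj X) (R : Presieve T) := fun Z h hh => (x h hh).1
  have hy : y.Compatible := fun Z₁ Z₂ V g₁ g₂ f₁ f₂ h₁ h₂ e => congrArg Subtype.val (hx g₁ g₂ h₁ h₂ e)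
  obtain ⟨m, hm, hu⟩ := (GrothendieckTopology.Subcanonical.isSheaf_of_isRepresentable (J := J) (yoneda.obj X))
    _ hR y hy
  refine ⟨⟨m, fun T' t g => ?_⟩, fun Z f hf => Subtype.ext (hm f hf),
    fun t ht => Subtype.ext (hu t.1 fun Z h hh => congrArg Subtype.val (ht h hh))⟩
  refine hom_ext_cover J (J.pullback_stable t hR) fun V k hk => ?_
  have e : k ≫ t ≫ m = (x (k ≫ t) hk).1 := (Category.assoc _ _ _).symm.trans (hm _ hk)
  have h1 := (x (k ≫ t) hk).2 V (𝟙 V) (k ≫ g)
  rw [Category.id_comp] at h1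
  rw [comp_lift_assoc, e]
  exact h1

end Groth.L11.Magnet
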