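import Groth.Agent.L11.Magnet.Dom
import Groth.Agent.L11.Magnet.Sheaf
import Groth.Agent.L11.Magnet.ClosedSub

/-!
Families on monoid schemes as orbit maps.
-/

set_option autoImplicit false
universe u

open CategoryTheory CategoryTheory.Limits MonoidalCategory CartesianMonoidalCategory MonObj AlgebraicGeometry Opposite

set_option backward.isDefEq.respectTransparency.types false

noncomputable section

namespace Groth.L11.Magnet

open _root_.Magnet

variable {S : Scheme.{u}}

/-- Charts are natural in the ring and the monoid. -/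
theorem chart_map {M N : Type} [AddCommMonoid M] [AddCommMonoid N] (f : N →+ M)
    {R R' : Type u} [CommRing R] [CommRing R'] (φ : R →+* R')
    {C C' : Type u} [CommRing C] [CommRing C'] (κ : R →+* C) (κ' : R' →+* C')
    (χ : Multiplicative N →* C) (χ' : Multiplicative M →* C') (G : C →+* C')
    (h1 : G.comp κ = κ'.comp φ) (h2 : ∀ n, G (χ n) = χ' (AddMonoidHom.toMultiplicative f n))
    (s : Spec (CommRingCat.of R) ⟶ S) (s' : Spec (CommRingCat.of R') ⟶ S)
    (j : Over.mk s' ⟶ Over.mk s) (hj : j.left = Spec.map (CommRingCat.ofHom φ)) :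
    ∃ d : chartObj s' κ' ⟶ chartObj s κ, d.left = Spec.map (CommRingCat.ofHom G) ∧
      d ≫ chart s κ χ = chart s' κ' χ' ≫ (AMonS.map S f ⊗ₘ j) := by
  have hs : Spec.map (CommRingCat.ofHom φ) ≫ s = s' := hj ▸ Over.w j
  let d : chartObj s' κ' ⟶ chartObj s κ := Over.homMk (Spec.map (CommRingCat.ofHom G)) (by
    show _ ≫ Spec.map _ ≫ s = Spec.map (CommRingCat.ofHom κ') ≫ s'
    rw [← hs, ← Spec.map_comp_assoc, ← Spec.map_comp_assoc, ← CommRingCat.ofHom_comp, ← CommRingCat.ofHom_comp, h1])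
  refine ⟨d, rfl, ?_⟩
  apply CartesianMonoidalCategory.hom_ext
  · apply MPts.char_injective
    refine MonoidHom.ext fun n => ?_
    rw [Category.assoc, MPts.char_comp, chart_fst_char, Category.assoc, tensorHom_fst, ← Category.assoc,
      MPts.char_map, chart_fst_char]
    exact (appTop_specMap G _).trans (congrArg _ (h2 n))
  · rw [Category.assoc, Category.assoc, tensorHom_snd, chart, chart, lift_snd, ← Category.assoc, lift_snd]
    apply Over.OverMorphism.ext
    show Spec.map (CommRingCat.ofHom G) ≫ Spec.map _ = Spec.map (CommRingCat.ofHom κ') ≫ j.left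
    rw [hj, ← Spec.map_comp, ← Spec.map_comp, ← CommRingCat.ofHom_comp, ← CommRingCat.ofHom_comp, h1]

variable {M : Type} [AddCommMonoid M] {N : AddSubmonoid M} {X : Over S}

/-- Morphisms restricting to an orbit map are equivariant if they are determined by their restriction. -/
theorem equivariant_of_orbit' (a : MonAct (AMonS S M) X) {T : Over S}
    (φ : AMonS S N ⊗ T ⟶ X) (x : T ⟶ X)
    (h : (AMonS.map S N.subtype ▷ T) ≫ φ = (AMonS S M ◁ x) ≫ a.act)
    (hc : ∀ ψ₁ ψ₂ : AMonS S N ⊗ (AMonS S M ⊗ T) ⟶ X,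
      (AMonS.map S N.subtype ▷ (AMonS S M ⊗ T)) ≫ ψ₁ = (AMonS.map S N.subtype ▷ (AMonS S M ⊗ T)) ≫ ψ₂ →
        ψ₁ = ψ₂) :
    ∃ φ' : (attr a N).obj (op T), φ'.1 = φ ∧ (attrToX a N).app (op T) φ' = x := by
  have hp : ∀ (T' : Over S) (g : T' ⟶ AMonS S M) (t : T' ⟶ T),
      lift (g ≫ AMonS.map S N.subtype) t ≫ φ = lift g (t ≫ x) ≫ a.act := fun T' g t => by
    rw [← lift_whiskerRight_assoc, h, lift_whiskerLeft_assoc]
  have he : MonAct.IsEquivariant ((subAct S M N).prod (MonAct.trivial (AMonS S M) T)) a φ := by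
    rw [MonAct.mem_eqvHom_iff]
    let ψ₁ : AMonS S N ⊗ (AMonS S M ⊗ T) ⟶ X :=
      lift (lift (snd _ _ ≫ fst _ _) (fst _ _) ≫ (subAct S M N).act) (snd _ _ ≫ snd _ _) ≫ φ
    let ψ₂ : AMonS S N ⊗ (AMonS S M ⊗ T) ⟶ X :=
      lift (snd _ _ ≫ fst _ _) (lift (fst _ _) (snd _ _ ≫ snd _ _) ≫ φ) ≫ a.act
    have hψ : ψ₁ = ψ₂ := by
      refine hc _ _ ?_
      apply _root_.Magnet.hom_ext_lift₂
      intro T' k q
      rw [lift_whiskerRight_assoc, lift_whiskerRight_assoc]
      simp only [ψ₁, ψ₂, comp_lift_assoc, comp_lift, lift_fst, lift_snd, lift_fst_assoc, lift_snd_assoc]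
      rw [show lift (q ≫ fst _ _) (k ≫ AMonS.map S N.subtype) ≫ (subAct S M N).act =
        ((q ≫ fst _ _) * k) ≫ AMonS.map S N.subtype by
          rw [subAct, MonAct.lift_restrict_act, MonAct.lift_regular_act, MonObj.mul_comp]]
      rw [hp, hp, MonAct.lift_mul_act]
    intro T' g b t
    have := congrArg (lift b (lift g t) ≫ ·) hψ
    simpa [ψ₁, ψ₂, comp_lift_assoc] using this
  refine ⟨⟨φ, he⟩, rfl, ?_⟩
  rw [MonAct.eqvHom.evalAt_app]
  have h1 : toUnit T ≫ η[AMonS S N] = (1 : T ⟶ AMonS S M) ≫ AMonS.map S N.subtype := by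
    rw [MonObj.one_comp, Hom.one_def]
  show lift (toUnit T ≫ η[AMonS S N]) (𝟙 T) ≫ φ = x
  rw [h1, hp, Category.id_comp, MonAct.lift_one_act]

/-- Morphisms to separated schemes restricting to an orbit map are equivariant. -/
theorem equivariant_of_orbit [IsSeparated X.hom] (a : MonAct (AMonS S M) X) {T : Over S}
    (φ : AMonS S N ⊗ T ⟶ X) (x : T ⟶ X)
    (h : (AMonS.map S N.subtype ▷ T) ≫ φ = (AMonS S M ◁ x) ≫ a.act) :
    ∃ φ' : (attr a N).obj (op T), φ'.1 = φ ∧ (attrToX a N).app (op T) φ' = x :=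
  equivariant_of_orbit' a φ x h fun _ _ e => cancel_map N.subtype (fun _ _ e => Subtype.ext e) e

/-- Values at one of families are unique for separated schemes. -/
theorem attrToX_injective [IsSeparated X.hom] (a : MonAct (AMonS S M) X) (N : AddSubmonoid M) {T : Over S}
    {φ φ' : (attr a N).obj (op T)} (h : (attrToX a N).app (op T) φ = (attrToX a N).app (op T) φ') : φ = φ' := by
  refine Subtype.ext (cancel_map N.subtype (fun _ _ e => Subtype.ext e) ?_)
  rw [orbit_eq, orbit_eq]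
  exact congrArg (fun z => (AMonS S M ◁ z) ≫ a.act) h

theorem attrToX_map (a : MonAct (AMonS S M) X) (N : AddSubmonoid M) {T T' : Over S} (k : T' ⟶ T)
    (φ : (attr a N).obj (op T)) :
    (attrToX a N).app (op T') ((attr a N).map k.op φ) = k ≫ (attrToX a N).app (op T) φ := by
  rw [MonAct.eqvHom.evalAt_app, MonAct.eqvHom.evalAt_app, MonAct.eqvHom_map_coe]
  simp [comp_lift_assoc]

/-- The point is the value at one of a family. -/
def InAttr (a : MonAct (AMonS S M) X) (N : AddSubmonoid M) (T : Over S) (x : T ⟶ X) : Prop :=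
  ∃ φ : (attr a N).obj (op T), (attrToX a N).app (op T) φ = x

theorem InAttr.comp {a : MonAct (AMonS S M) X} {T T' : Over S} {x : T ⟶ X} (h : InAttr a N T x)
    (k : T' ⟶ T) : InAttr a N T' (k ≫ x) := by
  obtain ⟨φ, rfl⟩ := h
  exact ⟨(attr a N).map k.op φ, attrToX_map a N k φ⟩

theorem InAttr.of_cover [IsSeparated X.hom] {a : MonAct (AMonS S M) X} {T : Over S} {x : T ⟶ X} {κ : Type u}
    (T' : κ → Over S) (k : ∀ i, T' i ⟶ T) (hf : ∀ i, Flat (k i).left)
    (hl : ∀ i, LocallyOfFinitePresentation (k i).left) (hs : ∀ t : T.left, ∃ i, t ∈ Set.range (k i).left)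
    (h : ∀ i, InAttr a N (T' i) (k i ≫ x)) : InAttr a N T x := by
  have : (Scheme.fppfTopology.{u}.over S).Subcanonical := subcanonical_over Scheme.fppfTopology S
  have hR := ofArrows_mem_over T' k hf hl hs
  have hex : ∀ ⦃Z : Over S⦄ (g : Z ⟶ T), Sieve.ofArrows T' k g → InAttr a N Z (g ≫ x) := by
    rintro Z g ⟨W, b, c, ⟨i⟩, rfl⟩
    rw [Category.assoc]
    exact (h i).comp b
  choose φ hφ using hex
  have hc : Presieve.FamilyOfElements.Compatible (P := attr a N) φ := by
    intro Z₁ Z₂ Z g₁ g₂ f₁ f₂ h₁ h₂ e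
    refine attrToX_injective a N ?_
    rw [attrToX_map, attrToX_map, hφ, hφ, reassoc_of% e]
  obtain ⟨m, hm, -⟩ := isSheaf_eqvHom (Scheme.fppfTopology.over S) (subAct S M N) a _ hR φ hc
  refine ⟨m, hom_ext_cover (Scheme.fppfTopology.over S) hR fun Z g hg => ?_⟩
  rw [← attrToX_map]
  exact (congrArg _ (hm g hg)).trans (hφ g hg)

end Groth.L11.Magnet
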