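import Groth.Agent.L11.Magnet.Face
import Groth.Agent.L11.Magnet.Orbit
import Groth.Agent.L11.Magnet.Dom
import Groth.Agent.L11.Magnet.ClosedSub
import Groth.Agent.L11.Magnet.Sheaf
import Groth.Agent.L11.Magnet.AffineRep
import Groth.Agent.L20.Pinch.Affine

/-!
Monoid schemes of glued monoids are push-outs.
-/

set_option autoImplicit false
universe u

open CategoryTheory CategoryTheory.Limits MonoidalCategory CartesianMonoidalCategory MonObj AlgebraicGeometry Opposite

set_option backward.isDefEq.respectTransparency.types false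

noncomputable section

namespace Groth.L11.Magnet

open _root_.Magnet

variable {M : Type} [AddCommMonoid M] {N N' L L' : AddSubmonoid M}

theorem coeff_faceAlgHom' (R : Type u) [CommRing R] (hF : IsFace L' L) (y : MonoidAlgebra R (Multiplicative L'))
    (l : L) : (faceAlgHom R hF y).coeff (Multiplicative.ofAdd l) =
      y.coeff (Multiplicative.ofAdd (⟨l, hF.le l.2⟩ : L')) := by
  classical
  induction y using MonoidAlgebra.induction_linear with
  | zero => simp
  | add x y hx hy => simp [hx, hy]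
  | single k r =>
    obtain ⟨k', rfl⟩ : ∃ k', Multiplicative.ofAdd k' = k := ⟨k.toAdd, rfl⟩
    by_cases hk : (k' : M) ∈ L
    · rw [faceAlgHom_single_of_mem R hF k' hk, MonoidAlgebra.coeff_single, MonoidAlgebra.coeff_single,
        Finsupp.single_apply, Finsupp.single_apply]
      refine if_congr ⟨fun h => ?_, fun h => ?_⟩ rfl rfl
      · exact congrArg Multiplicative.ofAdd (Subtype.ext (congrArg Subtype.val (Multiplicative.ofAdd.injective h) :
          (k' : M) = l))
      · exact congrArg Multiplicative.ofAdd (Subtype.ext (congrArg Subtype.val (Multiplicative.ofAdd.injective h) :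
          (k' : M) = l))
    · rw [faceAlgHom_single_of_not_mem R hF k' hk, MonoidAlgebra.coeff_single, Finsupp.single_apply, if_neg]
      · simp
      · intro h
        exact hk (Multiplicative.ofAdd.injective h ▸ l.2)

/-- The inclusion of monoid algebras. -/
abbrev inclAlg (R : Type u) [CommRing R] (h : N ≤ L) :
    MonoidAlgebra R (Multiplicative N) →+* MonoidAlgebra R (Multiplicative L) :=
  MonoidAlgebra.mapDomainRingHom R (AddMonoidHom.toMultiplicative (AddSubmonoid.inclusion h))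

theorem inclAlg_injective (R : Type u) [CommRing R] (h : N ≤ L) : Function.Injective (inclAlg R h) :=
  MonoidAlgebra.mapDomain_injective (fun _ _ e => Multiplicative.toAdd.injective (Subtype.ext
    (congrArg (fun z : Multiplicative L => (z.toAdd : M)) e)))

variable (hNL : N ≤ L) (hN'L' : N' ≤ L') (hL : IsFace L' L) (hN : IsFace N' N)
  (hdiff : (N' : Set M) = (L' : Set M) \ ((L : Set M) \ (N : Set M)))

include hNL hN'L' hL hN hdiff in
theorem isFib_comm (R : Type u) [CommRing R] :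
    (inclAlg R hNL).comp (faceAlgHom R hN).toRingHom = (faceAlgHom R hL).toRingHom.comp (inclAlg R hN'L') := by
  refine MonoidAlgebra.ringHom_ext (fun r => ?_) fun n => ?_
  · show inclAlg R hNL (faceAlgHom R hN (algebraMap R _ r)) = faceAlgHom R hL (inclAlg R hN'L' (algebraMap R _ r))
    rw [(faceAlgHom R hN).commutes, show inclAlg R hN'L' (algebraMap R _ r) = algebraMap R _ r by simp,
      (faceAlgHom R hL).commutes]
    simp
  · obtain ⟨n', rfl⟩ : ∃ k, Multiplicative.ofAdd k = n := ⟨n.toAdd, rfl⟩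
    show inclAlg R hNL (faceAlgHom R hN (MonoidAlgebra.single _ 1)) =
      faceAlgHom R hL (inclAlg R hN'L' (MonoidAlgebra.single (Multiplicative.ofAdd n') 1))
    rw [show inclAlg R hN'L' (MonoidAlgebra.single (Multiplicative.ofAdd n') 1) =
      MonoidAlgebra.single (Multiplicative.ofAdd (⟨n', hN'L' n'.2⟩ : L')) 1 from MonoidAlgebra.mapDomain_single]
    by_cases h : (n' : M) ∈ N
    · rw [faceAlgHom_single_of_mem R hN n' h, faceAlgHom_single_of_mem R hL _ (hNL h)]
      exact MonoidAlgebra.mapDomain_single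
    · have h' : (n' : M) ∉ L := fun hl => by
        have hn' := n'.2
        rw [← SetLike.mem_coe, hdiff] at hn'
        exact hn'.2 ⟨hl, h⟩
      rw [faceAlgHom_single_of_not_mem R hN n' h, faceAlgHom_single_of_not_mem R hL _ h', map_zero]

include hNL hN'L' hL hN hdiff in
theorem isFib_faces (R : Type u) [CommRing R] :
    Groth.L20.Pinch.IsFib (faceAlgHom R hN).toRingHom (inclAlg R hN'L') (inclAlg R hNL)
      (faceAlgHom R hL).toRingHom where
  comm := isFib_comm hNL hN'L' hL hN hdiff R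
  inj t _ h := inclAlg_injective R hN'L' (h.trans (map_zero _).symm)
  glue x y e := by
    classical
    have hinj : Function.Injective (AddMonoidHom.toMultiplicative (AddSubmonoid.inclusion hN'L')) :=
      fun _ _ e => Multiplicative.toAdd.injective (Subtype.ext
        (congrArg (fun z : Multiplicative L' => (z.toAdd : M)) e))
    have hy : ∀ m : Multiplicative L', (m.toAdd : M) ∉ N' → y.coeff m = 0 := by
      intro m hm
      have hm' : (m.toAdd : M) ∈ (L : Set M) \ (N : Set M) := by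
        by_contra h
        apply hm
        rw [← SetLike.mem_coe, hdiff]
        exact ⟨m.toAdd.2, h⟩
      have h1 := congrArg (fun z => z.coeff (Multiplicative.ofAdd (⟨_, hm'.1⟩ : L))) e
      simp only [AlgHom.toRingHom_eq_coe, RingHom.coe_coe, coeff_faceAlgHom'] at h1
      refine Eq.trans h1.symm ?_
      show Finsupp.mapDomain _ x.coeff _ = 0
      refine Finsupp.mapDomain_of_notMem_range _ _ fun ⟨n, hn⟩ => hm'.2 ?_
      rw [show (m.toAdd : M) = (n.toAdd : M) from
        (congrArg (fun z : Multiplicative L => (z.toAdd : M)) hn).symm]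
      exact n.toAdd.2
    refine ⟨_, ?_, MonoidAlgebra.mapDomain_comapDomain
      (f := AddMonoidHom.toMultiplicative (AddSubmonoid.inclusion hN'L')) ?_ hinj⟩
    · apply inclAlg_injective R hNL
      refine Eq.trans ?_ e.symm
      refine Eq.trans ?_ (congrArg (faceAlgHom R hL) (MonoidAlgebra.mapDomain_comapDomain
        (f := AddMonoidHom.toMultiplicative (AddSubmonoid.inclusion hN'L')) ?_ hinj))
      · exact DFunLike.congr_fun (show (inclAlg R hNL).comp (faceAlgHom R hN).toRingHom =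
          (faceAlgHom R hL).toRingHom.comp (inclAlg R hN'L') from isFib_comm hNL hN'L' hL hN hdiff R) _
      · intro m hm
        by_cases h : (m.toAdd : M) ∈ N'
        · exact ⟨Multiplicative.ofAdd ⟨_, h⟩, rfl⟩
        · exact absurd (hy m h) (Finsupp.mem_support_iff.1 hm)
    · intro m hm
      by_cases h : (m.toAdd : M) ∈ N'
      · exact ⟨Multiplicative.ofAdd ⟨_, h⟩, rfl⟩
      · exact absurd (hy m h) (Finsupp.mem_support_iff.1 hm)
  surj z := ⟨inclAlg R hL.le z, DFunLike.congr_fun (faceAlgHom_comp_mapDomain R hL) z⟩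

section Scheme

variable {S : Scheme.{u}}

include hdiff in
theorem faces_chart {X : Over S} {R : Type u} [CommRing R] (s : Spec (CommRingCat.of R) ⟶ S) :
    (∀ φ φ' : AMonS S N' ⊗ Over.mk s ⟶ X,
      (AMonS.map S (AddSubmonoid.inclusion hN'L') ▷ Over.mk s) ≫ φ =
        (AMonS.map S (AddSubmonoid.inclusion hN'L') ▷ Over.mk s) ≫ φ' →
      (AMonS.faceMap S hN ▷ Over.mk s) ≫ φ = (AMonS.faceMap S hN ▷ Over.mk s) ≫ φ' → φ = φ') ∧
    (∀ (h₁ : AMonS S L' ⊗ Over.mk s ⟶ X) (h₂ : AMonS S N ⊗ Over.mk s ⟶ X),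
      (AMonS.faceMap S hL ▷ Over.mk s) ≫ h₁ = (AMonS.map S (AddSubmonoid.inclusion hNL) ▷ Over.mk s) ≫ h₂ →
      ∃ φ : AMonS S N' ⊗ Over.mk s ⟶ X, (AMonS.map S (AddSubmonoid.inclusion hN'L') ▷ Over.mk s) ≫ φ = h₁ ∧
        (AMonS.faceMap S hN ▷ Over.mk s) ≫ φ = h₂) := by
  have hI : ∀ {P Q : AddSubmonoid M} (h : P ≤ Q), ∃ d : chartObj s (mkap R Q) ⟶ chartObj s (mkap R P),
      d.left = Spec.map (CommRingCat.ofHom (inclAlg R h)) ∧
        d ≫ chart s (mkap R P) (mchi R P) =
          chart s (mkap R Q) (mchi R Q) ≫ (AMonS.map S (AddSubmonoid.inclusion h) ▷ Over.mk s) := by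
    intro P Q h
    obtain ⟨d, hd, hd'⟩ := chart_map (AddSubmonoid.inclusion h) (RingHom.id R) (mkap R P) (mkap R Q) (mchi R P)
      (mchi R Q) (inclAlg R h) (RingHom.ext fun r => by simp) (fun n => MonoidAlgebra.mapDomain_single) s s (𝟙 _)
      (by simp)
    exact ⟨d, hd, by rw [hd', tensorHom_id]⟩
  obtain ⟨dI, hdI, hdI'⟩ := hI hN'L'
  obtain ⟨dJ, hdJ, hdJ'⟩ := hI hNL
  obtain ⟨dF, hdF, hdF'⟩ := chart_faceMap s hN
  obtain ⟨dG, hdG, hdG'⟩ := chart_faceMap s hL
  have hfib := isFib_faces hNL hN'L' hL hN hdiff R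
  refine ⟨fun φ φ' e₁ e₂ => ?_, fun h₁ h₂ e => ?_⟩
  · rw [← cancel_epi (chart s (mkap R N') (mchi R N'))]
    apply Over.OverMorphism.ext
    refine hfib.hom_ext_spec _ _ ?_ ?_
    · have := congrArg (fun z => (chart s (mkap R N) (mchi R N) ≫ z).left) e₂
      simp only [← Category.assoc, ← hdF'] at this
      simpa [Groth.L09.Patch.sp, hdF] using this
    · have := congrArg (fun z => (chart s (mkap R L') (mchi R L') ≫ z).left) e₁
      simp only [← Category.assoc, ← hdI'] at this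
      simpa [Groth.L09.Patch.sp, hdI] using this
  · let g₁ := chart s (mkap R L') (mchi R L') ≫ h₁
    let g₂ := chart s (mkap R N) (mchi R N) ≫ h₂
    have eg : dG ≫ g₁ = dJ ≫ g₂ := by
      simp only [g₁, g₂, reassoc_of% hdG', reassoc_of% hdJ', e]
    obtain ⟨H, H₁, H₂⟩ := hfib.exists_desc_hom g₂.left g₁.left (by
      have := congrArg Over.Hom.left eg.symm
      simpa [Groth.L09.Patch.sp, hdG, hdJ] using this)
    let Ho : chartObj s (mkap R N') ⟶ X := Over.homMk H (hfib.hom_ext_spec _ _ (by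
      rw [reassoc_of% H₁, Over.w g₂]
      rw [← Over.w dF, hdF]) (by
      rw [reassoc_of% H₂, Over.w g₁]
      rw [← Over.w dI, hdI]))
    refine ⟨inv (chart s (mkap R N') (mchi R N')) ≫ Ho, ?_, ?_⟩
    · rw [← cancel_epi (chart s (mkap R L') (mchi R L')), ← reassoc_of% hdI', IsIso.hom_inv_id_assoc]
      apply Over.OverMorphism.ext
      rw [Over.comp_left, hdI]
      exact H₂
    · rw [← cancel_epi (chart s (mkap R N) (mchi R N)), ← reassoc_of% hdF', IsIso.hom_inv_id_assoc]
      apply Over.OverMorphism.ext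
      rw [Over.comp_left, hdF]
      exact H₁

include hNL hL hdiff in
theorem faces_hom_ext {T X : Over S} {φ φ' : AMonS S N' ⊗ T ⟶ X}
    (e₁ : (AMonS.map S (AddSubmonoid.inclusion hN'L') ▷ T) ≫ φ =
      (AMonS.map S (AddSubmonoid.inclusion hN'L') ▷ T) ≫ φ')
    (e₂ : (AMonS.faceMap S hN ▷ T) ≫ φ = (AMonS.faceMap S hN ▷ T) ≫ φ') : φ = φ' :=
  tensor_hom_ext fun R _ t _ => (faces_chart hNL hN'L' hL hN hdiff (t ≫ T.hom)).1 _ _
    (by rw [← Category.assoc, ← Category.assoc, ← whisker_exchange, Category.assoc, Category.assoc, e₁])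
    (by rw [← Category.assoc, ← Category.assoc, ← whisker_exchange, Category.assoc, Category.assoc, e₂])

include hdiff in
theorem faces_exists_desc {T X : Over S} (h₁ : AMonS S L' ⊗ T ⟶ X) (h₂ : AMonS S N ⊗ T ⟶ X)
    (e : (AMonS.faceMap S hL ▷ T) ≫ h₁ = (AMonS.map S (AddSubmonoid.inclusion hNL) ▷ T) ≫ h₂) :
    ∃ φ : AMonS S N' ⊗ T ⟶ X, (AMonS.map S (AddSubmonoid.inclusion hN'L') ▷ T) ≫ φ = h₁ ∧
      (AMonS.faceMap S hN ▷ T) ≫ φ = h₂ := by
  let J := Scheme.fppfTopology.{u}.over S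
  have : J.Subcanonical := subcanonical_over Scheme.fppfTopology S
  let Good : ∀ (Z : Over S), (Z ⟶ T) → (AMonS S N' ⊗ Z ⟶ X) → Prop := fun Z g φ =>
    (AMonS.map S (AddSubmonoid.inclusion hN'L') ▷ Z) ≫ φ = (AMonS S L' ◁ g) ≫ h₁ ∧
      (AMonS.faceMap S hN ▷ Z) ≫ φ = (AMonS S N ◁ g) ≫ h₂
  have hmap : ∀ {Z Z' : Over S} (g : Z ⟶ T) (c : Z' ⟶ Z) (φ : AMonS S N' ⊗ Z ⟶ X), Good Z g φ →
      Good Z' (c ≫ g) ((AMonS S N' ◁ c) ≫ φ) := by
    rintro Z Z' g c φ ⟨p₁, p₂⟩
    constructor
    · rw [← Category.assoc, ← whisker_exchange, Category.assoc, p₁, MonoidalCategory.whiskerLeft_comp, Category.assoc]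
    · rw [← Category.assoc, ← whisker_exchange, Category.assoc, p₂, MonoidalCategory.whiskerLeft_comp, Category.assoc]
  let T' : T.left.affineCover.I₀ → Over S := fun i => Over.mk (T.left.affineCover.f i ≫ T.hom)
  let k : ∀ i, T' i ⟶ T := fun i => Over.homMk (T.left.affineCover.f i) rfl
  have hk : ∀ i, IsOpenImmersion (T.left.affineCover.f i) := fun i => T.left.affineCover.map_prop i
  have hR := ofArrows_mem_over T' k (fun i => (have := hk i; inferInstanceAs (Flat (T.left.affineCover.f i))))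
    (fun i => (have := hk i; inferInstanceAs (LocallyOfFinitePresentation (T.left.affineCover.f i))))
    fun x => ⟨_, T.left.affineCover.covers x⟩
  have hloc : ∀ i, ∃ φ, Good (T' i) (k i) φ := fun i => by
    obtain ⟨φ, p₁, p₂⟩ := (faces_chart hNL hN'L' hL hN hdiff (T.left.affineCover.f i ≫ T.hom)).2
      ((AMonS S L' ◁ k i) ≫ h₁) ((AMonS S N ◁ k i) ≫ h₂)
      (by rw [← Category.assoc, ← whisker_exchange, Category.assoc, e, ← Category.assoc, whisker_exchange,
        Category.assoc])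
    exact ⟨φ, p₁, p₂⟩
  have hex : ∀ ⦃Z : Over S⦄ (g : Z ⟶ T), Sieve.ofArrows T' k g → ∃ φ, Good Z g φ := by
    rintro Z g ⟨W, b, c, ⟨i⟩, rfl⟩
    obtain ⟨φ, hφ⟩ := hloc i
    exact ⟨_, hmap (k i) b φ hφ⟩
  choose ψ hψ using hex
  let triv : ∀ (B : Over S), MonAct (𝟙_ (Over S)) B := fun B => MonAct.trivial _ B
  have heq : ∀ {Z : Over S} (φ : AMonS S N' ⊗ Z ⟶ X),
      MonAct.IsEquivariant ((triv (AMonS S N')).prod (MonAct.trivial _ Z)) (triv X) φ := by
    intro Z φ
    rw [MonAct.mem_eqvHom_iff]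
    intro T' g b t
    simp [triv]
  let fam : Presieve.FamilyOfElements (MonAct.eqvHom (triv (AMonS S N')) (triv X))
      (Sieve.ofArrows T' k : Presieve T) := fun Z g hg => ⟨ψ g hg, heq _⟩
  have hc : fam.Compatible := by
    intro Z₁ Z₂ Z g₁ g₂ f₁ f₂ p₁ p₂ eg
    refine Subtype.ext (faces_hom_ext hNL hN'L' hL hN hdiff ?_ ?_)
    · have q₁ := (hmap f₁ g₁ _ (hψ f₁ p₁)).1
      have q₂ := (hmap f₂ g₂ _ (hψ f₂ p₂)).1
      exact q₁.trans ((congrArg (fun z => (AMonS S L' ◁ z) ≫ h₁) eg).trans q₂.symm)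
    · have q₁ := (hmap f₁ g₁ _ (hψ f₁ p₁)).2
      have q₂ := (hmap f₂ g₂ _ (hψ f₂ p₂)).2
      exact q₁.trans ((congrArg (fun z => (AMonS S N ◁ z) ≫ h₂) eg).trans q₂.symm)
  obtain ⟨m, hm, -⟩ := isSheaf_eqvHom J (triv (AMonS S N')) (triv X) _ hR fam hc
  have hres : ∀ {P : Over S} (u : P ⊗ T ⟶ X) (v : P ⊗ T ⟶ X),
      (∀ Z (g : Z ⟶ T), Sieve.ofArrows T' k g → (P ◁ g) ≫ u = (P ◁ g) ≫ v) → u = v := by
    intro P u v h
    refine hom_ext_cover J (J.pullback_stable (snd P T) hR) fun V q hq => ?_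
    have := congrArg (lift (q ≫ fst P T) (𝟙 V) ≫ ·) (h V (q ≫ snd P T) hq)
    simpa [lift_whiskerLeft_assoc] using this
  refine ⟨m.1, hres _ _ fun Z g hg => ?_, hres _ _ fun Z g hg => ?_⟩
  · rw [← Category.assoc, whisker_exchange, Category.assoc, show (AMonS S N' ◁ g) ≫ m.1 = ψ g hg from
      congrArg Subtype.val (hm g hg)]
    exact (hψ g hg).1
  · rw [← Category.assoc, whisker_exchange, Category.assoc, show (AMonS S N' ◁ g) ≫ m.1 = ψ g hg from
      congrArg Subtype.val (hm g hg)]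
    exact (hψ g hg).2

include hNL hN'L' hL hN hdiff in
theorem faces_comm :
    AMonS.faceMap S hL ≫ AMonS.map S (AddSubmonoid.inclusion hN'L') =
      AMonS.map S (AddSubmonoid.inclusion hNL) ≫ AMonS.faceMap S hN := by
  suffices h : ∀ (T : Over S) (t : T ⟶ AMonS S L), t ≫ AMonS.faceMap S hL ≫ AMonS.map S (AddSubmonoid.inclusion hN'L') =
      t ≫ AMonS.map S (AddSubmonoid.inclusion hNL) ≫ AMonS.faceMap S hN by simpa using h _ (𝟙 _)
  intro T t
  refine MPts.char_injective (MonoidHom.ext fun n => ?_)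
  obtain ⟨n', rfl⟩ : ∃ k, Multiplicative.ofAdd k = n := ⟨n.toAdd, rfl⟩
  rw [← Category.assoc, MPts.char_map, ← Category.assoc]
  by_cases h : (n' : M) ∈ N
  · rw [char_faceMap_of_mem hN _ n' h, MPts.char_map]
    exact char_faceMap_of_mem hL t ⟨n', hN'L' n'.2⟩ (hNL h)
  · rw [char_faceMap_of_not_mem hN _ n' h]
    refine char_faceMap_of_not_mem hL t ⟨n', hN'L' n'.2⟩ fun hl => ?_
    have hn' := n'.2
    rw [← SetLike.mem_coe, hdiff] at hn'
    exact hn'.2 ⟨hl, h⟩

include hdiff in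
theorem isPushout_faces (T : Over S) :
    IsPushout (AMonS.faceMap S hL ▷ T) (AMonS.map S (AddSubmonoid.inclusion hNL) ▷ T)
      (AMonS.map S (AddSubmonoid.inclusion hN'L') ▷ T) (AMonS.faceMap S hN ▷ T) := by
  refine ⟨⟨?_⟩, ⟨PushoutCocone.IsColimit.mk _
    (fun c => (faces_exists_desc hNL hN'L' hL hN hdiff c.inl c.inr c.condition).choose)
    (fun c => (faces_exists_desc hNL hN'L' hL hN hdiff c.inl c.inr c.condition).choose_spec.1)
    (fun c => (faces_exists_desc hNL hN'L' hL hN hdiff c.inl c.inr c.condition).choose_spec.2)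
    fun c m h₁ h₂ => ?_⟩⟩
  · rw [← comp_whiskerRight, ← comp_whiskerRight, faces_comm hNL hN'L' hL hN hdiff]
  · have hs := (faces_exists_desc hNL hN'L' hL hN hdiff c.inl c.inr c.condition).choose_spec
    exact faces_hom_ext hNL hN'L' hL hN hdiff (h₁.trans hs.1.symm) (h₂.trans hs.2.symm)

include hdiff in
theorem isPushout_faces_unit :
    IsPushout (AMonS.faceMap S hL) (AMonS.map S (AddSubmonoid.inclusion hNL))
      (AMonS.map S (AddSubmonoid.inclusion hN'L')) (AMonS.faceMap S hN) :=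
  (isPushout_faces hNL hN'L' hL hN hdiff (𝟙_ (Over S))).of_iso (ρ_ _) (ρ_ _) (ρ_ _) (ρ_ _)
    (rightUnitor_naturality _) (rightUnitor_naturality _) (rightUnitor_naturality _) (rightUnitor_naturality _)

end Scheme

end Groth.L11.Magnet
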