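import Groth.Agent.L11.Magnet.Pushout

/-!
Attractors of glued monoids form cartesian squares.
-/

set_option autoImplicit false
universe u

open CategoryTheory CategoryTheory.Limits MonoidalCategory CartesianMonoidalCategory MonObj AlgebraicGeometry Opposite

set_option backward.isDefEq.respectTransparency.types false

noncomputable section

namespace Groth.L11.Magnet

open _root_.Magnet

variable {S : Scheme.{u}} {M : Type} [AddCommMonoid M] {N N' L L' : AddSubmonoid M}

/-- Attractors of glued monoids form a cartesian square. -/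
theorem isPullback_attr_faces {X : Over S} (a : MonAct (AMonS S M) X) (hNL : N ≤ L) (hN'L' : N' ≤ L')
    (hL : IsFace L' L) (hN : IsFace N' N) (hdiff : (N' : Set M) = (L' : Set M) \ ((L : Set M) \ (N : Set M))) :
    IsPullback (attrMap a hN'L') (attrFace a hN) (attrFace a hL) (attrMap a hNL) := by
  refine IsPullback.of_forall_isPullback_app fun T => ?_
  rw [Limits.Types.isPullback_iff]
  refine ⟨?_, ?_, ?_⟩
  · ext φ
    refine Subtype.ext ?_
    show (AMonS.faceMap S hL ▷ unop T) ≫ (AMonS.map S (AddSubmonoid.inclusion hN'L') ▷ unop T) ≫ φ.1 =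
      (AMonS.map S (AddSubmonoid.inclusion hNL) ▷ unop T) ≫ (AMonS.faceMap S hN ▷ unop T) ≫ φ.1
    rw [← Category.assoc, ← Category.assoc (AMonS.map S (AddSubmonoid.inclusion hNL) ▷ _), ← comp_whiskerRight,
      ← comp_whiskerRight, faces_comm hNL hN'L' hL hN hdiff]
  · rintro φ φ' ⟨e₁, e₂⟩
    exact Subtype.ext (faces_hom_ext hNL hN'L' hL hN hdiff (congrArg Subtype.val e₁) (congrArg Subtype.val e₂))
  · intro x y e
    obtain ⟨φ, h₁, h₂⟩ := faces_exists_desc hNL hN'L' hL hN hdiff x.1 y.1 (congrArg Subtype.val e)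
    have hφ : MonAct.IsEquivariant ((subAct S M N').prod (MonAct.trivial (AMonS S M) (unop T))) a φ := by
      rw [MonAct.mem_eqvHom_iff]
      let ψ₁ : AMonS S N' ⊗ (AMonS S M ⊗ unop T) ⟶ X :=
        lift (lift (snd _ _ ≫ fst _ _) (fst _ _) ≫ (subAct S M N').act) (snd _ _ ≫ snd _ _) ≫ φ
      let ψ₂ : AMonS S N' ⊗ (AMonS S M ⊗ unop T) ⟶ X :=
        lift (snd _ _ ≫ fst _ _) (lift (fst _ _) (snd _ _ ≫ snd _ _) ≫ φ) ≫ a.act
      have key : ∀ {P : AddSubmonoid M} (c : AMonS S P ⟶ AMonS S N')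
          (hc : MonAct.IsEquivariant (subAct S M P) (subAct S M N') c) (z : (attr a P).obj T),
          (c ▷ unop T) ≫ φ = z.1 → (c ▷ (AMonS S M ⊗ unop T)) ≫ ψ₁ = (c ▷ (AMonS S M ⊗ unop T)) ≫ ψ₂ := by
        intro P c hc z hz
        apply _root_.Magnet.hom_ext_lift₂
        intro T' k q
        rw [lift_whiskerRight_assoc, lift_whiskerRight_assoc]
        simp only [ψ₁, ψ₂, comp_lift_assoc, comp_lift, lift_fst, lift_snd, lift_fst_assoc, lift_snd_assoc]
        rw [← (MonAct.isEquivariant_iff _ _ _).1 hc T' (q ≫ fst _ _) k, ← Category.assoc (lift (q ≫ fst _ _) k),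
          ← lift_whiskerRight_assoc, hz, ← lift_whiskerRight_assoc k, hz]
        exact (MonAct.mem_eqvHom_iff z.1).1 z.2 T' _ _ _
      have hψ : ψ₁ = ψ₂ := faces_hom_ext hNL hN'L' hL hN hdiff
        (key _ (MonAct.isEquivariant_restrict_regular _ _ _ (by rw [← AMonS.map_comp]; rfl)) x h₁)
        (key _ (isEquivariant_faceMapS S hN) y h₂)
      intro T' g b t
      have := congrArg (lift b (lift g t) ≫ ·) hψ
      simpa [ψ₁, ψ₂, comp_lift_assoc] using this
    exact ⟨⟨φ, hφ⟩, Subtype.ext h₁, Subtype.ext h₂⟩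

end Groth.L11.Magnet
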