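import Groth.Agent.L11.Magnet.Orbit
import Groth.Agent.L20.SchDesc.Cov
import Mathlib.Algebra.MonoidAlgebra.MapDomain
import Mathlib.GroupTheory.QuotientGroup.Defs
import Mathlib.RingTheory.Flat.FaithfullyFlat.Basic
import Mathlib.RingTheory.RingHom.FaithfullyFlat
import Mathlib.LinearAlgebra.FreeModule.Basic
import Mathlib.AlgebraicGeometry.Morphisms.QuasiCompact
import Mathlib.AlgebraicGeometry.Morphisms.Affine

/-!
Diagonalizable groups cover their quotients.
-/

set_option autoImplicit false
universe u

open CategoryTheory CategoryTheory.Limits MonoidalCategory CartesianMonoidalCategory MonObj AlgebraicGeometry Opposite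

set_option backward.isDefEq.respectTransparency.types false

noncomputable section

namespace Groth.L11.Magnet

open _root_.Magnet

variable {M : Type} [AddCommGroup M]

/-- The algebra of a group is free over the algebra of a subgroup. -/
theorem faithfullyFlat_mapDomain_subgroup (R : Type u) [CommRing R] [Nontrivial R] (Z : AddSubgroup M) :
    (MonoidAlgebra.mapDomainRingHom R
      (AddMonoidHom.toMultiplicative Z.toAddSubmonoid.subtype)).FaithfullyFlat := by
  classical
  let C := MonoidAlgebra R (Multiplicative Z.toAddSubmonoid)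
  let D := MonoidAlgebra R (Multiplicative M)
  let F : C →+* D := MonoidAlgebra.mapDomainRingHom R (AddMonoidHom.toMultiplicative Z.toAddSubmonoid.subtype)
  let : Algebra C D := F.toAlgebra
  show Module.FaithfullyFlat C D
  let rep : M ⧸ Z → M := Quotient.out
  have hrep : ∀ c, (QuotientAddGroup.mk (rep c) : M ⧸ Z) = c := fun c => Quotient.out_eq c
  let Φ : (M ⧸ Z →₀ C) →ₗ[C] D :=
    Finsupp.linearCombination C fun c => (MonoidAlgebra.single (Multiplicative.ofAdd (rep c)) 1 : D)
  have hΦ : ∀ (c : M ⧸ Z) (z : Multiplicative Z.toAddSubmonoid) (r : R),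
      Φ (Finsupp.single c (MonoidAlgebra.single z r)) =
        MonoidAlgebra.single (Multiplicative.ofAdd ((z.toAdd : M) + rep c)) r := by
    intro c z r
    rw [Finsupp.linearCombination_single, Algebra.smul_def]
    show F _ * _ = _
    rw [show F (MonoidAlgebra.single z r) = _ from MonoidAlgebra.mapDomain_single,
      MonoidAlgebra.single_mul_single, _root_.mul_one]
    rfl
  let z₀ : M → Multiplicative Z.toAddSubmonoid := fun m =>
    Multiplicative.ofAdd ⟨m - rep (QuotientAddGroup.mk m), by
      have := (QuotientAddGroup.eq (s := Z)).1 (hrep (QuotientAddGroup.mk m))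
      rwa [neg_add_eq_sub] at this⟩
  let Ψ : D →+ (M ⧸ Z →₀ C) :=
    (Finsupp.liftAddHom fun m : Multiplicative M =>
      (Finsupp.singleAddHom (QuotientAddGroup.mk m.toAdd : M ⧸ Z)).comp
        (MonoidAlgebra.singleAddHom (z₀ m.toAdd))).comp (MonoidAlgebra.coeffAddEquiv).toAddMonoidHom
  have hΨ : ∀ (m : Multiplicative M) (r : R), Ψ (MonoidAlgebra.single m r) =
      Finsupp.single (QuotientAddGroup.mk m.toAdd : M ⧸ Z) (MonoidAlgebra.single (z₀ m.toAdd) r) := by
    intro m r
    show Finsupp.liftAddHom _ (Finsupp.single m r) = _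
    simp
  have h1 : ∀ x, Φ (Ψ x) = x := by
    intro x
    induction x using MonoidAlgebra.induction_linear with
    | zero => simp
    | add x y hx hy => rw [map_add, map_add, hx, hy]
    | single m r =>
      rw [hΨ, hΦ]
      congr 1
      apply Multiplicative.toAdd.injective
      simp [z₀]
  have h2 : ∀ x, Ψ (Φ x) = x := by
    intro x
    induction x using Finsupp.induction_linear with
    | zero => simp
    | add x y hx hy => rw [map_add, map_add, hx, hy]
    | single c y =>
      induction y using MonoidAlgebra.induction_linear with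
      | zero => simp
      | add x y hx hy => rw [Finsupp.single_add, map_add, map_add, hx, hy]
      | single z r =>
        rw [hΦ, hΨ]
        have e : (QuotientAddGroup.mk ((z.toAdd : M) + rep c) : M ⧸ Z) = c := by
          rw [QuotientAddGroup.mk_add, hrep, (QuotientAddGroup.eq_zero_iff _).2 z.toAdd.2, zero_add]
        simp only [toAdd_ofAdd, e]
        congr 2
        apply Multiplicative.toAdd.injective
        apply Subtype.ext
        simp [z₀, e]
  let E : (M ⧸ Z →₀ C) ≃ₗ[C] D := LinearEquiv.ofBijective Φ
    ⟨Function.LeftInverse.injective h2, Function.RightInverse.surjective h1⟩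
  exact Module.FaithfullyFlat.of_linearEquiv _ _ E.symm

variable {S : Scheme.{u}} (Z : AddSubgroup M)

theorem props_map_subgroup :
    Flat (AMon.map (ULift.{u} ℤ) Z.toAddSubmonoid.subtype).left ∧
      Surjective (AMon.map (ULift.{u} ℤ) Z.toAddSubmonoid.subtype).left ∧
      QuasiCompact (AMon.map (ULift.{u} ℤ) Z.toAddSubmonoid.subtype).left := by
  have h := faithfullyFlat_mapDomain_subgroup (ULift.{u} ℤ) Z
  rw [AMon.map_left]
  obtain ⟨h1, h2⟩ := (flat_and_surjective_SpecMap_iff (CommRingCat.ofHom
    (MonoidAlgebra.mapDomainRingHom (ULift.{u} ℤ) (AddMonoidHom.toMultiplicative Z.toAddSubmonoid.subtype)))).2 h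
  have hq : QuasiCompact (Spec.map (CommRingCat.ofHom
    (MonoidAlgebra.mapDomainRingHom (ULift.{u} ℤ) (AddMonoidHom.toMultiplicative Z.toAddSubmonoid.subtype)))) :=
    inferInstance
  exact ⟨h1, h2, hq⟩

/-- A property stable under base change passes to products with a fixed object. -/
theorem whiskerRight_left_of {A B : Over S} (f : A ⟶ B) (T : Over S) (P : MorphismProperty Scheme.{u})
    [P.IsStableUnderBaseChange] (h : P f.left) : P (f ▷ T).left := by
  have e1 : (f ▷ T).left ≫ (snd B T).left = (snd A T).left := by rw [← Over.comp_left, whiskerRight_snd]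
  have : IsPullback (fst A T).left (f ▷ T).left f.left (fst B T).left := by
    refine IsPullback.of_bot ?_ ?_ (IsPullback.of_hasPullback B.hom T.hom)
    · rw [show f.left ≫ B.hom = A.hom from Over.w f]
      erw [e1]
      exact IsPullback.of_hasPullback A.hom T.hom
    · rw [← Over.comp_left, ← Over.comp_left, whiskerRight_fst]
  exact MorphismProperty.of_isPullback this h

/-- A property stable under base change passes to base changes of morphisms. -/
theorem pullback_map_left_of {S' : Scheme.{u}} (g : S ⟶ S') {A B : Over S'} (f : A ⟶ B)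
    (P : MorphismProperty Scheme.{u}) [P.IsStableUnderBaseChange] (h : P f.left) :
    P ((Over.pullback g).map f).left := by
  have : IsPullback (pullback.fst A.hom g) ((Over.pullback g).map f).left f.left (pullback.fst B.hom g) := by
    refine IsPullback.of_bot ?_ ?_ (IsPullback.of_hasPullback B.hom g)
    · rw [show f.left ≫ B.hom = A.hom from Over.w f]
      erw [Over.w ((Over.pullback g).map f)]
      exact IsPullback.of_hasPullback A.hom g
    · exact (pullback.lift_fst _ _ _).symm
  exact MorphismProperty.of_isPullback this h

theorem props_AMonS_map_subgroup (T : Over S) :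
    Flat (AMonS.map S Z.toAddSubmonoid.subtype ▷ T).left ∧
      Surjective (AMonS.map S Z.toAddSubmonoid.subtype ▷ T).left ∧
      QuasiCompact (AMonS.map S Z.toAddSubmonoid.subtype ▷ T).left := by
  obtain ⟨hf, hs, hq⟩ := props_map_subgroup.{u} Z
  exact ⟨whiskerRight_left_of _ _ @Flat (pullback_map_left_of _ _ @Flat hf),
    whiskerRight_left_of _ _ @Surjective (pullback_map_left_of _ _ @Surjective hs),
    whiskerRight_left_of _ _ @QuasiCompact (pullback_map_left_of _ _ @QuasiCompact hq)⟩

end Groth.L11.Magnet
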