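import Groth.Agent.L11.Magnet.AffineChart
import Mathlib.AlgebraicGeometry.Morphisms.Smooth

/-!
The limit map to the attractor of units is a vector bundle.
-/

set_option autoImplicit false
universe u

open CategoryTheory CategoryTheory.Limits MonoidalCategory CartesianMonoidalCategory MonObj AlgebraicGeometry Opposite

set_option backward.isDefEq.respectTransparency.types false

noncomputable section

namespace Groth.L11.Magnet

open _root_.Magnet

variable {S : Scheme.{u}} {M : Type} [AddCommGroup M] {X : Over S} (a : MonAct (AMonS S M) X) (N : AddSubmonoid M)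

/-- The limit of the universal family. -/
def limitMap {Z : Over S} (e : (attr a N).RepresentableBy Z) : Z ⟶ X :=
  (MonAct.eqvHom.evalAt (subAct S M N) a (limitPt N)).app (op Z) (e.homEquiv (𝟙 Z))

theorem comp_limitMap {Z : Over S} (e : (attr a N).RepresentableBy Z) {T : Over S} (z : T ⟶ Z) :
    z ≫ limitMap a N e = (MonAct.eqvHom.evalAt (subAct S M N) a (limitPt N)).app (op T) (e.homEquiv z) := by
  rw [e.homEquiv_eq z, NatTrans.naturality_apply]
  rfl

variable {Y : Over S} {aY : MonAct (AMonS S M) Y} {f : X ⟶ Y} {hf : MonAct.IsEquivariant a aY f}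

theorem isPullback_limitMap [IsOpenImmersion f.left] {ZX ZY : Over S} (eX : (attr a N).RepresentableBy ZX)
    (eY : (attr aY N).RepresentableBy ZY) (j : ZX ⟶ ZY)
    (hj : ∀ (T : Over S) (z : T ⟶ ZX),
      eY.homEquiv (z ≫ j) = (MonAct.eqvHom.postcomp (subAct S M N) f hf).app (op T) (eX.homEquiv z)) :
    IsPullback j (limitMap a N eX) (limitMap aY N eY) f := by
  have hX : yoneda.map (limitMap a N eX) = eX.toIso.hom ≫ MonAct.eqvHom.evalAt (subAct S M N) a (limitPt N) := by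
    ext T z
    exact comp_limitMap a N eX z
  have hY : yoneda.map (limitMap aY N eY) = eY.toIso.hom ≫ MonAct.eqvHom.evalAt (subAct S M N) aY (limitPt N) := by
    ext T z
    exact comp_limitMap aY N eY z
  have h0 : IsPullback (yoneda.map j) (yoneda.map (limitMap a N eX)) (yoneda.map (limitMap aY N eY)) (yoneda.map f) := by
    refine (isPullback_attr_open N a aY f hf).of_iso eX.toIso.symm eY.toIso.symm (Iso.refl _) (Iso.refl _)
      ?_ ?_ ?_ ?_
    · show MonAct.eqvHom.postcomp (subAct S M N) f hf ≫ eY.toIso.inv = eX.toIso.inv ≫ yoneda.map j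
      rw [Iso.comp_inv_eq, Category.assoc, Iso.eq_inv_comp]
      ext T z
      exact (hj (unop T) z).symm
    · simp [hX]
    · simp [hY]
    · simp
  exact IsPullback.of_map yoneda (yoneda.map_injective (by rw [Functor.map_comp, Functor.map_comp]; exact h0.w)) h0

theorem range_left_eq [IsOpenImmersion f.left] {ZX ZY : Over S} {j : ZX ⟶ ZY} {vX : ZX ⟶ X} {vY : ZY ⟶ Y}
    (h : IsPullback j vX vY f) : Set.range j.left = vY.left ⁻¹' Set.range f.left := by
  refine Set.Subset.antisymm ?_ fun p ⟨x, hx⟩ => ?_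
  · rintro _ ⟨q, rfl⟩
    exact ⟨vX.left q, (congrArg (fun k : ZX ⟶ Y => k.left q) h.w).symm⟩
  · obtain ⟨q, hq, -⟩ := Scheme.exists_preimage_of_isPullback (h.map (Over.forget S)) p x hx.symm
    exact ⟨q, hq⟩

theorem limitPt_unitFace : limitPt (S := S) (unitFace N) = η[AMonS S (unitFace N)] := by
  classical
  have h : (toUnit (𝟙_ (Over S)) ≫ limitPt (S := S) (unitFace N) : 𝟙_ (Over S) ⟶ AMonS S (unitFace N)) = 1 := by
    apply MPts.char_injective
    refine MonoidHom.ext fun n => ?_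
    obtain ⟨n', rfl⟩ : ∃ k, Multiplicative.ofAdd k = n := ⟨n.toAdd, rfl⟩
    rw [char_limitPt, if_pos, MPts.char_one]
    · rfl
    · obtain ⟨hn, y, hy, e⟩ := n'.2
      exact ⟨n'.2, y, ⟨hy, n', hn, by rw [add_comm]; exact e⟩, e⟩
  rw [Hom.one_def] at h
  simpa [toUnit_unique (toUnit (𝟙_ (Over S))) (𝟙 _)] using h

theorem evalAt_limitPt_eq {T : Over S} (φ : (attr a N).obj (op T)) :
    (MonAct.eqvHom.evalAt (subAct S M N) a (limitPt N)).app (op T) φ =
      (MonAct.eqvHom.evalAt (subAct S M (unitFace N)) a (limitPt (unitFace N))).app (op T)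
        ((attrFace a (isFace_unitFace N)).app (op T) φ) := by
  rw [MonAct.eqvHom.evalAt_app, MonAct.eqvHom.evalAt_app, attrFace_app_coe, lift_whiskerRight_assoc, limitPt_unitFace,
    limitPt, Category.assoc]

theorem exists_symmetricAlgebra_chart [AddGroup.FG M] [Smooth X.hom]
    {ZN Z0 : Over S} (eN : (attr a N).RepresentableBy ZN) (e0 : (attr a (unitFace N)).RepresentableBy Z0)
    (j : ZN ⟶ Z0) (hj : ∀ (T : Over S) (z : T ⟶ ZN),
      e0.homEquiv (z ≫ j) = (attrFace a (isFace_unitFace N)).app (op T) (eN.homEquiv z))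
    {U : X.left.Opens} (hU : IsAffineOpen U) {W : S.Opens} (hW : IsAffineOpen W) (hUW : U ≤ X.hom ⁻¹ᵁ W)
    (hst : (snd (AMonS S M) X).left ⁻¹ᵁ U ≤ a.act.left ⁻¹ᵁ U) (z : Z0.left)
    (hz : (limitMap a (unitFace N) e0).left z ∈ U) :
    ∃ (W : Z0.left.Opens) (hW : IsAffineOpen W), z ∈ W ∧
      ∃ (P : Type u) (_ : AddCommGroup P) (_ : Module Γ(Z0.left, W) P),
        Module.Finite Γ(Z0.left, W) P ∧ Module.Projective Γ(Z0.left, W) P ∧
        ∃ e : (↑(j.left ⁻¹ᵁ W) : Scheme.{u}) ≅ Spec (CommRingCat.of (SymmetricAlgebra Γ(Z0.left, W) P)),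
          e.hom ≫ Spec.map (CommRingCat.ofHom (algebraMap Γ(Z0.left, W) (SymmetricAlgebra Γ(Z0.left, W) P))) =
            (j.left ∣_ W) ≫ hW.isoSpec.hom := by
  let R : Type u := Γ(S, W)
  let A : Type u := Γ(X.left, U)
  let r : R →+* A := (X.hom.appLE W U hUW).hom
  letI : Algebra R A := r.toAlgebra
  have hsm : RingHom.Smooth (algebraMap R A) := X.hom.smooth_appLE hW hU hUW
  have : Algebra.Smooth R A := RingHom.smooth_algebraMap.1 hsm
  have hstr : affStr (A := A) hW.fromSpec = hU.fromSpec ≫ X.hom := hW.SpecMap_appLE_fromSpec X.hom hU hUW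
  let Xa : Over S := Over.mk (affStr (A := A) hW.fromSpec)
  let u : Xa ⟶ X := Over.homMk hU.fromSpec hstr.symm
  have : IsOpenImmersion u.left := inferInstanceAs (IsOpenImmersion hU.fromSpec)
  have : Mono u := Over.mono_of_mono_left u
  have hru : Set.range u.left = (U : Set X.left) := hU.range_fromSpec
  have hr : Set.range ((AMonS S M ◁ u) ≫ a.act).left ⊆ Set.range u.left := by
    rintro - ⟨p, rfl⟩
    have h1 : (AMonS S M ◁ u).left p ∈ (snd (AMonS S M) X).left ⁻¹ᵁ U := by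
      show (snd (AMonS S M) X).left ((AMonS S M ◁ u).left p) ∈ (U : Set X.left)
      rw [← hru]
      exact ⟨(snd (AMonS S M) Xa).left p,
        (congrArg (fun k : AMonS S M ⊗ Xa ⟶ X => k.left p) (whiskerLeft_snd (AMonS S M) u)).symm⟩
    rw [hru]
    exact hst h1
  let actU : AMonS S M ⊗ Xa ⟶ Xa :=
    Over.homMk (IsOpenImmersion.lift u.left ((AMonS S M ◁ u) ≫ a.act).left hr) (by
      rw [← Over.w u, ← Category.assoc, IsOpenImmersion.lift_fac]
      exact Over.w ((AMonS S M ◁ u) ≫ a.act))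
  have hactU : actU ≫ u = (AMonS S M ◁ u) ≫ a.act := Over.OverMorphism.ext (IsOpenImmersion.lift_fac _ _ _)
  have hp : ∀ (T : Over S) (g : T ⟶ AMonS S M) (x : T ⟶ Xa),
      (lift g x ≫ actU) ≫ u = lift g (x ≫ u) ≫ a.act := fun T g x => by
    rw [Category.assoc, hactU, lift_whiskerLeft_assoc]
  let aU : MonAct (AMonS S M) Xa := MonAct.mk' actU (fun T x => by rw [← cancel_mono u, hp, a.lift_one_act])
    (fun T g h x => by rw [← cancel_mono u, hp, hp, hp, a.lift_mul_act])
  have hu : MonAct.IsEquivariant aU a u := hactU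
  obtain ⟨𝒜, h𝒜⟩ := exists_coact hW.fromSpec aU
  obtain ⟨eUN, hUN, hlimN⟩ := exists_repr_chart hW.fromSpec aU 𝒜 h𝒜 N
  obtain ⟨eU0, hU0, -⟩ := exists_repr_chart hW.fromSpec aU 𝒜 h𝒜 (unitFace N)
  let QN := Over.mk (quotStr hW.fromSpec 𝒜 N)
  let Q0 := Over.mk (quotStr hW.fromSpec 𝒜 (unitFace N))
  -- the open pieces
  let kN : QN ⟶ ZN := eN.homEquiv.symm
    ((MonAct.eqvHom.postcomp (subAct S M N) u hu).app (op QN) (eUN.homEquiv (𝟙 QN)))
  let k0 : Q0 ⟶ Z0 := e0.homEquiv.symm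
    ((MonAct.eqvHom.postcomp (subAct S M (unitFace N)) u hu).app (op Q0) (eU0.homEquiv (𝟙 Q0)))
  have hkN : ∀ (T : Over S) (t : T ⟶ QN), eN.homEquiv (t ≫ kN) =
      (MonAct.eqvHom.postcomp (subAct S M N) u hu).app (op T) (eUN.homEquiv t) := fun T t => by
    rw [eN.homEquiv_comp, Equiv.apply_symm_apply, eUN.homEquiv_eq t, NatTrans.naturality_apply]
  have hk0 : ∀ (T : Over S) (t : T ⟶ Q0), e0.homEquiv (t ≫ k0) =
      (MonAct.eqvHom.postcomp (subAct S M (unitFace N)) u hu).app (op T) (eU0.homEquiv t) := fun T t => by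
    rw [e0.homEquiv_comp, Equiv.apply_symm_apply, eU0.homEquiv_eq t, NatTrans.naturality_apply]
  have hPN := isPullback_limitMap aU N eUN eN kN hkN
  have hP0 := isPullback_limitMap aU (unitFace N) eU0 e0 k0 hk0
  have : IsOpenImmersion kN.left :=
    MorphismProperty.of_isPullback (P := @IsOpenImmersion) (hPN.map (Over.forget S)).flip ‹_›
  have : IsOpenImmersion k0.left :=
    MorphismProperty.of_isPullback (P := @IsOpenImmersion) (hP0.map (Over.forget S)).flip ‹_›
  -- the limit is the section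
  let σ : QN ⟶ Q0 := Over.homMk (Spec.map (CommRingCat.ofHom (𝒜.sec N).toRingHom)) (by
    show Spec.map _ ≫ Spec.map _ ≫ Spec.map _ ≫ _ = Spec.map _ ≫ Spec.map _ ≫ _
    rw [← Spec.map_comp_assoc, ← Spec.map_comp_assoc, ← Spec.map_comp_assoc, ← CommRingCat.ofHom_comp,
      ← CommRingCat.ofHom_comp, ← CommRingCat.ofHom_comp]
    congr 3
    refine RingHom.ext fun x => ?_
    exact (𝒜.sec N).commutes x)
  have hσ : kN ≫ j = σ ≫ k0 := by
    apply e0.homEquiv.injective
    have hkN1 : eN.homEquiv kN = (MonAct.eqvHom.postcomp (subAct S M N) u hu).app (op QN) (eUN.homEquiv (𝟙 QN)) :=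
      Equiv.apply_symm_apply _ _
    rw [hj, hk0, hkN1]
    have hface : (attrFace aU (isFace_unitFace N)).app (op QN) (eUN.homEquiv (𝟙 QN)) = eU0.homEquiv σ := by
      have := affStr_isSeparated (A := A) hW.fromSpec
      refine attrToX_injective aU _ ?_
      rw [hU0]
      have h1 := evalAt_limitPt_eq aU N (eUN.homEquiv (𝟙 QN))
      rw [limitPt_unitFace] at h1
      rw [show attrToX aU (unitFace N) =
        MonAct.eqvHom.evalAt (subAct S M (unitFace N)) aU η[AMonS S (unitFace N)] from rfl, ← h1]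
      apply Over.OverMorphism.ext
      rw [hlimN]
      show _ = Spec.map _ ≫ Spec.map _
      rw [← Spec.map_comp, ← CommRingCat.ofHom_comp]
      rfl
    rw [← hface]
    exact Subtype.ext (Category.assoc _ _ _).symm
  have hjv : j ≫ limitMap a (unitFace N) e0 = limitMap a N eN := by
    have hj1 : e0.homEquiv j = (attrFace a (isFace_unitFace N)).app (op ZN) (eN.homEquiv (𝟙 ZN)) := by
      rw [← hj, Category.id_comp]
    rw [comp_limitMap, hj1]
    exact (evalAt_limitPt_eq a N _).symm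
  let W0 : Z0.left.Opens := k0.left.opensRange
  have : IsAffine Q0.left := inferInstanceAs (IsAffine (Spec _))
  have hW0 : IsAffineOpen W0 := isAffineOpen_opensRange k0.left
  have hW0' : (W0 : Set Z0.left) = (limitMap a (unitFace N) e0).left ⁻¹' (U : Set X.left) := by
    rw [← hru]
    exact range_left_eq hP0
  have hpre : kN.left.opensRange = j.left ⁻¹ᵁ W0 := by
    apply TopologicalSpace.Opens.ext
    show Set.range kN.left = j.left ⁻¹' (W0 : Set Z0.left)
    rw [range_left_eq hPN, hW0', hru, ← hjv]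
    rfl
  refine ⟨W0, hW0, show z ∈ (W0 : Set Z0.left) by rw [hW0']; exact hz, ?_⟩
  -- the coordinate ring
  let B : Type u := A ⧸ 𝒜.ideal (unitFace N)
  let C : Type u := A ⧸ 𝒜.ideal N
  let B' : Type u := Γ(Z0.left, W0)
  let α : Spec (CommRingCat.of B) ≅ Spec (CommRingCat.of B') := k0.left.isoOpensRange ≪≫ hW0.isoSpec
  let e : B' →+* B := (Spec.preimage α.hom).hom
  have he : Spec.map (CommRingCat.ofHom e) = α.hom := by rw [CommRingCat.ofHom_hom, Spec.map_preimage]
  let e' : B →+* B' := (Spec.preimage α.inv).hom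
  have he' : Spec.map (CommRingCat.ofHom e') = α.inv := by rw [CommRingCat.ofHom_hom, Spec.map_preimage]
  have hee' : e.comp e' = RingHom.id B := by
    have : Spec.map (CommRingCat.ofHom (e.comp e')) = Spec.map (CommRingCat.ofHom (RingHom.id B)) := by
      rw [CommRingCat.ofHom_comp, Spec.map_comp, he, he', α.hom_inv_id, CommRingCat.ofHom_id, Spec.map_id]
    exact congrArg CommRingCat.Hom.hom (Spec.map_injective this)
  have he'e : e'.comp e = RingHom.id B' := by
    have : Spec.map (CommRingCat.ofHom (e'.comp e)) = Spec.map (CommRingCat.ofHom (RingHom.id B')) := by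
      rw [CommRingCat.ofHom_comp, Spec.map_comp, he, he', α.inv_hom_id, CommRingCat.ofHom_id, Spec.map_id]
    exact congrArg CommRingCat.Hom.hom (Spec.map_injective this)
  letI : Algebra R B' := (e'.comp (algebraMap R B)).toAlgebra
  let eA : B' ≃ₐ[R] B :=
    AlgEquiv.ofRingEquiv (f := RingEquiv.ofRingHom e e' hee' he'e) fun x => DFunLike.congr_fun hee' (algebraMap R B x)
  letI : Algebra B' C := ((𝒜.sec N).toRingHom.comp e).toAlgebra
  have : IsScalarTower R B' C := IsScalarTower.of_algebraMap_eq fun x => by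
    show algebraMap R C x = 𝒜.sec N (e (e' (algebraMap R B x)))
    rw [show e (e' (algebraMap R B x)) = algebraMap R B x from DFunLike.congr_fun hee' _, AlgHom.commutes]
  obtain ⟨P, i1, i2, hfin, hproj, ⟨Φ⟩⟩ := 𝒜.exists_symmetricAlgebra N eA (fun b => rfl)
  let ε : Spec (CommRingCat.of C) ≅ Spec (CommRingCat.of (SymmetricAlgebra B' P)) :=
    Scheme.Spec.mapIso Φ.toRingEquiv.toCommRingCatIso.op
  refine ⟨P, i1, i2, hfin, hproj,
    (ZN.left.isoOfEq hpre.symm) ≪≫ kN.left.isoOpensRange.symm ≪≫ ε, ?_⟩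
  have hc : (ε.hom ≫ Spec.map (CommRingCat.ofHom (algebraMap B' (SymmetricAlgebra B' P)))) = σ.left ≫ α.hom := by
    rw [← he]
    show Spec.map _ ≫ Spec.map _ = Spec.map _ ≫ Spec.map _
    rw [← Spec.map_comp, ← Spec.map_comp]
    congr 1
    ext x
    exact Φ.commutes x
  have hσ' : σ.left ≫ k0.left.isoOpensRange.hom =
      kN.left.isoOpensRange.hom ≫ (ZN.left.isoOfEq hpre).hom ≫ (j.left ∣_ W0) := by
    rw [← cancel_mono W0.ι]
    simp only [Category.assoc, morphismRestrict_ι, Scheme.isoOfEq_hom_ι_assoc]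
    rw [show k0.left.isoOpensRange.hom ≫ W0.ι = k0.left from Scheme.Hom.isoOpensRange_hom_ι _,
      Scheme.Hom.isoOpensRange_hom_ι_assoc]
    exact (congrArg Over.Hom.left hσ).symm
  simp only [Iso.trans_hom, Iso.symm_hom, Category.assoc]
  rw [hc, show σ.left ≫ α.hom = (σ.left ≫ k0.left.isoOpensRange.hom) ≫ hW0.isoSpec.hom from
    (Category.assoc _ _ _).symm, hσ']
  simp only [Category.assoc, Iso.inv_hom_id_assoc]
  rw [← Category.assoc]
  exact (congrArg (· ≫ _) (show (ZN.left.isoOfEq hpre.symm).hom ≫ (ZN.left.isoOfEq hpre).hom = 𝟙 _ by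
    rw [← cancel_mono (j.left ⁻¹ᵁ W0).ι]; simp)).trans (Category.id_comp _)

theorem exists_symmetricAlgebra_local [AddGroup.FG M] [Smooth X.hom]
    (hlin : ∀ x : X.left, ∃ V : X.left.Opens, x ∈ V ∧ IsAffineHom (V.ι ≫ X.hom) ∧
      (snd (AMonS S M) X).left ⁻¹ᵁ V ≤ a.act.left ⁻¹ᵁ V)
    {ZN Z0 : Over S} (eN : (attr a N).RepresentableBy ZN) (e0 : (attr a (unitFace N)).RepresentableBy Z0)
    (j : ZN ⟶ Z0) (hj : ∀ (T : Over S) (z : T ⟶ ZN),
      e0.homEquiv (z ≫ j) = (attrFace a (isFace_unitFace N)).app (op T) (eN.homEquiv z)) (z : Z0.left) :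
    ∃ (W : Z0.left.Opens) (hW : IsAffineOpen W), z ∈ W ∧
      ∃ (P : Type u) (_ : AddCommGroup P) (_ : Module Γ(Z0.left, W) P),
        Module.Finite Γ(Z0.left, W) P ∧ Module.Projective Γ(Z0.left, W) P ∧
        ∃ e : (↑(j.left ⁻¹ᵁ W) : Scheme.{u}) ≅ Spec (CommRingCat.of (SymmetricAlgebra Γ(Z0.left, W) P)),
          e.hom ≫ Spec.map (CommRingCat.ofHom (algebraMap Γ(Z0.left, W) (SymmetricAlgebra Γ(Z0.left, W) P))) =
            (j.left ∣_ W) ≫ hW.isoSpec.hom := by
  obtain ⟨V, hxV, hV, hVs⟩ := hlin ((limitMap a (unitFace N) e0).left z)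
  obtain ⟨W, hW, hxW, -⟩ := exists_isAffineOpen_mem_and_subset (X := S)
    (x := X.hom ((limitMap a (unitFace N) e0).left z)) (U := ⊤) trivial
  have hU : IsAffineOpen (V.ι ''ᵁ ((V.ι ≫ X.hom) ⁻¹ᵁ W)) := (hW.preimage (V.ι ≫ X.hom)).image_of_isOpenImmersion V.ι
  have hmem : ∀ p, p ∈ V.ι ''ᵁ ((V.ι ≫ X.hom) ⁻¹ᵁ W) ↔ p ∈ V ∧ X.hom p ∈ W := fun p => by
    constructor
    · rintro ⟨q, hq, rfl⟩
      exact ⟨q.2, hq⟩
    · rintro ⟨h1, h2⟩
      exact ⟨⟨p, h1⟩, h2, rfl⟩
  refine exists_symmetricAlgebra_chart a N eN e0 j hj hU hW (fun p hp => ((hmem p).1 hp).2) (fun p hp => ?_) z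
    ((hmem _).2 ⟨hxV, hxW⟩)
  obtain ⟨h1, h2⟩ := (hmem _).1 hp
  refine (hmem _).2 ⟨hVs h1, ?_⟩
  rwa [show X.hom (a.act.left p) = X.hom ((snd (AMonS S M) X).left p) from
    congrArg (fun k : _ ⟶ S => k p) ((Over.w a.act).trans (Over.w (snd (AMonS S M) X)).symm)]

end Groth.L11.Magnet
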